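import Groth.Agent.CurvesB.SmoothCurveFacts
import Groth.Prelude.Def_Curve

/-!
# The local rings of a smooth curve over a field are principal ideal domains
-/

set_option autoImplicit false
universe u

open CategoryTheory CategoryTheory.Limits AlgebraicGeometry

namespace K321.SmoothPid

theorem isPrincipalIdealRing_of_smooth {k : Type u} [Field k] {X : Scheme.{u}} (f : X ⟶ Spec (CommRingCat.of k))
    [Smooth f] [IsIntegral X] (hdim : topologicalKrullDim X ≤ 1) (x : X) :
    IsPrincipalIdealRing (X.presheaf.stalk x) := by
  by_cases hx : x = genericPoint X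
  · subst hx
    let : Field (X.presheaf.stalk (genericPoint X)) := inferInstanceAs (Field X.functionField)
    infer_instance
  · have := Groth.Agent.CurvesB.SmoothCurveFacts.isDiscreteValuationRing_stalk f hdim hx
    infer_instance

theorem isPrincipalIdealRing {k : Type u} [Field k] {X : Scheme.{u}} {f : X ⟶ Spec (CommRingCat.of k)}
    (hX : Curve.IsSmoothProperCurve k X f) (x : X) : IsPrincipalIdealRing (X.presheaf.stalk x) := by
  obtain ⟨_, _, _, hdim⟩ := hX
  exact isPrincipalIdealRing_of_smooth f hdim.le x

end K321.SmoothPid
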