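import Groth.Agent.Curves.K321.LatRoof
import Groth.Agent.CycB.DegCurve

/-!
# The Euler characteristic of a locally free module with a basis of the generic stalk

`X` an integral curve, proper over a field `k`, whose local rings are principal ideal rings.  For `M` locally free of
rank `n`, `e` a basis of the generic stalk and `β x` bases of the generic stalk given by local bases near `x`:

`χ(M) - n χ(O_X) = ∑_x [κ(x) : k] ord_x (det (β x).toMatrix e)` (`euler_eq`).
-/

set_option autoImplicit false
universe u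

open CategoryTheory CategoryTheory.Limits AlgebraicGeometry TopologicalSpace Opposite Module

namespace K321.LatSum

open Groth.Agent Groth.Agent.CycB.StalkExact Groth.Agent.CycB.DegIntegral Groth.Agent.VarietyA.DegRank
open Groth.Agent.Sga67.Sec Groth.Agent.Sga67.LocBasis Groth.Agent.Sga67.LocBasisStalk
open K321.SubLoc K321.LatLoc K321.LatRoof

theorem finsum_mem_sub {α : Type*} (s : Set α) (f g : α → ℤ) (hf : {a | f a ≠ 0}.Finite) (hg : {a | g a ≠ 0}.Finite) :
    ∑ᶠ a ∈ s, (f a - g a) = (∑ᶠ a ∈ s, f a) - ∑ᶠ a ∈ s, g a := by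
  have h1 : {a | f a - g a ≠ 0}.Finite := by
    refine (hf.union hg).subset fun a ha => ?_
    by_contra hcon
    rw [Set.mem_union, not_or, Set.mem_ofPred_eq, Set.mem_ofPred_eq, not_not, not_not] at hcon
    exact ha (by rw [hcon.1, hcon.2, sub_zero])
  have h2 := finsum_mem_add_distrib' (s := s) (f := fun a => f a - g a) (g := g)
    (h1.subset Set.inter_subset_right) (hg.subset Set.inter_subset_right)
  rw [eq_sub_iff_add_eq, ← h2]
  exact finsum_mem_congr rfl fun a _ => by ring

theorem finite_mul {α : Type*} (f g : α → ℤ) (hf : {a | g a ≠ 0}.Finite) : {a | f a * g a ≠ 0}.Finite :=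
  hf.subset fun _ h => right_ne_zero_of_mul h

variable (k : Type u) [Field k] (X : Scheme.{u}) [X.Over (Spec (CommRingCat.of k))] [IsIntegral X]
  [IsProper (X ↘ Spec (CommRingCat.of k))]

/-- Points of an integral proper curve. -/
theorem points (hdim : topologicalKrullDim X = 1) :
    (∀ x, x ≠ genericPoint X → IsClosed ({x} : Set X)) ∧ ¬ IsClosed ({genericPoint X} : Set X) ∧
      ∀ x, x ≠ genericPoint X → ((X ↘ Spec (CommRingCat.of k)).residueFieldMap x).hom.Finite := by
  obtain ⟨δ, hδc⟩ := CycB.SetupLft.exists_deltaCompat (X ↘ Spec (CommRingCat.of k)) (fun _ => (0 : ℤ))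
  obtain ⟨-, -, -, h1, h2, h3⟩ := CycB.DegCurve.points k X hdim δ hδc
  exact ⟨h1, h2, h3⟩

/-- The Euler characteristic of a torsion module. -/
theorem euler_torsion (hdim : topologicalKrullDim X = 1) (Q : X.Modules) (hQ : Coh.IsCoh Q)
    (h0 : genericPoint X ∉ CohB1.support Q) :
    {x : X | (Module.length (X.presheaf.stalk x) (Q.presheaf.stalk x)).toNat ≠ 0}.Finite ∧
    Curv2.euler k X Q = ∑ᶠ x ∈ {x : X | IsClosed ({x} : Set X)},
      ((X ↘ Spec (CommRingCat.of k)).residueDegree x : ℤ) *
        ((Module.length (X.presheaf.stalk x) (Q.presheaf.stalk x)).toNat : ℤ) := by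
  have : IsLocallyNoetherian X := LocallyOfFiniteType.isLocallyNoetherian (X ↘ Spec (CommRingCat.of k))
  have : CompactSpace X := QuasiCompact.compactSpace_of_compactSpace (X ↘ Spec (CommRingCat.of k))
  have : IsNoetherian X := ⟨⟩
  have : NoetherianSpace X := inferInstance
  obtain ⟨hcl, -, hres⟩ := points k X hdim
  have hne : ∀ x ∈ CohB1.support Q, x ≠ genericPoint X := fun x hx h => h0 (h ▸ hx)
  have hZ : (CohB1.support Q).Finite :=
    finite_of_isClosed_points (Ega3B.Devissage.isClosed_support hQ) (fun x hx => hcl x (hne x hx))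
  have hs : ∀ x, x ∉ CohB1.support Q → Subsingleton (Q.presheaf.stalk x) := fun x hx => by
    by_contra h
    exact hx h
  have h1 := CycB.DegSky.euler_eq_sum k X Q hQ hZ (fun x hx => hcl x (hne x hx)) hs (fun x hx => hres x (hne x hx))
  have hsub : ∀ x, (Module.length (X.presheaf.stalk x) (Q.presheaf.stalk x)).toNat ≠ 0 → x ∈ CohB1.support Q := by
    intro x hx
    by_contra h
    have := hs x h
    rw [Module.length_eq_zero] at hx
    exact hx rfl
  refine ⟨hZ.subset hsub, ?_⟩
  rw [h1]
  symm
  apply finsum_mem_eq_sum_of_inter_support_eq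
  ext x
  constructor
  · rintro ⟨-, hx⟩
    refine ⟨?_, hx⟩
    rw [Set.Finite.coe_toFinset]
    exact hsub x (by exact_mod_cast right_ne_zero_of_mul hx)
  · rintro ⟨hx, hx'⟩
    rw [Set.Finite.coe_toFinset] at hx
    exact ⟨hcl x (hne x hx), hx'⟩

variable {X}

/-- The Euler characteristics of two locally free modules with isomorphic generic stalks. -/
theorem euler_sub_eq (hdim : topologicalKrullDim X = 1) (hX : ∀ x : X, IsPrincipalIdealRing (X.presheaf.stalk x))
    {M N : X.Modules} {n : ℕ} (hM : FlatMod.IsFinLocFreeOfRank n M) (hN : FlatMod.IsFinLocFreeOfRank n N)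
    (θ : M.presheaf.stalk (genericPoint X) ≃ₗ[X.presheaf.stalk (genericPoint X)] N.presheaf.stalk (genericPoint X))
    (βM : X → Basis (Fin n) (X.presheaf.stalk (genericPoint X)) (M.presheaf.stalk (genericPoint X)))
    (βN : X → Basis (Fin n) (X.presheaf.stalk (genericPoint X)) (N.presheaf.stalk (genericPoint X)))
    (hβM : ∀ x, LocAt M x (βM x)) (hβN : ∀ x, LocAt N x (βN x)) :
    {x : X | CycAlg.ordFrac (X.presheaf.stalk x) X.functionField
      (LinearMap.toMatrix (βM x) (βN x) (θ : _ →ₗ[X.presheaf.stalk (genericPoint X)] _)).det ≠ 0}.Finite ∧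
    Curv2.euler k X N - Curv2.euler k X M = ∑ᶠ x ∈ {x : X | IsClosed ({x} : Set X)},
      ((X ↘ Spec (CommRingCat.of k)).residueDegree x : ℤ) *
        CycAlg.ordFrac (X.presheaf.stalk x) X.functionField
          (LinearMap.toMatrix (βM x) (βN x) (θ : _ →ₗ[X.presheaf.stalk (genericPoint X)] _)).det := by
  have : IsLocallyNoetherian X := LocallyOfFiniteType.isLocallyNoetherian (X ↘ Spec (CommRingCat.of k))
  obtain ⟨P, p, q, hP, hp, hq, hpq⟩ := exists_roof hX hM hN θ
  have hMc := isCoh_of_rank hM
  have hNc := isCoh_of_rank hN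
  have hPc := isCoh_of_rank hP
  choose βP hβP using fun x => exists_locAt' hP x
  have hpi := fun x => stalkLin_injective_of_generic hP p hp.1 x
  have hqi := fun x => stalkLin_injective_of_generic hP q hq.1 x
  have mp : Mono p := VarietyA.StalkCrit.mono_of_stalks p hpi
  have mq : Mono q := VarietyA.StalkCrit.mono_of_stalks q hqi
  have cp : Coh.IsCoh (cokernel p) := Ega3B.DevQC.isCoh_cokernel p hPc.1 hMc
  have cq : Coh.IsCoh (cokernel q) := Ega3B.DevQC.isCoh_cokernel q hPc.1 hNc
  have sp := S1524.result k X _ (VarietyA.StalkCrit.shortExact_cokernel p) hPc hMc cp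
  have sq := S1524.result k X _ (VarietyA.StalkCrit.shortExact_cokernel q) hPc hNc cq
  change Curv2.euler k X M = Curv2.euler k X P + Curv2.euler k X (cokernel p) at sp
  change Curv2.euler k X N = Curv2.euler k X P + Curv2.euler k X (cokernel q) at sq
  obtain ⟨fp, ep⟩ := euler_torsion k X hdim _ cp (Ega3B.Devissage.notMem_support_cokernel p (genericPoint X) hp.2)
  obtain ⟨fq, eq⟩ := euler_torsion k X hdim _ cq (Ega3B.Devissage.notMem_support_cokernel q (genericPoint X) hq.2)
  have key : ∀ x : X, CycAlg.ordFrac (X.presheaf.stalk x) X.functionField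
      (LinearMap.toMatrix (βM x) (βN x) (θ : _ →ₗ[X.presheaf.stalk (genericPoint X)] _)).det =
      ((Module.length (X.presheaf.stalk x) ((cokernel q).presheaf.stalk x)).toNat : ℤ) -
      ((Module.length (X.presheaf.stalk x) ((cokernel p).presheaf.stalk x)).toNat : ℤ) := by
    intro x
    have := hX x
    obtain ⟨h1, h2⟩ := ordFrac_det p x (hpi x) (βP x) (βM x) (hβP x) (hβM x)
    obtain ⟨h3, h4⟩ := ordFrac_det q x (hqi x) (βP x) (βN x) (hβP x) (hβN x)
    have h5 : LinearMap.toMatrix (βP x) (βN x) (stalkLin q (genericPoint X)) =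
        LinearMap.toMatrix (βM x) (βN x) (θ : _ →ₗ[X.presheaf.stalk (genericPoint X)] _) *
          LinearMap.toMatrix (βP x) (βM x) (stalkLin p (genericPoint X)) := by
      rw [← LinearMap.toMatrix_comp]
      congr 1
      exact LinearMap.ext hpq
    rw [h5, Matrix.det_mul] at h3 h4
    rw [← h2, ← h4, CycB.OrdFrac.ordFrac_mul _ _ (left_ne_zero_of_mul h3) h1]
    ring
  have fp' : {x : X | ((Module.length (X.presheaf.stalk x) ((cokernel p).presheaf.stalk x)).toNat : ℤ) ≠ 0}.Finite :=
    fp.subset fun x hx => by exact_mod_cast (show _ from hx)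
  have fq' : {x : X | ((Module.length (X.presheaf.stalk x) ((cokernel q).presheaf.stalk x)).toNat : ℤ) ≠ 0}.Finite :=
    fq.subset fun x hx => by exact_mod_cast (show _ from hx)
  constructor
  · refine (fp'.union fq').subset fun x hx => ?_
    by_contra hcon
    rw [Set.mem_union, not_or, Set.mem_ofPred_eq, Set.mem_ofPred_eq, not_not, not_not] at hcon
    rw [Set.mem_ofPred_eq, key, hcon.1, hcon.2] at hx
    exact hx (sub_zero _)
  · have e1 : Curv2.euler k X N - Curv2.euler k X M =
        Curv2.euler k X (cokernel q) - Curv2.euler k X (cokernel p) := by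
      rw [sp, sq]
      ring
    rw [e1, ep, eq, ← finsum_mem_sub _ _ _ (finite_mul _ _ fq') (finite_mul _ _ fp')]
    refine finsum_mem_congr rfl fun x _ => ?_
    rw [key, mul_sub]

omit [IsIntegral X] in
theorem euler_biprod {F G : X.Modules} (hF : Coh.IsCoh F) (hG : Coh.IsCoh G) :
    Curv2.euler k X (F ⊞ G) = Curv2.euler k X F + Curv2.euler k X G := by
  have : IsLocallyNoetherian X := LocallyOfFiniteType.isLocallyNoetherian (X ↘ Spec (CommRingCat.of k))
  exact S1524.result k X (ShortComplex.mk (biprod.inl : F ⟶ F ⊞ G) (biprod.snd : F ⊞ G ⟶ G) (by simp))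
    (ShortComplex.Splitting.ofHasBinaryBiproduct F G).shortExact hF (Sga67.CohBasic.isCoh_biprod hF hG) hG

theorem euler_free (n : ℕ) : Curv2.euler k X (FlatMod.freeMod X n) = n * Curv2.euler k X (Coh.structureModule X) := by
  have h1 : Curv2.euler k X (FlatMod.freeMod X 1) = Curv2.euler k X (Coh.structureModule X) :=
    VarietyA.EulerAdd.euler_congr k (coproductUniqueIso (fun _ : Fin 1 => Coh.structureModule X))
  have h0 : Curv2.euler k X (FlatMod.freeMod X 0) = 0 := by
    have h2 := VarietyA.EulerAdd.euler_congr k (Dcoh.ResFree.freeModAdd (X := X) 0 0)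
    rw [euler_biprod k (PerfA.CohSerre.isCoh_freeMod 0) (PerfA.CohSerre.isCoh_freeMod 0)] at h2
    change _ = Curv2.euler k X (FlatMod.freeMod X 0) at h2
    omega
  induction n with
  | zero => rw [h0, Nat.cast_zero, zero_mul]
  | succ n ih =>
    rw [← VarietyA.EulerAdd.euler_congr k (Dcoh.ResFree.freeModAdd (X := X) n 1),
      euler_biprod k (PerfA.CohSerre.isCoh_freeMod n) (PerfA.CohSerre.isCoh_freeMod 1), ih, h1]
    push_cast
    ring

theorem exists_locAt_free (n : ℕ) :
    ∃ f : Basis (Fin n) (X.presheaf.stalk (genericPoint X)) ((FlatMod.freeMod X n).presheaf.stalk (genericPoint X)),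
      ∀ x : X, LocAt (FlatMod.freeMod X n) x f := by
  obtain ⟨f, -, hf⟩ := exists_locAt (x := genericPoint X) (U := ⊤) trivial _ (free_isLocBasis X n)
  exact ⟨f, fun x => ⟨⊤, trivial, trivial, _, free_isLocBasis X n, hf⟩⟩

/-- **The Euler characteristic of a locally free module from a rational basis.** -/
theorem euler_eq (hdim : topologicalKrullDim X = 1) (hX : ∀ x : X, IsPrincipalIdealRing (X.presheaf.stalk x))
    {M : X.Modules} {n : ℕ} (hM : FlatMod.IsFinLocFreeOfRank n M)
    (e : Basis (Fin n) (X.presheaf.stalk (genericPoint X)) (M.presheaf.stalk (genericPoint X)))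
    (β : X → Basis (Fin n) (X.presheaf.stalk (genericPoint X)) (M.presheaf.stalk (genericPoint X)))
    (hβ : ∀ x, LocAt M x (β x)) :
    {x : X | CycAlg.ordFrac (X.presheaf.stalk x) X.functionField ((β x).toMatrix e).det ≠ 0}.Finite ∧
    Curv2.euler k X M - n * Curv2.euler k X (Coh.structureModule X) =
      ∑ᶠ x ∈ {x : X | IsClosed ({x} : Set X)}, ((X ↘ Spec (CommRingCat.of k)).residueDegree x : ℤ) *
        CycAlg.ordFrac (X.presheaf.stalk x) X.functionField ((β x).toMatrix e).det := by
  obtain ⟨f, hf⟩ := exists_locAt_free (X := X) n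
  have hN : FlatMod.IsFinLocFreeOfRank n (FlatMod.freeMod X n) :=
    (Krr.H487.KerRank.isFinLocFreeOfRank_iff _).mpr fun _ => ⟨⊤, trivial, _, free_isLocBasis X n⟩
  obtain ⟨h1, h2⟩ := euler_sub_eq k hdim hX hN hM (f.equiv e (Equiv.refl _)) (fun _ => f) β hf hβ
  have key : ∀ x, LinearMap.toMatrix f (β x) (f.equiv e (Equiv.refl _) : _ →ₗ[X.presheaf.stalk (genericPoint X)] _) =
      (β x).toMatrix e := by
    intro x
    ext i j
    rw [LinearMap.toMatrix_apply, LinearEquiv.coe_coe, Basis.equiv_apply, Basis.toMatrix_apply]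
    rfl
  simp only [key] at h1 h2
  rw [euler_free] at h2
  exact ⟨h1, h2⟩

end K321.LatSum
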