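import Groth.Agent.VarietyA.DegRank
import Groth.Agent.VarietyA.StalkCrit
import Groth.Agent.Divis.StalkMod
import Groth.Agent.Krr.H487.KerRank
import Groth.Agent.Krr.H487.LocBasisPull
import Groth.Agent.Krr.H450.ConormalIso
import Groth.Agent.Ega3B.DevQC
import Groth.Agent.PerfA.CohSerre
import Groth.Agent.S0002
import Groth.Agent.S0047
import Mathlib.LinearAlgebra.FreeModule.PID

/-!
# Torsion-free coherent modules on integral schemes whose local rings are principal ideal domains

For `X` integral, locally Noetherian with all local rings principal (e.g. a regular curve):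

* `isFinLocFreeOfRank`: a coherent module with torsion-free stalks is finite locally free, of rank its generic rank;
* `TorsionFree.of_mono`, `torsionFree_of_finLocFree`.
* on a proper such curve: `deg_add` (additivity of the degree), `isZero_of_euler` (a coherent module of rank zero
  with `χ ≤ 0` vanishes), `isIso_of_mono_of_deg` (a monomorphism of modules of the same rank and degree is an
  isomorphism), `deg_le_of_mono`.
-/

set_option autoImplicit false
universe u

open CategoryTheory CategoryTheory.Limits AlgebraicGeometry TopologicalSpace Opposite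

namespace K321.SubLoc

open Groth.Agent.CycB.StalkExact Groth.Agent.Ega3B.Devissage
open Groth.Agent.VarietyA.DegRank
open Groth.Agent.Sga67.Sec Groth.Agent.Sga67.LocBasis

variable {X : Scheme.{u}}

/-- All stalks are torsion-free. -/
def TorsionFree (M : X.Modules) : Prop :=
  ∀ x : X, Module.IsTorsionFree (X.presheaf.stalk x) (M.presheaf.stalk x)

theorem TorsionFree.of_mono {M N : X.Modules} (i : M ⟶ N) [Mono i] (h : TorsionFree N) : TorsionFree M := by
  intro x
  have := h x
  exact (stalkLin_injective i x).moduleIsTorsionFree (stalkLin i x) (fun r m => map_smul _ r m)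

theorem torsionFree_of_finLocFree [IsIntegral X] {M : X.Modules} (h : FlatMod.IsFinLocFree M) :
    TorsionFree M := by
  intro x
  have := (Groth.Agent.Divis.StalkMod.finite_free_stalk
    (Groth.Agent.PerfA.CohSerre.isCoh_of_isFinLocFree h).1 h x).2
  infer_instance

theorem isCoh_of_rank {M : X.Modules} {n : ℕ} (h : FlatMod.IsFinLocFreeOfRank n M) : Coh.IsCoh M :=
  Groth.Agent.PerfA.CohSerre.isCoh_of_isFinLocFree (Groth.Agent.Krr.H487.KerRank.isFinLocFree_of_rank h)

theorem torsionFree_of_rank [IsIntegral X] {M : X.Modules} {n : ℕ} (h : FlatMod.IsFinLocFreeOfRank n M) :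
    TorsionFree M :=
  torsionFree_of_finLocFree (Groth.Agent.Krr.H487.KerRank.isFinLocFree_of_rank h)

theorem isFinLocFree [IsIntegral X] [IsLocallyNoetherian X]
    (hX : ∀ x : X, IsPrincipalIdealRing (X.presheaf.stalk x)) {M : X.Modules} (hM : Coh.IsCoh M)
    (ht : TorsionFree M) : FlatMod.IsFinLocFree M := by
  refine Groth.Agent.Divis.StalkMod.isFinLocFree_of_free_stalk hM fun x => ?_
  have := hX x
  have := ht x
  have := Groth.Agent.Divis.StalkMod.finite_stalk hM x
  exact Module.free_of_finite_type_torsion_free'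

/-- The rank of a finite locally free module is its generic rank. -/
theorem isFinLocFreeOfRank_rk [IsIntegral X] {M : X.Modules} (h : FlatMod.IsFinLocFree M) :
    FlatMod.IsFinLocFreeOfRank (rk M) M := by
  refine Groth.Agent.Krr.H487.KerRank.isFinLocFreeOfRank_of_forall h ?_
  intro x U m b hx hb
  have hη : genericPoint X ∈ U := (genericPoint_spec X).mem_open_set_iff U.2 |>.2 ⟨x, trivial, hx⟩
  obtain ⟨β, -⟩ := Groth.Agent.Krr.H487.LocBasisPull.exists_stalkBasis hb (genericPoint X) hη
  rw [rk, Module.finrank_eq_card_basis β, Fintype.card_fin]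

theorem rk_eq [IsIntegral X] {M : X.Modules} {n : ℕ} (h : FlatMod.IsFinLocFreeOfRank n M) : rk M = n := by
  obtain ⟨β⟩ := Groth.Agent.Krr.H450.ConormalIso.exists_basis_stalk h (genericPoint X)
  rw [rk, Module.finrank_eq_card_basis β, Fintype.card_fin]

theorem isFinLocFreeOfRank [IsIntegral X] [IsLocallyNoetherian X]
    (hX : ∀ x : X, IsPrincipalIdealRing (X.presheaf.stalk x)) {M : X.Modules} (hM : Coh.IsCoh M)
    (ht : TorsionFree M) : FlatMod.IsFinLocFreeOfRank (rk M) M :=
  isFinLocFreeOfRank_rk (isFinLocFree hX hM ht)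

/-- A torsion-free module whose generic stalk vanishes is zero. -/
theorem isZero_of_rk [IsIntegral X] [IsLocallyNoetherian X]
    (hX : ∀ x : X, IsPrincipalIdealRing (X.presheaf.stalk x)) {M : X.Modules} (hM : Coh.IsCoh M)
    (ht : TorsionFree M) (h : rk M = 0) : IsZero M := by
  have h1 := isFinLocFreeOfRank hX hM ht
  rw [h] at h1
  refine Groth.Agent.VarietyA.StalkCrit.isZero_of_stalks M fun x => ?_
  obtain ⟨β⟩ := Groth.Agent.Krr.H450.ConormalIso.exists_basis_stalk h1 x
  exact (β.equivFun.toEquiv).subsingleton

section curve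

open Groth.Agent.VarietyA.GlobGen Groth.Agent.VarietyA.StalkCrit Groth.Agent.VarietyA.EulerFinite

theorem not_mem_support_of_rk [IsIntegral X] [IsLocallyNoetherian X] {Q : X.Modules} (hQ : Coh.IsCoh Q)
    (h : rk Q = 0) : genericPoint X ∉ CohB1.support Q := by
  rw [not_mem_support_iff]
  have := Groth.Agent.Divis.StalkMod.finite_stalk hQ (genericPoint X)
  let : Field (X.presheaf.stalk (genericPoint X)) := inferInstanceAs (Field X.functionField)
  exact Module.finrank_zero_iff.1 h

variable (k : Type u) [Field k] [X.Over (Spec (CommRingCat.of k))] [IsProper (X ↘ (Spec (CommRingCat.of k)))]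

include k in
variable (X) in
theorem isNoetherian : IsNoetherian X :=
  isNoetherian_of_finiteType (X ↘ (Spec (CommRingCat.of k)))

/-- Additivity of the degree. -/
theorem deg_add (S : ShortComplex X.Modules) (hS : S.ShortExact)
    (h₁ : Coh.IsCoh S.X₁) (h₂ : Coh.IsCoh S.X₂) (h₃ : Coh.IsCoh S.X₃) (a b : ℕ) :
    Curv2.deg k X S.X₂ (a + b) = Curv2.deg k X S.X₁ a + Curv2.deg k X S.X₃ b := by
  have e2 := Groth.Agent.S1524.result k X S hS h₁ h₂ h₃
  rw [Curv2.deg, Curv2.deg, Curv2.deg, e2]
  push_cast
  ring

/-- A coherent module of generic rank zero on a proper scheme of dimension at most one has `χ ≥ 0`, with equality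
only for the zero module. -/
theorem euler_nonneg [IsIntegral X] (hdim : topologicalKrullDim X ≤ 1) {Q : X.Modules} (hQ : Coh.IsCoh Q)
    (h : rk Q = 0) : 0 ≤ Curv2.euler k X Q ∧ (Curv2.euler k X Q = 0 → IsZero Q) := by
  have : IsNoetherian X := isNoetherian X k
  have h0 := not_mem_support_of_rk hQ h
  have hsupp := dim_support_le_zero hdim Q hQ h0
  have hfin := finite_support Q hQ.2 hsupp
  have hcl : ∀ x ∈ CohB1.support Q, IsClosed ({x} : Set X) := fun x hx =>
    isClosed_singleton_of_mem_support Q hQ.2 hsupp hx
  have hst : ∀ x, x ∉ CohB1.support Q → Subsingleton (Q.presheaf.stalk x) := fun x hx =>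
    (not_mem_support_iff Q x).mp hx
  rw [euler_eq_of_vanish k X Q (fun i hi => Groth.Agent.S0047.result X Q hQ hcl i hi)]
  refine ⟨by positivity, fun h => isZero_of_stalks Q fun x => ?_⟩
  have hz : Module.finrank k (Coh.HH X Q 0) = 0 := by exact_mod_cast h
  have := Groth.Agent.S0002.result k X Q hQ 0
  have h1 : Subsingleton (Coh.HH X Q 0) := Module.finrank_zero_iff.1 hz
  have e := Groth.Agent.VarietyA.FiniteSupportK.hZeroGerms k X Q hfin hcl hst
  by_cases hx : x ∈ CohB1.support Q
  · have h2 : Subsingleton (∀ x : CohB1.support Q, Q.presheaf.stalk (x : X)) := e.toEquiv.symm.subsingleton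
    constructor
    intro a b
    classical
    let z : ∀ x : CohB1.support Q, Q.presheaf.stalk (x : X) := fun _ => 0
    have h3 : Function.update z ⟨x, hx⟩ a = Function.update z ⟨x, hx⟩ b := Subsingleton.elim _ _
    have h4 := congrFun h3 ⟨x, hx⟩
    simpa using h4
  · exact hst x hx

/-- A monomorphism between coherent modules of the same generic rank does not decrease `χ`, and is an isomorphism
if it preserves it. -/
theorem euler_le_of_mono [IsIntegral X] (hdim : topologicalKrullDim X ≤ 1) {M N : X.Modules} (i : M ⟶ N) [Mono i]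
    (hM : Coh.IsCoh M) (hN : Coh.IsCoh N) (h : rk M = rk N) :
    Curv2.euler k X M ≤ Curv2.euler k X N ∧ (Curv2.euler k X M = Curv2.euler k X N → IsIso i) := by
  have : IsNoetherian X := isNoetherian X k
  have hC : Coh.IsCoh (cokernel i) := Groth.Agent.Ega3B.DevQC.isCoh_cokernel i hM.1 hN
  have hS := shortExact_cokernel i
  have h1 := Groth.Agent.S1524.result k X _ hS hM hN hC
  have h2 := rk_add _ hS hN
  change rk N = rk M + rk (cokernel i) at h2
  change Curv2.euler k X N = Curv2.euler k X M + Curv2.euler k X (cokernel i) at h1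
  obtain ⟨h3, h4⟩ := euler_nonneg k hdim hC (by omega)
  refine ⟨by omega, fun h5 => ?_⟩
  have h6 := h4 (by omega)
  have : Epi i := Preadditive.epi_of_isZero_cokernel i h6
  exact isIso_of_mono_of_epi i

end curve

end K321.SubLoc
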