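import Groth.Agent.Curves.K321.HurwMain
import Groth.Agent.Dix.EtMinD
import Groth.Agent.CurvesC.CurveCoh
import Groth.Agent.CurvesB.SmoothCurveFacts

/-!
# Finite étale morphisms of curves

`euler_eq_of_etale`: `χ(O_X) = n χ(O_Y)` for a finite étale morphism of degree `n` of normal curves.
`isIso_of_genus_zero`.
-/

set_option autoImplicit false
universe u

open CategoryTheory CategoryTheory.Limits AlgebraicGeometry TopologicalSpace Opposite Module

namespace K321.HurwEt

open Groth.Agent Groth.Agent.Divis.NormSheaf
open K321.HurwLoc K321.HurwBase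

theorem isNormal_of_smooth {k : Type u} [Field k] {X : Scheme.{u}} (f : X ⟶ Spec (CommRingCat.of k))
    [Smooth f] [IsIntegral X] (hdim : topologicalKrullDim X ≤ 1) : Pi1.IsNormalScheme X := by
  intro x
  refine ⟨inferInstance, ?_⟩
  by_cases hx : x = genericPoint X
  · subst hx
    let : Field (X.presheaf.stalk (genericPoint X)) := inferInstanceAs (Field X.functionField)
    infer_instance
  · have := Groth.Agent.CurvesB.SmoothCurveFacts.isDiscreteValuationRing_stalk f hdim hx
    infer_instance

theorem surjective_of_etale {X Y : Scheme.{u}} [IsIntegral X] [IsIntegral Y] (f : X ⟶ Y) [IsFinite f] [Etale f] :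
    Surjective f := by
  have h1 : IsClosed (Set.range f) := f.isClosedMap.isClosed_range
  have h2 : IsOpen (Set.range f) := f.isOpenMap.isOpen_range
  refine ⟨?_⟩
  rw [← Set.range_eq_univ]
  exact IsClopen.eq_univ ⟨h1, h2⟩ (Set.range_nonempty _)

theorem ram_and_tame {X Y : Scheme.{u}} (f : X ⟶ Y) [FormallyUnramified f] [LocallyOfFiniteType f] (x : X)
    (hS0 : IsDomain (X.presheaf.stalk x))
    (hS : IsDiscreteValuationRing (X.presheaf.stalk x)) : ram f x = 1 ∧ Tame f x := by
  have key : ram f x = 1 := by
    let := (f.stalkMap x).hom.toAlgebra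
    have hloc : IsLocalHom (algebraMap (Y.presheaf.stalk (f x)) (X.presheaf.stalk x)) :=
      inferInstanceAs (IsLocalHom (f.stalkMap x).hom)
    have : Algebra.EssFiniteType (Y.presheaf.stalk (f x)) (X.presheaf.stalk x) := by
      rw [← RingHom.essFiniteType_algebraMap, RingHom.algebraMap_toAlgebra]
      exact LocallyOfFiniteType.stalkMap f x
    have : Algebra.FormallyUnramified (Y.presheaf.stalk (f x)) (X.presheaf.stalk x) := by
      rw [← RingHom.formallyUnramified_algebraMap, RingHom.algebraMap_toAlgebra]
      exact FormallyUnramified.stalkMap f x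
    have : (IsLocalRing.maximalIdeal (X.presheaf.stalk x)).LiesOver (IsLocalRing.maximalIdeal (Y.presheaf.stalk (f x))) := by
      constructor
      ext x
      rw [Ideal.mem_comap, IsLocalRing.mem_maximalIdeal, IsLocalRing.mem_maximalIdeal, mem_nonunits_iff,
        mem_nonunits_iff, isUnit_map_iff]
    refine Lefpen.H534.RamAlg.ramificationIdx_eq (IsLocalRing.maximalIdeal (Y.presheaf.stalk (f x))) 1 ?_
    rw [pow_one]
    exact Algebra.FormallyUnramified.map_maximalIdeal
  refine ⟨key, ?_, ?_⟩
  · exact (inferInstance : letI : Algebra (Y.residueField (f.base x)) (X.residueField x) :=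
      (f.residueFieldMap x).hom.toAlgebra
    Algebra.IsSeparable (Y.residueField (f.base x)) (X.residueField x))
  · rw [key, Nat.cast_one]
    exact one_ne_zero

theorem isSeparable_of_unramified {X Y : Scheme.{u}} [IsIntegral X] [IsIntegral Y] (f : X ⟶ Y) [Surjective f]
    [FormallyUnramified f] [LocallyOfFiniteType f] :
    letI := alg f; Algebra.IsSeparable Y.functionField X.functionField := by
  let := alg f
  let ir : Algebra (Y.residueField (f (genericPoint X))) (X.residueField (genericPoint X)) :=
    (f.residueFieldMap (genericPoint X)).hom.toAlgebra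
  have hs : Algebra.IsSeparable (Y.residueField (f (genericPoint X))) (X.residueField (genericPoint X)) :=
    (inferInstance : letI : Algebra (Y.residueField (f.base (genericPoint X))) (X.residueField (genericPoint X)) :=
      (f.residueFieldMap (genericPoint X)).hom.toAlgebra
    Algebra.IsSeparable (Y.residueField (f.base (genericPoint X))) (X.residueField (genericPoint X)))
  have hsq : ∀ a : Y.functionField, algebraMap (Y.residueField (f (genericPoint X))) (X.residueField (genericPoint X))
      (sY f a) = sX X (ff f a) := by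
    intro a
    exact congr($(Scheme.residue_residueFieldMap f (genericPoint X)).hom
      (Y.presheaf.stalkSpecializes (specializes_of_eq (map_genericPoint f)) a))
  refine Algebra.IsSeparable.of_equiv_equiv (sY f).symm (sX X).symm ?_
  ext a
  apply (sX X).injective
  simp only [RingHom.comp_apply, RingEquiv.coe_toRingHom, RingEquiv.apply_symm_apply]
  have h1 := hsq ((sY f).symm a)
  rw [RingEquiv.apply_symm_apply] at h1
  exact h1.symm

attribute [local instance] Curv2.resAlgebra

/-- Multiplicativity of the Euler characteristic for finite étale morphisms. -/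
theorem euler_eq_of_etale (k : Type u) [Field k]
    (X Y : Scheme.{u}) [X.Over (Spec (CommRingCat.of k))] [Y.Over (Spec (CommRingCat.of k))]
    [IsProper (X ↘ (Spec (CommRingCat.of k)))] [IsProper (Y ↘ (Spec (CommRingCat.of k)))]
    [IsIntegral X] [IsIntegral Y] (hdX : topologicalKrullDim X = 1) (hdY : topologicalKrullDim Y = 1)
    (hnX : Pi1.IsNormalScheme X) (hnY : Pi1.IsNormalScheme Y)
    (f : X ⟶ Y) [IsFinite f] [Etale f] [Surjective f]
    (hf : f ≫ (Y ↘ (Spec (CommRingCat.of k))) = X ↘ (Spec (CommRingCat.of k))) :
    letI := alg f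
    Curv2.euler k X (Coh.structureModule X) =
      (finrank Y.functionField X.functionField : ℤ) * Curv2.euler k Y (Coh.structureModule Y) := by
  classical
  let := alg f
  have : IsLocallyNoetherian X := LocallyOfFiniteType.isLocallyNoetherian (X ↘ Spec (CommRingCat.of k))
  obtain ⟨hX1, hX2, -⟩ := LatSum.points k X hdX
  have hxy : ∀ x : X, IsClosed ({x} : Set X) → ram f x = 1 ∧ Tame f x := by
    intro x hx
    refine ram_and_tame f x inferInstance (NormPid.isDiscreteValuationRing hnX hdX.le ?_)
    rintro rfl
    exact hX2 hx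
  obtain ⟨-, h2⟩ := HurwMain.main k X Y hdX hdY hnX hnY f hf (isSeparable_of_unramified f)
  have h3 := h2.2 fun x hx => (hxy x hx).2
  have h4 : ∑ᶠ x : X, (if IsClosed ({x} : Set X) then
        (((ram f x - 1 : ℕ) : ℤ) * (Module.finrank k (X.residueField x) : ℤ)) else 0) = 0 := by
    refine finsum_eq_zero_of_forall_eq_zero fun x => ?_
    split_ifs with hx
    · rw [(hxy x hx).1]
      simp
    · rfl
  rw [h4] at h3
  linarith

theorem isIso_of_genus_zero (k : Type u) [Field k]
    (X Y : Scheme.{u}) [X.Over (Spec (CommRingCat.of k))] [Y.Over (Spec (CommRingCat.of k))]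
    [IsProper (X ↘ (Spec (CommRingCat.of k)))] [IsProper (Y ↘ (Spec (CommRingCat.of k)))]
    [IsIntegral X] [IsIntegral Y] (hdX : topologicalKrullDim X = 1) (hdY : topologicalKrullDim Y = 1)
    (hnX : Pi1.IsNormalScheme X) (hnY : Pi1.IsNormalScheme Y)
    (hX0 : Module.finrank k (Coh.HH X (Coh.structureModule X) 0) = 1)
    (hY0 : Module.finrank k (Coh.HH Y (Coh.structureModule Y) 0) = 1)
    (f : X ⟶ Y) [IsFinite f] [Etale f]
    (hf : f ≫ (Y ↘ (Spec (CommRingCat.of k))) = X ↘ (Spec (CommRingCat.of k)))
    (hg : Curv2.genus k Y = 0) : IsIso f := by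
  have := surjective_of_etale f
  let := alg f
  have hfd := finite_functionField f
  have : IsLocallyNoetherian Y := LocallyOfFiniteType.isLocallyNoetherian (Y ↘ Spec (CommRingCat.of k))
  have : IsLocallyNoetherian X := LocallyOfFiniteType.isLocallyNoetherian (X ↘ Spec (CommRingCat.of k))
  have h1 := euler_eq_of_etale k X Y hdX hdY hnX hnY f hf
  have h2 := CurvesC.CurveCoh.euler_eq k X hdX (Coh.structureModule X)
  have h3 := CurvesC.CurveCoh.euler_eq k Y hdY (Coh.structureModule Y)
  have h4 : Module.finrank k (Coh.HH Y (Coh.structureModule Y) 1) = 0 := hg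
  rw [hX0] at h2
  rw [hY0, h4] at h3
  have hn : 0 < finrank Y.functionField X.functionField := Module.finrank_pos
  have hn1 : finrank Y.functionField X.functionField = 1 := by
    rw [h3] at h1
    have : (0 : ℤ) ≤ Module.finrank k (Coh.HH X (Coh.structureModule X) 1) := by positivity
    have h5 : ((finrank Y.functionField X.functionField : ℕ) : ℤ) ≤ 1 := by
      push_cast at h1 h2
      linarith
    have h6 : finrank Y.functionField X.functionField ≤ 1 := by exact_mod_cast h5
    omega
  have hM := PushEq.isFinLocFreeOfRank_PO f hnX (NormPid.isPrincipalIdealRing hnY hdY.le)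
  rw [hn1] at hM
  exact Dix.EtMinD.isIso_of_finrank_stalk_push f (SubLoc.rk_eq hM)

end K321.HurwEt
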