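import Groth.Agent.Curves.K321.Hurw
import Groth.Prelude.Def_Curv2
import Groth.Agent.Ega3B.ProjProper

/-!
# Set-up for the Hurwitz statements
-/

set_option autoImplicit false
universe u

open CategoryTheory CategoryTheory.Limits AlgebraicGeometry TopologicalSpace Opposite Module

namespace K321.HurwBase

open Groth.Agent

attribute [local instance] Curv2.resAlgebra

theorem finrank_residueField (k : Type u) [Field k] (X : Scheme.{u}) [X.Over (Spec (CommRingCat.of k))] (x : X) :
    Module.finrank k (X.residueField x) = (X ↘ Spec (CommRingCat.of k)).residueDegree x := by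
  unfold Scheme.Hom.residueDegree
  set c := X ↘ Spec (CommRingCat.of k) with hc
  let _ := (c.residueFieldMap x).hom.toAlgebra
  let φ : k →+* (Spec (CommRingCat.of k)).residueField (c x) :=
    ((Spec (CommRingCat.of k)).residue (c x)).hom.comp
      (((Spec (CommRingCat.of k)).presheaf.germ ⊤ (c x) trivial).hom.comp (Scheme.ΓSpecIso (CommRingCat.of k)).inv.hom)
  have hφ : Function.Bijective φ :=
    ⟨φ.injective, (Scheme.residue_surjective _ _).comp (CycB.DegSky.surjective_stalk k (c x))⟩
  refine Algebra.finrank_eq_of_equiv_equiv (RingEquiv.ofBijective φ hφ) (RingEquiv.refl _) ?_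
  ext a
  have h1 := congr($(Scheme.residue_residueFieldMap c x).hom
    ((Spec (CommRingCat.of k)).presheaf.germ ⊤ (c x) trivial ((Scheme.ΓSpecIso (CommRingCat.of k)).inv a)))
  refine h1.trans ?_
  refine congrArg (X.residue x) ?_
  exact Scheme.Hom.germ_stalkMap_apply c ⊤ x trivial _

/-- A finite dominant morphism is surjective. -/
theorem surjective_of_finite {X Y : Scheme.{u}} [IsIntegral X] [IsIntegral Y] (f : X ⟶ Y) [IsFinite f]
    (e : f (genericPoint X) = genericPoint Y) : Surjective f := by
  refine ⟨fun y => ?_⟩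
  have h1 : IsClosed (Set.range f) := f.isClosedMap.isClosed_range
  have h2 : closure ({genericPoint Y} : Set Y) ⊆ Set.range f := by
    rw [h1.closure_subset_iff, Set.singleton_subset_iff]
    exact ⟨_, e⟩
  rw [genericPoint_closure] at h2
  exact h2 trivial

open IsLocalRing in
theorem ramificationIdx_pos {R S : Type*} [CommRing R] [IsDomain R] [IsDiscreteValuationRing R] [CommRing S]
    [IsDomain S] [IsDiscreteValuationRing S] [Algebra R S] (hinj : Function.Injective (algebraMap R S))
    [IsLocalHom (algebraMap R S)] : 1 ≤ (maximalIdeal S).ramificationIdx R := by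
  obtain ⟨ϖ, hϖ⟩ := IsDiscreteValuationRing.exists_irreducible R
  obtain ⟨t, ht⟩ := IsDiscreteValuationRing.exists_irreducible S
  have h0 : algebraMap R S ϖ ≠ 0 := fun h => hϖ.ne_zero (hinj (h.trans (map_zero _).symm))
  obtain ⟨e, u, hu⟩ := IsDiscreteValuationRing.eq_unit_mul_pow_irreducible h0 ht
  have he : e ≠ 0 := by
    rintro rfl
    rw [pow_zero, mul_one] at hu
    have h1 : IsUnit (algebraMap R S ϖ) := hu ▸ u.isUnit
    exact hϖ.not_isUnit ((isUnit_map_iff _ _).1 h1)
  have : (maximalIdeal S).LiesOver (maximalIdeal R) := by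
    constructor
    ext x
    rw [Ideal.mem_comap, mem_maximalIdeal, mem_maximalIdeal, mem_nonunits_iff, mem_nonunits_iff, isUnit_map_iff]
  have h2 : (maximalIdeal S).ramificationIdx R = e := by
    refine Lefpen.H534.RamAlg.ramificationIdx_eq (maximalIdeal R) e ?_
    rw [hϖ.maximalIdeal_eq, Ideal.map_span, Set.image_singleton, hu, ht.maximalIdeal_eq, Ideal.span_singleton_pow,
      mul_comm, Ideal.span_singleton_mul_right_unit u.isUnit]
  omega

theorem ram_pos {X Y : Scheme.{u}} [IsIntegral X] [IsIntegral Y] (f : X ⟶ Y)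
    [Surjective f] (x : X) (hS : IsDiscreteValuationRing (X.presheaf.stalk x))
    (hR : IsDiscreteValuationRing (Y.presheaf.stalk (f x))) : 1 ≤ HurwLoc.ram f x := by
  let := (f.stalkMap x).hom.toAlgebra
  have hloc : IsLocalHom (algebraMap (Y.presheaf.stalk (f x)) (X.presheaf.stalk x)) :=
    inferInstanceAs (IsLocalHom (f.stalkMap x).hom)
  refine ramificationIdx_pos (R := Y.presheaf.stalk (f x)) (S := X.presheaf.stalk x) ?_
  intro a b hab
  have h1 : ∀ a, Divis.NormSheaf.ff f (algebraMap (Y.presheaf.stalk (f x)) Y.functionField a) =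
      algebraMap (X.presheaf.stalk x) X.functionField (f.stalkMap x a) := by
    intro a
    have h1 := congr($(Scheme.Hom.stalkSpecializes_stalkMap f (genericPoint X) x (genericPoint_specializes x)).hom a)
    have h2 := TopCat.Presheaf.stalkSpecializes_comp_apply Y.presheaf
        (specializes_of_eq (Divis.NormSheaf.map_genericPoint f)) (genericPoint_specializes (f x)) a
    refine Eq.trans ?_ h1
    exact congrArg (f.stalkMap (genericPoint X)) h2
  apply IsFractionRing.injective (Y.presheaf.stalk (f x)) Y.functionField
  apply (Divis.NormSheaf.ff f).injective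
  rw [h1, h1]
  exact congrArg _ hab

end K321.HurwBase
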