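import Groth.Agent.Curves.K321.DeltaStalk
import Groth.Agent.Curves.K321.HurwBase
import Groth.Agent.Ega3B.ProjProper

/-!
# The Euler characteristic of the normalization
-/

set_option autoImplicit false
universe u

open CategoryTheory CategoryTheory.Limits AlgebraicGeometry TopologicalSpace Opposite

namespace K321.DeltaSum

open Groth.Agent Groth.Agent.CycB.StalkExact Groth.Agent.CycB.DegIntegral Groth.Agent.Sga67.Sec
open Groth.Agent.Sga67.LocBasis Groth.Agent.Sga67.LocBasisStalk K321.DeltaGeo K321.DeltaStalk

/-- Generic points of irreducible components lie in every dense open. -/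
theorem generic_mem {T : Type*} [TopologicalSpace T] [NoetherianSpace T] {U : Set T} (hU : Dense U) (hUo : IsOpen U)
    {η : T} (hη : closure {η} ∈ irreducibleComponents T) : η ∈ U := by
  have hfin : (irreducibleComponents T).Finite := NoetherianSpace.finite_irreducibleComponents
  let W : Set T := (⋃ Z ∈ irreducibleComponents T \ {closure {η}}, Z)ᶜ
  have hW : IsOpen W := by
    refine (Set.Finite.isClosed_biUnion (hfin.subset Set.sdiff_subset) fun Z hZ => ?_).isOpen_compl
    exact isClosed_of_mem_irreducibleComponents Z hZ.1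
  have hηW : η ∈ W := by
    intro h
    obtain ⟨Z, hZ, hηZ⟩ := Set.mem_iUnion₂.1 h
    apply hZ.2
    have h1 : closure {η} ⊆ Z := by
      rw [(isClosed_of_mem_irreducibleComponents Z hZ.1).closure_subset_iff, Set.singleton_subset_iff]
      exact hηZ
    exact (h1.antisymm (hη.2 hZ.1.1 h1)).symm
  obtain ⟨w, hwW, hwU⟩ := hU.inter_open_nonempty W hW ⟨η, hηW⟩
  have h2 : irreducibleComponent w = closure {η} := by
    by_contra hne
    exact hwW (Set.mem_biUnion (show irreducibleComponent w ∈ irreducibleComponents T \ {closure {η}} from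
      ⟨irreducibleComponent_mem_irreducibleComponents w, hne⟩) mem_irreducibleComponent)
  have h3 : w ∈ closure {η} := h2 ▸ mem_irreducibleComponent
  exact (specializes_iff_mem_closure.2 h3).mem_open hUo hwU

variable (k : Type u) [Field k] (X : Scheme.{u}) [X.Over (Spec (CommRingCat.of k))]
  [IsProper (X ↘ Spec (CommRingCat.of k))]

/-- Points off a dense open of a curve are closed. -/
theorem points (hequi : ∀ Z ∈ irreducibleComponents (X : Type u), topologicalKrullDim Z = 1)
    (U : X.Opens) (hU : Dense (U : Set X)) (x : X) (hx : x ∉ U) :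
    IsClosed ({x} : Set X) ∧ ((X ↘ Spec (CommRingCat.of k)).residueFieldMap x).hom.Finite := by
  have : IsLocallyNoetherian X := LocallyOfFiniteType.isLocallyNoetherian (X ↘ Spec (CommRingCat.of k))
  have : CompactSpace X := QuasiCompact.compactSpace_of_compactSpace (X ↘ Spec (CommRingCat.of k))
  have : IsNoetherian X := ⟨⟩
  have : NoetherianSpace X := inferInstance
  obtain ⟨δ, hδ⟩ := CycB.SetupLft.exists_deltaCompat (X ↘ Spec (CommRingCat.of k)) (fun _ => (0 : ℤ))
  have hδ0 : ∀ y, 0 ≤ δ y := fun y => by
    obtain ⟨n, hn, -⟩ := CycB.DegReduce.dim_closure k (X ↘ Spec (CommRingCat.of k)) δ hδ y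
    omega
  have h2 : IsIrreducible (irreducibleComponent x) := isIrreducible_irreducibleComponent
  obtain ⟨η, hη⟩ := QuasiSober.sober h2 isClosed_irreducibleComponent
  have hZ : closure {η} ∈ irreducibleComponents (X : Type u) := by
    rw [hη.def]
    exact irreducibleComponent_mem_irreducibleComponents x
  have hηx : η ⤳ x := by
    rw [specializes_iff_mem_closure, hη.def]
    exact mem_irreducibleComponent
  have hne : η ≠ x := by
    rintro rfl
    exact hx (generic_mem hU U.2 hZ)
  have h1 : δ η = 1 := by
    obtain ⟨n, hn, hn'⟩ := CycB.DegReduce.dim_closure k (X ↘ Spec (CommRingCat.of k)) δ hδ η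
    rw [hequi _ hZ] at hn'
    have : n = 1 := by exact_mod_cast hn'.symm
    rw [hn, this]
    rfl
  have h3 : δ x = 0 := by
    have h4 := CycB.DegReduce.lt_of_specializes k (X ↘ Spec (CommRingCat.of k)) δ hδ hηx hne
    have := hδ0 x
    omega
  refine ⟨?_, CycB.PushLen.residueFieldMap_finite _ δ (fun _ => 0) hδ x h3⟩
  rw [← closure_subset_iff_isClosed]
  intro y hy
  by_contra hcon
  have h4 := CycB.DegReduce.lt_of_specializes k (X ↘ Spec (CommRingCat.of k)) δ hδ
    (specializes_iff_mem_closure.2 hy) (fun e => hcon e.symm)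
  have := hδ0 y
  omega

attribute [local instance] Curv2.resAlgebra

open Classical in
theorem euler_eq [IsReduced X] (hequi : ∀ Z ∈ irreducibleComponents (X : Type u), topologicalKrullDim Z = 1)
    (X' : Scheme.{u}) (π : X' ⟶ X) [IsFinite π] (hX' : Pi1.IsNormalScheme X')
    (U : X.Opens) (hU : Dense (U : Set X)) (hU' : Dense ((π ⁻¹ᵁ U : X'.Opens) : Set X')) [IsIso (π ∣_ U)] :
    letI : X'.Over (Spec (CommRingCat.of k)) := ⟨π ≫ (X ↘ (Spec (CommRingCat.of k)))⟩
    Curv2.euler k X' (Coh.structureModule X') =
      Curv2.euler k X (Coh.structureModule X) +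
        ∑ᶠ x : X, (if IsClosed ({x} : Set X) then
          ((Module.finrank k (X.residueField x) : ℤ) * ((Curv2.deltaInv (X.presheaf.stalk x)).toNat : ℤ)) else 0) := by
  let : X'.Over (Spec (CommRingCat.of k)) := ⟨π ≫ (X ↘ (Spec (CommRingCat.of k)))⟩
  have : IsLocallyNoetherian X := LocallyOfFiniteType.isLocallyNoetherian (X ↘ Spec (CommRingCat.of k))
  have : CompactSpace X := QuasiCompact.compactSpace_of_compactSpace (X ↘ Spec (CommRingCat.of k))
  have : IsNoetherian X := ⟨⟩
  have : NoetherianSpace X := inferInstance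
  have : IsLocallyNoetherian X' := LocallyOfFiniteType.isLocallyNoetherian π
  have hO : Coh.IsCoh (Coh.structureModule X) := Sga67.PreLift.isCoh_structureModule
  have hP : Coh.IsCoh (DeltaStalk.PO π) := S0019.result π _ Sga67.PreLift.isCoh_structureModule
  have hinj : ∀ x, Function.Injective (stalkLin (can π) x) := by
    intro x
    rw [injective_iff_map_eq_zero]
    intro t ht
    obtain ⟨V, hxV, s, rfl⟩ := exists_ger (Coh.structureModule X) x t
    have h1 : ger (DeltaStalk.PO π) x hxV (appS (can π) V s) = ger (DeltaStalk.PO π) x hxV 0 := by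
      rw [← stalkLin_ger, ht, ger_zero]
    obtain ⟨W, hW, hxW, h2⟩ := exists_res_eq (DeltaStalk.PO π) x hxV _ _ h1
    rw [← appS_res, map_zero] at h2
    have h3 : res (Coh.structureModule X) hW s = 0 := by
      have h4 : appS (can π) W (res (Coh.structureModule X) hW s) =
          toO (res (Coh.structureModule X) hW s) • oneP π W := by
        conv_lhs => rw [← toO_smul_one (res (Coh.structureModule X) hW s)]
        rw [map_smul, can_one]
      rw [h4] at h2
      have h5 : (π.app W).hom (toO (res (Coh.structureModule X) hW s)) = 0 := by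
        have h6 : (π.app W).hom (toO (res (Coh.structureModule X) hW s)) * 1 = 0 := h2
        rwa [mul_one] at h6
      exact injective_app π U hU W (h5.trans (map_zero _).symm)
    rw [← ger_res _ hW x hxW, h3, ger_zero]
  have hmono : Mono (can π) := VarietyA.StalkCrit.mono_of_stalks _ hinj
  have hC : Coh.IsCoh (cokernel (can π)) := Ega3B.DevQC.isCoh_cokernel (can π) hO.1 hP
  have hadd := S1524.result k X _ (VarietyA.StalkCrit.shortExact_cokernel (can π)) hO hP hC
  change Curv2.euler k X (DeltaStalk.PO π) = Curv2.euler k X (Coh.structureModule X) +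
    Curv2.euler k X (cokernel (can π)) at hadd
  have hpush : Curv2.euler k X (DeltaStalk.PO π) = Curv2.euler k X' (Coh.structureModule X') := by
    unfold Curv2.euler
    refine finsum_congr fun i => ?_
    rw [← VarietyB.HHPush.finrank_HH_push π k rfl _ (CurvesC.UnitCoh.isQCoh_unit X') i]
  have hlen : ∀ x : X, Module.length (X.presheaf.stalk x) ((cokernel (can π)).presheaf.stalk x) =
      Curv2.deltaInv (X.presheaf.stalk x) := fun x => length_cokernel π U hX' hU hU' x
  -- the support
  have hU0 : ∀ x ∈ U, Subsingleton ((cokernel (can π)).presheaf.stalk x) := by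
    intro x hx
    rw [VarietyA.StalkCrit.subsingleton_cokernel_stalk_iff]
    intro m
    obtain ⟨V, hxV, s, rfl⟩ := exists_ger (DeltaStalk.PO π) x m
    have hiso := isIso_app_of_le π U (inf_le_right : V ⊓ U ≤ U)
    have hbij : Function.Bijective (π.app (V ⊓ U)).hom := ConcreteCategory.bijective_of_isIso (π.app (V ⊓ U))
    obtain ⟨a, ha⟩ := hbij.2 (res (DeltaStalk.PO π) inf_le_left s : Sec (DeltaStalk.PO π) (V ⊓ U))
    have hxW : x ∈ V ⊓ U := ⟨hxV, hx⟩
    refine ⟨ger (Coh.structureModule X) x hxW (a • one X (V ⊓ U) : Sec (Coh.structureModule X) (V ⊓ U)), ?_⟩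
    rw [stalkLin_ger, map_smul, can_one]
    have h4 : (a • oneP π (V ⊓ U) : Sec (DeltaStalk.PO π) (V ⊓ U)) = res (DeltaStalk.PO π) inf_le_left s := by
      have h5 : (π.app (V ⊓ U)).hom a * 1 = (res (DeltaStalk.PO π) inf_le_left s : Sec (DeltaStalk.PO π) (V ⊓ U)) := by
        rw [mul_one]
        exact ha
      exact h5
    rw [h4, ger_res]
  have hcl : ∀ x ∈ CohB1.support (cokernel (can π)), x ∉ U := fun x hx hxU => hx (hU0 x hxU)
  have hZ : (CohB1.support (cokernel (can π))).Finite :=
    finite_of_isClosed_points (Ega3B.Devissage.isClosed_support hC) (fun x hx => (points k X hequi U hU x (hcl x hx)).1)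
  have hs : ∀ x, x ∉ CohB1.support (cokernel (can π)) → Subsingleton ((cokernel (can π)).presheaf.stalk x) :=
    fun x hx => by
      by_contra h
      exact hx h
  have h1 := CycB.DegSky.euler_eq_sum k X _ hC hZ (fun x hx => (points k X hequi U hU x (hcl x hx)).1) hs
    (fun x hx => (points k X hequi U hU x (hcl x hx)).2)
  rw [← hpush, hadd, h1, finsum_eq_sum_of_support_subset (s := hZ.toFinset)]
  · congr 1
    refine Finset.sum_congr rfl fun x hx => ?_
    rw [Set.Finite.mem_toFinset] at hx
    rw [if_pos (points k X hequi U hU x (hcl x hx)).1, HurwBase.finrank_residueField, hlen]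
  · intro x hx
    rw [Set.Finite.coe_toFinset]
    by_contra hxZ
    have := hs x hxZ
    apply hx
    dsimp only
    rw [← hlen, Module.length_eq_zero]
    simp

end K321.DeltaSum
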