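import Groth.Agent.Curves.K321.HZero
import Groth.Agent.Curves.K321.DeltaSum
import Groth.Agent.Brnch.K580.Unibranch
import Groth.Agent.Curves.K830.MultiCross
import Groth.Agent.Variety.K421.DeltaBranch
import Groth.Agent.ProjDual.K273.RegPt
import Groth.Agent.An.H526.T3Norm
import Groth.Agent.VarietyB.DimTop
import Groth.Agent.CurvesC.CurveCoh
import Groth.Agent.CurvesA.ResDegOne
import Groth.Agent.S9679
import Groth.Agent.S9683

/-!
# The genus of a reduced curve and the number of branches at its singular points
-/

set_option autoImplicit false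
universe u

open CategoryTheory CategoryTheory.Limits AlgebraicGeometry TopologicalSpace Opposite

namespace K321.BranchGenus

open Groth.Agent

/-- There are at most as many branches as geometric branches. -/
theorem numBranches_le_numGeomBranches (A : Type u) [CommRing A] [IsLocalRing A] :
    Brnch.numBranches A ≤ Brnch.numGeomBranches A := by
  unfold Brnch.numBranches Brnch.numGeomBranches
  split_ifs with h
  · refine ENat.card_le_card_of_injective (f := fun m => ⟨m, (K580.Unibranch.nonempty_emb A m).some⟩) ?_
    intro m m' hm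
    exact congrArg Sigma.fst hm
  · exact le_rfl

theorem one_le_numBranches (A : Type u) [CommRing A] [IsLocalRing A] [IsReduced A] [IsNoetherianRing A] :
    1 ≤ Brnch.numBranches A := by
  rw [K830.MultiCross.numBranches_eq_cl]
  have : Nontrivial (K421.NormCl.Cl A) := (K421.NormCl.injective_cl A).nontrivial
  have : Nonempty (MaximalSpectrum (K421.NormCl.Cl A)) := inferInstance
  exact (ENat.one_le_card_iff_nonempty _).2 this

/-- Irreducible components and their generic points. -/
noncomputable def genEquiv (T : Type*) [TopologicalSpace T] [QuasiSober T] [T0Space T] :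
    {x : T // closure ({x} : Set T) ∈ irreducibleComponents T} ≃ irreducibleComponents T :=
  Equiv.ofBijective (fun x => ⟨closure {x.1}, x.2⟩) (by
    constructor
    · intro x y h
      exact Subtype.ext (IsGenericPoint.eq (S := closure {x.1}) rfl (congrArg Subtype.val h).symm)
    · rintro ⟨Z, hZ⟩
      obtain ⟨η, hη⟩ := QuasiSober.sober hZ.1 (isClosed_of_mem_irreducibleComponents Z hZ)
      exact ⟨⟨η, by rw [hη.def]; exact hZ⟩, Subtype.ext hη.def⟩)

/-- Density of an open set containing the generic points. -/
theorem dense_of_generic {T : Type*} [TopologicalSpace T] [QuasiSober T] (U : Set T)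
    (h : ∀ η : T, closure ({η} : Set T) ∈ irreducibleComponents T → η ∈ U) : Dense U := by
  intro x
  obtain ⟨η, hη⟩ := QuasiSober.sober (isIrreducible_irreducibleComponent (x := x))
    isClosed_irreducibleComponent
  have h1 := h η (by rw [hη.def]; exact irreducibleComponent_mem_irreducibleComponents x)
  exact closure_mono (Set.singleton_subset_iff.2 h1) (hη.def ▸ mem_irreducibleComponent)

section

variable {X X' : Scheme.{u}} (π : X' ⟶ X)

/-- A bijective map on residue fields at generic points gives an isomorphism of stalks. -/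
theorem isIso_stalkMap [IsReduced X] [IsReduced X'] (x' : X')
    (h' : closure ({x'} : Set X') ∈ irreducibleComponents (X' : Type u))
    (h : closure ({π x'} : Set X) ∈ irreducibleComponents (X : Type u))
    (hres : Function.Bijective (π.residueFieldMap x').hom) : IsIso (π.stalkMap x') := by
  have hF := K273.RegPt.isField_stalk (π x') h inferInstance
  have hF' := K273.RegPt.isField_stalk x' h' inferInstance
  let _ := hF.toField
  let _ := hF'.toField
  have hb : Function.Bijective (π.stalkMap x').hom := by
    refine ⟨(π.stalkMap x').hom.injective, fun b => ?_⟩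
    obtain ⟨c, hc⟩ := hres.2 ((X'.residue x').hom b)
    obtain ⟨a, rfl⟩ := X.residue_surjective (π x') c
    refine ⟨a, ?_⟩
    have h1 : (X'.residue x').hom ((π.stalkMap x').hom a) = (X'.residue x').hom b := by
      rw [← hc]
      have h2 := congrArg (fun g => (CommRingCat.Hom.hom g) a) (Scheme.residue_residueFieldMap π x')
      exact h2.symm
    exact (X'.residue x').hom.injective h1
  exact (ConcreteCategory.isIso_iff_bijective _).2 hb

theorem surjective [IsFinite π] [NoetherianSpace X]
    (hbij : Set.BijOn (fun x' : X' => π x') {x' : X' | closure ({x'} : Set X') ∈ irreducibleComponents (X' : Type u)}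
      {x : X | closure ({x} : Set X) ∈ irreducibleComponents (X : Type u)}) : Surjective π := by
  refine ⟨fun x => ?_⟩
  have hcl : IsClosed (Set.range π) := π.isClosedMap.isClosed_range
  obtain ⟨η, hη⟩ := QuasiSober.sober (isIrreducible_irreducibleComponent (x := x))
    isClosed_irreducibleComponent
  have hηX : η ∈ {x : X | closure ({x} : Set X) ∈ irreducibleComponents (X : Type u)} := by
    rw [Set.mem_ofPred_eq, hη.def]
    exact irreducibleComponent_mem_irreducibleComponents x
  obtain ⟨η', -, h1⟩ := hbij.2.2 hηX
  have h2 : closure {η} ⊆ Set.range π := closure_minimal (Set.singleton_subset_iff.2 ⟨η', h1⟩) hcl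
  exact h2 (hη.def ▸ mem_irreducibleComponent)

end

variable (k : Type u) [Field k] (X : Scheme.{u}) [X.Over (Spec (CommRingCat.of k))]
  [IsProper (X ↘ Spec (CommRingCat.of k))]

include k in
theorem isNagata_stalk (x : X) : CAlg.IsNagata (X.presheaf.stalk x) := by
  obtain ⟨V, hV, hxV, -⟩ := exists_isAffineOpen_mem_and_subset (X := X) (x := x) (U := ⊤) trivial
  have h1 := An.H526.T3.isNagata_app (k := k) (X ↘ Spec (CommRingCat.of k)) V hV
  let i2 : Algebra Γ(X, V) (X.presheaf.stalk x) := (X.presheaf.germ V x hxV).hom.toAlgebra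
  have hloc : IsLocalization.AtPrime (X.presheaf.stalk x) (hV.primeIdealOf ⟨x, hxV⟩).asIdeal :=
    hV.isLocalization_stalk ⟨x, hxV⟩
  exact Ega4B.NagBasic.isNagata_localization h1 (hV.primeIdealOf ⟨x, hxV⟩).asIdeal.primeCompl _

section

include k
variable [IsReduced X] (hdim : topologicalKrullDim X ≤ 1)

include hdim in
theorem deltaInv_lt_top [IsLocallyNoetherian X] (x : X) : Curv2.deltaInv (X.presheaf.stalk x) < ⊤ := by
  have h1 : Ring.KrullDimLE 1 (X.presheaf.stalk x) := by
    rw [Ring.krullDimLE_iff]
    exact (Groth.Agent.CurvesB.DimPts.ringKrullDim_stalk_le x).trans hdim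
  have h2 : Module.Finite (X.presheaf.stalk x) (K421.NormCl.Cl (X.presheaf.stalk x)) :=
    K421.NormCl.finite_cl _ (isNagata_stalk k X x)
  exact K421.NormCl.deltaInv_lt_top _

theorem numBranches_le (x : X) : Brnch.numBranchesAt X x ≤ Curv2.deltaInv (X.presheaf.stalk x) + 1 :=
  (numBranches_le_numGeomBranches _).trans (K421.DeltaBranch.numGeomBranches_le _ (isNagata_stalk k X x))

end

/-- The delta invariant vanishes over an open set on which `π` is an isomorphism. -/
theorem deltaInv_eq_zero {X X' : Scheme.{u}} (π : X' ⟶ X) (hX' : Pi1.IsNormalScheme X') (V : X.Opens) [IsIso (π ∣_ V)]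
    (x : X) (hx : x ∈ V) : Curv2.deltaInv (X.presheaf.stalk x) = 0 := by
  obtain ⟨y, hy⟩ := (π ∣_ V).surjective ⟨x, hx⟩
  have hy' : π y.1 = x := by
    have h1 := congrArg (V.ι) hy
    have h2 : V.ι ((π ∣_ V) y) = π y.1 := by
      have h3 := congrArg (fun g => g.base y) (morphismRestrict_ι π V)
      exact h3
    rw [← h2, h1]
    rfl
  subst hy'
  have hiso : IsIso (π.stalkMap y.1) := by
    have h1 : IsIso ((π ∣_ V).stalkMap y) := inferInstance
    exact ((MorphismProperty.isomorphisms _).arrow_mk_iso_iff (morphismRestrictStalkMap π V y)).1 h1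
  obtain ⟨h1, h2⟩ := hX' y.1
  let e : X.presheaf.stalk (π y.1) ≃+* X'.presheaf.stalk y.1 := (asIso (π.stalkMap y.1)).commRingCatIsoToRingEquiv
  have h3 : IsDomain (X.presheaf.stalk (π y.1)) := e.toMulEquiv.isDomain _
  have h4 : IsIntegrallyClosed (X.presheaf.stalk (π y.1)) := IsIntegrallyClosed.of_equiv e.symm
  exact (K421.NormCl.deltaInv_eq_zero_iff _).2 h4

variable [IsAlgClosed k]

attribute [local instance] Curv2.resAlgebra

open Classical in
/-- The genus of a reduced curve in terms of the branches, with equality exactly when the singularities are ordinary. -/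
theorem main [IsReduced X] (hequi : ∀ Z ∈ irreducibleComponents (X : Type u), topologicalKrullDim Z = 1)
    [ConnectedSpace X] (X' : Scheme.{u}) (π : X' ⟶ X) [IsFinite π]
    (hX' : Pi1.IsNormalScheme X')
    (hbij : Set.BijOn (fun x' : X' => π x') {x' : X' | closure ({x'} : Set X') ∈ irreducibleComponents (X' : Type u)}
      {x : X | closure ({x} : Set X) ∈ irreducibleComponents (X : Type u)})
    (hres : ∀ x' : X', closure ({x'} : Set X') ∈ irreducibleComponents (X' : Type u) →
      Function.Bijective (π.residueFieldMap x').hom) :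
    letI : X'.Over (Spec (CommRingCat.of k)) := ⟨π ≫ (X ↘ (Spec (CommRingCat.of k)))⟩
    ((Curv2.genus k X : ℤ) = (Curv2.genus k X' : ℤ)
        + (∑ᶠ x : X, (if IsClosed ({x} : Set X) then (((Brnch.numBranchesAt X x).toNat : ℤ) - 1) else 0))
        - (Nat.card (irreducibleComponents (X : Type u)) : ℤ) + 1) ↔
      ∀ x : X, IsClosed ({x} : Set X) → Curv2.deltaInv (X.presheaf.stalk x) + 1 = Brnch.numBranchesAt X x := by
  let : X'.Over (Spec (CommRingCat.of k)) := ⟨π ≫ (X ↘ (Spec (CommRingCat.of k)))⟩
  have : IsProper (X' ↘ Spec (CommRingCat.of k)) := by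
    change IsProper (π ≫ (X ↘ (Spec (CommRingCat.of k))))
    infer_instance
  have : IsLocallyNoetherian X := LocallyOfFiniteType.isLocallyNoetherian (X ↘ Spec (CommRingCat.of k))
  have : CompactSpace X := QuasiCompact.compactSpace_of_compactSpace (X ↘ Spec (CommRingCat.of k))
  have : IsNoetherian X := ⟨⟩
  have : NoetherianSpace X := inferInstance
  have : IsLocallyNoetherian X' := LocallyOfFiniteType.isLocallyNoetherian π
  have : CompactSpace X' := QuasiCompact.compactSpace_of_compactSpace (X' ↘ Spec (CommRingCat.of k))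
  have : IsNoetherian X' := ⟨⟩
  have : NoetherianSpace X' := inferInstance
  have hredX' : IsReduced X' := DeltaGeo.isReduced_of_isNormal hX'
  -- a dense open set over which `π` is an isomorphism
  obtain ⟨V, hV, hiso⟩ := S9679.result π NoetherianSpace.finite_irreducibleComponents
    NoetherianSpace.finite_irreducibleComponents hbij
    (fun x' hx' => isIso_stalkMap π x' hx' (hbij.1 hx') (hres x' hx')) (Or.inl inferInstance)
    (Or.inl ⟨inferInstance, inferInstance⟩)
  have hV' : Dense ((π ⁻¹ᵁ V : X'.Opens) : Set X') :=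
    dense_of_generic _ fun η hη => DeltaSum.generic_mem hV V.2 (hbij.1 hη)
  have hE := DeltaSum.euler_eq k X hequi X' π hX' V hV hV'
  -- dimensions
  have hdX : topologicalKrullDim X = 1 := by
    rw [VarietyB.DimTop.topologicalKrullDim_eq_iSup_irreducibleComponents]
    have hne : Nonempty (irreducibleComponents (X : Type u)) := by
      obtain ⟨x⟩ := (inferInstance : Nonempty X)
      exact ⟨⟨_, irreducibleComponent_mem_irreducibleComponents x⟩⟩
    rw [iSup_congr fun Z : irreducibleComponents (X : Type u) => hequi Z.1 Z.2]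
    exact ciSup_const
  have hsurj : Surjective π := surjective π hbij
  have hdX' : topologicalKrullDim X' = 1 := ((S9683.result π).2 hsurj).trans hdX
  rw [CurvesC.CurveCoh.euler_eq k X' hdX', CurvesC.CurveCoh.euler_eq k X hdX,
    HZero.finrank_HH_zero_of_connected k X, HZero.finrank_HH_zero k X' (fun x => (hX' x).1)] at hE
  have hcard : Nat.card (irreducibleComponents (X' : Type u)) = Nat.card (irreducibleComponents (X : Type u)) :=
    Nat.card_congr ((genEquiv X').symm.trans ((Set.BijOn.equiv _ hbij).trans (genEquiv X)))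
  rw [hcard] at hE
  -- the points outside `V`
  have hpts : ∀ x : X, x ∉ V → IsClosed ({x} : Set X) := fun x hx => (DeltaSum.points k X hequi V hV x hx).1
  have hfin : ((V : Set X)ᶜ).Finite := CycB.DegIntegral.finite_of_isClosed_points V.2.isClosed_compl
    (fun x hx => hpts x hx)
  have hm : ∀ x : X, 1 ≤ (Brnch.numBranchesAt X x).toNat ∧
      (Brnch.numBranchesAt X x).toNat ≤ (Curv2.deltaInv (X.presheaf.stalk x)).toNat + 1 ∧
      (Curv2.deltaInv (X.presheaf.stalk x) + 1 = Brnch.numBranchesAt X x ↔
        (Brnch.numBranchesAt X x).toNat = (Curv2.deltaInv (X.presheaf.stalk x)).toNat + 1) := by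
    intro x
    have h1 := one_le_numBranches (X.presheaf.stalk x)
    have h2 := numBranches_le k X x
    obtain ⟨d, hd⟩ := ENat.ne_top_iff_exists.1 (deltaInv_lt_top k X hdX.le x).ne
    have h3 : Brnch.numBranchesAt X x ≠ ⊤ := by
      intro h
      rw [h, ← hd] at h2
      exact absurd h2 (by exact_mod_cast (ENat.natCast_lt_top (d + 1)).not_ge)
    obtain ⟨m, hm⟩ := ENat.ne_top_iff_exists.1 h3
    change 1 ≤ Brnch.numBranchesAt X x at h1
    rw [← hm] at h1 h2 ⊢
    rw [← hd] at h2 ⊢
    simp only [ENat.toNat_natCast]
    refine ⟨by exact_mod_cast h1, by exact_mod_cast h2, ?_⟩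
    constructor
    · intro h
      exact_mod_cast h.symm
    · intro h
      rw [h]
      push_cast
      rfl
  have hδ : ∀ x ∈ V, (Curv2.deltaInv (X.presheaf.stalk x)).toNat = 0 := fun x hx => by
    rw [deltaInv_eq_zero π hX' V x hx]
    rfl
  have hs1 : ∑ᶠ x : X, (if IsClosed ({x} : Set X) then (((Brnch.numBranchesAt X x).toNat : ℤ) - 1) else 0) =
      ∑ x ∈ hfin.toFinset, (((Brnch.numBranchesAt X x).toNat : ℤ) - 1) := by
    rw [finsum_eq_sum_of_support_subset (s := hfin.toFinset)]
    · refine Finset.sum_congr rfl fun x hx => ?_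
      rw [Set.Finite.mem_toFinset] at hx
      rw [if_pos (hpts x hx)]
    · intro x hx
      rw [Set.Finite.coe_toFinset]
      intro hxV
      apply hx
      dsimp only
      split_ifs with hc
      · have h1 := hm x
        rw [hδ x hxV] at h1
        omega
      · rfl
  have hs2 : ∑ᶠ x : X, (if IsClosed ({x} : Set X) then
          ((Module.finrank k (X.residueField x) : ℤ) * ((Curv2.deltaInv (X.presheaf.stalk x)).toNat : ℤ)) else 0) =
      ∑ x ∈ hfin.toFinset, ((Curv2.deltaInv (X.presheaf.stalk x)).toNat : ℤ) := by
    rw [finsum_eq_sum_of_support_subset (s := hfin.toFinset)]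
    · refine Finset.sum_congr rfl fun x hx => ?_
      rw [Set.Finite.mem_toFinset] at hx
      rw [if_pos (hpts x hx)]
      have h1 : Module.finrank k (X.residueField x) = 1 := by
        rw [HurwBase.finrank_residueField]
        exact CurvesA.ResDegOne.residueDegree_eq_one (X ↘ Spec (CommRingCat.of k)) x (hpts x hx)
      rw [h1, Nat.cast_one, one_mul]
    · intro x hx
      rw [Set.Finite.coe_toFinset]
      intro hxV
      apply hx
      dsimp only
      rw [hδ x hxV]
      simp
  rw [hs2] at hE
  rw [hs1]
  have hle : ∀ x ∈ hfin.toFinset, (((Brnch.numBranchesAt X x).toNat : ℤ) - 1) ≤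
      ((Curv2.deltaInv (X.presheaf.stalk x)).toNat : ℤ) := fun x _ => by
    have h1 := hm x
    omega
  have hiff := Finset.sum_eq_sum_iff_of_le hle
  have h1 : ((Curv2.genus k X : ℤ) = (Curv2.genus k X' : ℤ) +
      (∑ x ∈ hfin.toFinset, (((Brnch.numBranchesAt X x).toNat : ℤ) - 1))
        - (Nat.card (irreducibleComponents (X : Type u)) : ℤ) + 1) ↔
      (∑ x ∈ hfin.toFinset, (((Brnch.numBranchesAt X x).toNat : ℤ) - 1)) =
        ∑ x ∈ hfin.toFinset, ((Curv2.deltaInv (X.presheaf.stalk x)).toNat : ℤ) := by
    change _ - (Curv2.genus k X' : ℤ) = _ - (Curv2.genus k X : ℤ) + _ at hE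
    rw [Nat.cast_one] at hE
    constructor
    · intro h; linarith
    · intro h; linarith
  rw [h1, hiff]
  constructor
  · intro h x hx
    rw [(hm x).2.2]
    by_cases hxV : x ∈ V
    · have h2 := hm x
      rw [hδ x hxV] at h2 ⊢
      omega
    · have h2 := h x ((Set.Finite.mem_toFinset hfin).2 hxV)
      omega
  · intro h x hx
    have h2 := ((hm x).2.2).1 (h x (hpts x ((Set.Finite.mem_toFinset hfin).1 hx)))
    omega

end K321.BranchGenus
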