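import Groth.Agent.Curves.K321.TFDeg
import Groth.Agent.FormalB.BCGerm
import Groth.Agent.CurvesC.TwoSecOf968
import Groth.Agent.Fga.PicMon

/-!
# Stalks of the multiplication maps `G ⊗ F ⟶ G` attached to `F ⟶ O_X`
-/

set_option autoImplicit false
universe u

open CategoryTheory CategoryTheory.Limits AlgebraicGeometry TopologicalSpace Opposite MonoidalCategory
open TensorProduct

namespace K321.ContrStalk

open Groth.Agent Groth.Agent.Dcoh.Stalk Groth.Agent.CycB.StalkExact TrivLoc TFDeg

variable {X : Scheme.{u}} {F G : X.Modules}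

/-- The stalk of a homomorphism to the structure sheaf. -/
noncomputable def cst (c : F ⟶ Coh.structureModule X) (x : X) :
    F.presheaf.stalk x →ₗ[X.presheaf.stalk x] X.presheaf.stalk x :=
  (Fdesc.StructMod.stalkEquiv x).symm.toLinearMap ∘ₗ stalkLin c x

theorem cst_germ (c : F ⟶ Coh.structureModule X) {U : X.Opens} {x : X} (hx : x ∈ U) (f : Γ(F, U)) :
    cst c x (F.presheaf.germ U x hx f) = X.presheaf.germ U x hx (CurvesC.TwoSecOf968.cval c f) := by
  change (Fdesc.StructMod.stalkEquiv x).symm (stalkLin c x (F.presheaf.germ U x hx f)) = _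
  rw [LinearEquiv.symm_apply_eq, Fdesc.StructMod.stalkEquiv_germ, stalkLin_germ]
  rfl

theorem contr_stalk (c : F ⟶ Coh.structureModule X) (G : X.Modules) (x : X) (g : G.presheaf.stalk x)
    (f : F.presheaf.stalk x) :
    stalkLin (CurvesC.TwoSecOf968.contr c G) x ((stalkTensor G F x).symm (g ⊗ₜ f)) = cst c x f • g := by
  obtain ⟨U, hU, g, rfl⟩ := G.presheaf.exists_germ_eq g
  obtain ⟨V, hV, f, rfl⟩ := F.presheaf.exists_germ_eq f
  have hW : x ∈ U ⊓ V := ⟨hU, hV⟩
  rw [← Fdesc.QCohStalk.germ_map G (inf_le_left : U ⊓ V ≤ U) x hW, ← Fdesc.QCohStalk.germ_map F (inf_le_right : U ⊓ V ≤ V) x hW,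
    cst_germ]
  refine (congrArg (stalkLin (CurvesC.TwoSecOf968.contr c G) x) (FormalB.BC.tensorStalkIso_inv_germ G F x (U ⊓ V) hW
    _ _)).trans ?_
  refine (stalkLin_germ _ x hW _).trans ?_
  rw [← Fdesc.QCohStalk.germ_smul']
  exact congrArg _ (CurvesC.TwoSecOf968.contr_tmul c _ _)

theorem mem_range_contr (c : F ⟶ Coh.structureModule X) (G : X.Modules) (x : X) (m : G.presheaf.stalk x) :
    m ∈ LinearMap.range (stalkLin (CurvesC.TwoSecOf968.contr c G) x) ↔
      m ∈ LinearMap.range (cst c x) • (⊤ : Submodule (X.presheaf.stalk x) (G.presheaf.stalk x)) := by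
  constructor
  · rintro ⟨z, rfl⟩
    obtain ⟨y, rfl⟩ := (stalkTensor G F x).symm.surjective z
    induction y with
    | zero => rw [map_zero, map_zero]; exact Submodule.zero_mem _
    | tmul g f =>
      rw [contr_stalk]
      exact Submodule.smul_mem_smul ⟨f, rfl⟩ trivial
    | add a b ha hb => rw [map_add, map_add]; exact Submodule.add_mem _ ha hb
  · intro h
    refine Submodule.smul_induction_on h ?_ ?_
    · rintro _ ⟨f, rfl⟩ g -
      exact ⟨_, contr_stalk c G x g f⟩
    · exact fun a b ha hb => Submodule.add_mem _ ha hb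

/-- Injectivity if the twisted module is trivial. -/
theorem injective_contr_of_triv (c : F ⟶ Coh.structureModule X) {G : X.Modules} {x : X} (hG : Triv G x)
    (hc : Function.Injective (stalkLin c x)) :
    Function.Injective (stalkLin (CurvesC.TwoSecOf968.contr c G) x) := by
  obtain ⟨e⟩ := nonempty_equiv hG
  have hc' : Function.Injective (cst c x) := (Fdesc.StructMod.stalkEquiv x).symm.injective.comp hc
  rw [injective_iff_map_eq_zero]
  intro z hz
  obtain ⟨y, rfl⟩ := (stalkTensor G F x).symm.surjective z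
  let E : TensorProduct (X.presheaf.stalk x) (G.presheaf.stalk x) (F.presheaf.stalk x) ≃ₗ[X.presheaf.stalk x]
      F.presheaf.stalk x := (TensorProduct.congr e.symm (LinearEquiv.refl _ _)).trans (TensorProduct.lid _ _)
  obtain ⟨f, rfl⟩ := E.symm.surjective y
  have h1 : E.symm f = e 1 ⊗ₜ f := by
    rw [LinearEquiv.symm_apply_eq]
    simp [E]
  rw [h1, contr_stalk] at hz
  have h2 : e (cst c x f) = 0 := by
    rw [← hz, ← map_smul, smul_eq_mul, mul_one]
  have h3 : f = 0 := (map_eq_zero_iff _ hc').1 ((map_eq_zero_iff e e.injective).1 h2)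
  rw [h3, map_zero, map_zero]

/-- Injectivity if the first module is generated by a regular element. -/
theorem injective_contr_of_regular (c : F ⟶ Coh.structureModule X) {G : X.Modules} {x : X} (hF : Triv F x)
    (hc : Function.Injective (stalkLin c x))
    (hG : ∀ a ∈ nonZeroDivisors (X.presheaf.stalk x), ∀ g : G.presheaf.stalk x, a • g = 0 → g = 0) :
    Function.Injective (stalkLin (CurvesC.TwoSecOf968.contr c G) x) := by
  obtain ⟨e⟩ := nonempty_equiv hF
  have hc' : Function.Injective (cst c x) := (Fdesc.StructMod.stalkEquiv x).symm.injective.comp hc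
  have ht : cst c x (e 1) ∈ nonZeroDivisors (X.presheaf.stalk x) := by
    rw [mem_nonZeroDivisors_iff_right]
    intro a ha
    have h1 : cst c x (e a) = 0 := by
      rw [← ha, ← smul_eq_mul, ← map_smul, ← map_smul, smul_eq_mul, mul_one]
    exact (map_eq_zero_iff e e.injective).1 ((map_eq_zero_iff _ hc').1 h1)
  rw [injective_iff_map_eq_zero]
  intro z hz
  obtain ⟨y, rfl⟩ := (stalkTensor G F x).symm.surjective z
  let E : TensorProduct (X.presheaf.stalk x) (G.presheaf.stalk x) (F.presheaf.stalk x) ≃ₗ[X.presheaf.stalk x]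
      G.presheaf.stalk x := (TensorProduct.congr (LinearEquiv.refl _ _) e.symm).trans (TensorProduct.rid _ _)
  obtain ⟨g, rfl⟩ := E.symm.surjective y
  have h1 : E.symm g = g ⊗ₜ e 1 := by
    rw [LinearEquiv.symm_apply_eq]
    simp [E]
  rw [h1, contr_stalk] at hz
  rw [hG _ ht g hz, map_zero, map_zero]

end K321.ContrStalk
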