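import Groth.Prelude.Def_Curv2
import Groth.Agent.Ega4C.NormalRing
import Groth.Agent.Ega4C.NormalRing2

/-!
# The delta invariant from a birational normal extension

* `deltaInv_eq`: for `A → B` injective, integral, `B` normal, an isomorphism after inverting a non-zero-divisor `f` of `A`
  and `B`, the length of `B/A` is the delta invariant of `A`.
* `length_eq_deltaInv`: the version with a localized module.
-/

set_option autoImplicit false
universe u

open scoped nonZeroDivisors

namespace K321.DeltaAlg

open Groth.Agent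

section

variable (A B : Type u) [CommRing A] [CommRing B] [Algebra A B]

/-- `B` embeds in the total ring of fractions of `A`. -/
theorem exists_embedding (hinj : Function.Injective (algebraMap A B)) (f : A) (hfA : f ∈ A⁰)
    (hfB : algebraMap A B f ∈ B⁰) (hs : ∀ b : B, ∃ (n : ℕ) (a : A), algebraMap A B a = algebraMap A B f ^ n * b) :
    ∃ ψ : B →ₐ[A] FractionRing A, Function.Injective ψ := by
  have hu : IsUnit (algebraMap A (FractionRing A) f) := IsLocalization.map_units _ (⟨f, hfA⟩ : A⁰)
  choose n a ha using hs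
  have key : ∀ (b : B) (m : ℕ) (c : A), algebraMap A B c = algebraMap A B f ^ m * b →
      algebraMap A (FractionRing A) f ^ m * (algebraMap A (FractionRing A) (a b) * ↑(hu.unit⁻¹) ^ (n b)) =
        algebraMap A (FractionRing A) c := by
    intro b m c hc
    have h1 : f ^ (n b) * c = f ^ m * a b := by
      apply hinj
      rw [map_mul, map_mul, map_pow, map_pow, hc, ha]
      ring
    have h2 : algebraMap A (FractionRing A) f ^ (n b) * (↑(hu.unit⁻¹) : FractionRing A) ^ (n b) = 1 := by
      rw [← mul_pow, IsUnit.mul_val_inv, one_pow]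
    have h3 := congrArg (algebraMap A (FractionRing A)) h1
    rw [map_mul, map_mul, map_pow, map_pow] at h3
    calc _ = (algebraMap A (FractionRing A) f ^ m * algebraMap A (FractionRing A) (a b)) * ↑(hu.unit⁻¹) ^ (n b) := by ring
      _ = (algebraMap A (FractionRing A) f ^ (n b) * algebraMap A (FractionRing A) c) * ↑(hu.unit⁻¹) ^ (n b) := by rw [h3]
      _ = algebraMap A (FractionRing A) c * (algebraMap A (FractionRing A) f ^ (n b) * ↑(hu.unit⁻¹) ^ (n b)) := by ring
      _ = _ := by rw [h2, mul_one]
  let ψ₀ : B → FractionRing A := fun b => algebraMap A (FractionRing A) (a b) * ↑(hu.unit⁻¹) ^ (n b)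
  have key' : ∀ (b : B) (m : ℕ) (c : A), algebraMap A B c = algebraMap A B f ^ m * b →
      algebraMap A (FractionRing A) f ^ m * ψ₀ b = algebraMap A (FractionRing A) c := key
  have hcan : ∀ (m : ℕ) (x y : FractionRing A), algebraMap A (FractionRing A) f ^ m * x =
      algebraMap A (FractionRing A) f ^ m * y → x = y := fun m x y h => (hu.pow m).mul_left_cancel h
  have hC : ∀ c : A, ψ₀ (algebraMap A B c) = algebraMap A (FractionRing A) c := by
    intro c
    have := key' (algebraMap A B c) 0 c (by rw [pow_zero, one_mul])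
    rwa [pow_zero, one_mul] at this
  let ψ : B →ₐ[A] FractionRing A :=
    { toFun := ψ₀
      map_one' := by
        have := hC 1
        rwa [map_one, map_one] at this
      map_zero' := by
        have := hC 0
        rwa [map_zero, map_zero] at this
      map_mul' := fun b b' => by
        have h1 := key' (b * b') (n b + n b') (a b * a b') (by
          rw [map_mul, ha, ha]
          ring)
        have h2 := key' b (n b) (a b) (ha b)
        have h3 := key' b' (n b') (a b') (ha b')
        apply hcan (n b + n b')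
        rw [h1, map_mul, ← h2, ← h3]
        ring
      map_add' := fun b b' => by
        have h1 := key' (b + b') (n b + n b') (f ^ n b' * a b + f ^ n b * a b') (by
          rw [map_add, map_mul, map_mul, ha, ha, map_pow, map_pow]
          ring)
        have h2 := key' b (n b) (a b) (ha b)
        have h3 := key' b' (n b') (a b') (ha b')
        apply hcan (n b + n b')
        rw [h1, map_add, map_mul, map_mul, ← h2, ← h3, map_pow, map_pow]
        ring
      commutes' := hC }
  refine ⟨ψ, ?_⟩
  rw [injective_iff_map_eq_zero]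
  intro b hb
  have h2 := key' b (n b) (a b) (ha b)
  have h3 : ψ₀ b = 0 := hb
  rw [h3, mul_zero] at h2
  have h4 : a b = 0 := IsFractionRing.injective A (FractionRing A) (h2.symm.trans (map_zero _).symm)
  have h5 := ha b
  rw [h4, map_zero] at h5
  have h6 : algebraMap A B f ^ (n b) ∈ B⁰ := pow_mem hfB _
  rw [mul_comm] at h5
  exact (mem_nonZeroDivisors_iff_right.1 h6) b h5.symm

/-- The delta invariant from a normal birational integral extension. -/
theorem deltaInv_eq [Algebra.IsIntegral A B] (hB : EGA4.IsNormalRing B)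
    (hinj : Function.Injective (algebraMap A B)) (f : A) (hfA : f ∈ A⁰)
    (hfB : algebraMap A B f ∈ B⁰) (hs : ∀ b : B, ∃ (n : ℕ) (a : A), algebraMap A B a = algebraMap A B f ^ n * b) :
    Module.length A (B ⧸ LinearMap.range (Algebra.linearMap A B)) = Curv2.deltaInv A := by
  obtain ⟨ψ, hψ⟩ := exists_embedding A B hinj f hfA hfB hs
  have hrange : ψ.range = integralClosure A (FractionRing A) := by
    ext x
    constructor
    · rintro ⟨b, rfl⟩
      exact (Algebra.IsIntegral.isIntegral (R := A) b).map ψ
    · intro hx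
      have e : B ≃+* ψ.range := (AlgEquiv.ofInjective ψ hψ).toRingEquiv
      have h1 : EGA4.IsNormalRing ψ.range := Ega4C.NormalRing2.isNormalRing_of_ringEquiv e hB
      have h2 : IsIntegrallyClosed ψ.range := Ega4C.NormalRing.isIntegrallyClosed_of_isNormalRing _ h1
      have h3 : IsFractionRing ψ.range (FractionRing A) := Ega4C.NormalRing.isFractionRing_subalgebra _
      have h4 : IsIntegral ψ.range x := IsIntegral.tower_top hx
      obtain ⟨y, hy⟩ := (isIntegrallyClosed_iff (FractionRing A)).1 h2 h4
      rw [← hy]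
      exact y.2
  let e : B ≃ₐ[A] integralClosure A (FractionRing A) :=
    (AlgEquiv.ofInjective ψ hψ).trans (Subalgebra.equivOfEq _ _ hrange)
  unfold Curv2.deltaInv
  refine LinearEquiv.length_eq (Submodule.Quotient.equiv _ _ e.toLinearEquiv ?_)
  ext x
  constructor
  · rintro ⟨_, ⟨c, rfl⟩, rfl⟩
    exact ⟨c, (e.commutes c).symm⟩
  · rintro ⟨c, rfl⟩
    exact ⟨algebraMap A B c, ⟨c, rfl⟩, e.commutes c⟩

end

section localized

variable (A₀ B₀ A : Type u) [CommRing A₀] [CommRing B₀] [CommRing A] [Algebra A₀ B₀] [Algebra A₀ A]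
  (p : Ideal A₀) [p.IsPrime] [IsLocalization.AtPrime A p]

/-- The delta invariant of a localization from a normal birational integral extension. -/
theorem length_eq_deltaInv [Algebra.IsIntegral A₀ B₀] (hB : EGA4.IsNormalRing B₀)
    (hinj : Function.Injective (algebraMap A₀ B₀)) (f : A₀) (hfA : f ∈ A₀⁰)
    (hfB : algebraMap A₀ B₀ f ∈ B₀⁰) (hs : ∀ b : B₀, ∃ (n : ℕ) (a : A₀), algebraMap A₀ B₀ a = algebraMap A₀ B₀ f ^ n * b)
    (M : Type u) [AddCommGroup M] [Module A₀ M] [Module A M] [IsScalarTower A₀ A M] (g : B₀ →ₗ[A₀] M)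
    [IsLocalizedModule p.primeCompl g] :
    Module.length A (M ⧸ Submodule.span A {g 1}) = Curv2.deltaInv A := by
  let B := Localization (Algebra.algebraMapSubmonoid B₀ p.primeCompl)
  let iAB : Algebra A B := localizationAlgebra p.primeCompl B₀
  have hAB : ∀ a : A₀, algebraMap A B (algebraMap A₀ A a) = algebraMap B₀ B (algebraMap A₀ B₀ a) := fun a =>
    IsLocalization.map_eq _ a
  have t1 : IsScalarTower A₀ A B := IsScalarTower.of_algebraMap_eq fun a => by
    rw [hAB]
    rfl
  have hint : Algebra.IsIntegral A B := ⟨isIntegral_localization (R := A₀) (S := B₀) (M := p.primeCompl)⟩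
  have hN : EGA4.IsNormalRing B := Ega4C.NormalRing2.isNormalRing_localization hB _
  have hlB : IsLocalization (Submonoid.map (algebraMap A₀ B₀) p.primeCompl) B :=
    inferInstanceAs (IsLocalization (Algebra.algebraMapSubmonoid B₀ p.primeCompl) B)
  have hinj' : Function.Injective (algebraMap A B) :=
    IsLocalization.map_injective_of_injective p.primeCompl A B hinj
  have hfA' : algebraMap A₀ A f ∈ A⁰ := IsLocalization.map_nonZeroDivisors_le p.primeCompl A ⟨f, hfA, rfl⟩
  have hfB' : algebraMap A B (algebraMap A₀ A f) ∈ B⁰ := by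
    rw [hAB]
    exact IsLocalization.map_nonZeroDivisors_le (Algebra.algebraMapSubmonoid B₀ p.primeCompl) B ⟨_, hfB, rfl⟩
  have hs' : ∀ b : B, ∃ (n : ℕ) (a : A), algebraMap A B a = algebraMap A B (algebraMap A₀ A f) ^ n * b := by
    intro b
    obtain ⟨⟨b₀, ⟨_, t, ht, rfl⟩⟩, hb⟩ := IsLocalization.surj (Algebra.algebraMapSubmonoid B₀ p.primeCompl) b
    obtain ⟨n, a₀, ha₀⟩ := hs b₀
    have hu : IsUnit (algebraMap A₀ A t) := IsLocalization.map_units A (⟨t, ht⟩ : p.primeCompl)
    refine ⟨n, algebraMap A₀ A a₀ * ↑(hu.unit⁻¹), ?_⟩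
    have hu' : IsUnit (algebraMap A B (algebraMap A₀ A t)) := hu.map _
    apply hu'.mul_right_cancel
    have h1 : algebraMap A B ↑(hu.unit⁻¹) * algebraMap A B (algebraMap A₀ A t) = 1 := by
      rw [← map_mul, IsUnit.val_inv_mul, map_one]
    have h2 : b * algebraMap A B (algebraMap A₀ A t) = algebraMap B₀ B b₀ := by
      rw [hAB]
      exact hb
    calc _ = algebraMap A B (algebraMap A₀ A a₀) * (algebraMap A B ↑(hu.unit⁻¹) * algebraMap A B (algebraMap A₀ A t)) := by
          rw [map_mul, mul_assoc]
      _ = algebraMap B₀ B (algebraMap A₀ B₀ a₀) := by rw [h1, mul_one, hAB]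
      _ = algebraMap A B (algebraMap A₀ A f) ^ n * (b * algebraMap A B (algebraMap A₀ A t)) := by
          rw [h2, ha₀, hAB, map_mul, map_pow]
      _ = _ := by ring
  rw [← deltaInv_eq A B hN hinj' (algebraMap A₀ A f) hfA' hfB' hs']
  -- comparison of localized modules
  let g' : B₀ →ₗ[A₀] B := (IsScalarTower.toAlgHom A₀ B₀ B).toLinearMap
  have hg' : IsLocalizedModule p.primeCompl g' := isLocalizedModule_iff_isLocalization.2 inferInstance
  let e₀ : M ≃ₗ[A₀] B := IsLocalizedModule.linearEquiv p.primeCompl g g'
  let e : M ≃ₗ[A] B := e₀.extendScalarsOfIsLocalization p.primeCompl A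
  have he : e (g 1) = 1 := by
    have h1 : e₀ (g 1) = g' 1 := IsLocalizedModule.linearEquiv_apply p.primeCompl g g' 1
    refine h1.trans ?_
    exact map_one (algebraMap B₀ B)
  refine LinearEquiv.length_eq (Submodule.Quotient.equiv _ _ e ?_)
  rw [Submodule.map_span, Set.image_singleton]
  change Submodule.span A {e (g 1)} = _
  rw [he]
  ext x
  rw [Submodule.mem_span_singleton]
  constructor
  · rintro ⟨a, rfl⟩
    exact ⟨a, by rw [Algebra.linearMap_apply, Algebra.algebraMap_eq_smul_one]⟩
  · rintro ⟨a, rfl⟩
    exact ⟨a, by rw [Algebra.linearMap_apply, Algebra.algebraMap_eq_smul_one]⟩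

end localized

end K321.DeltaAlg
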