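import Groth.Agent.Curves.K321.DeltaAlg
import Groth.Agent.Divis.WeakAss
import Groth.Prelude.Def_Pi1
import Mathlib.RingTheory.Ideal.AssociatedPrime.Finiteness

/-!
# Finite birational morphisms from normal schemes: the algebra on affine opens
-/

set_option autoImplicit false
universe u

open CategoryTheory CategoryTheory.Limits AlgebraicGeometry TopologicalSpace Opposite
open scoped nonZeroDivisors

namespace K321.DeltaGeo

open Groth.Agent

section

variable {X : Scheme.{u}}

/-- On a reduced scheme a function vanishing on a dense open vanishes. -/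
theorem eq_zero_of_dense [IsReduced X] {U : X.Opens} (hU : Dense (U : Set X)) {W : X.Opens} (a : Γ(X, W))
    (h : ∀ (z : X) (hz : z ∈ W), z ∈ U → X.presheaf.germ W z hz a = 0) : a = 0 := by
  rw [← basicOpen_eq_bot_iff]
  by_contra hne
  obtain ⟨x, hx⟩ : (X.basicOpen a : Set X).Nonempty := by
    rw [Set.nonempty_iff_ne_empty]
    intro h
    exact hne (TopologicalSpace.Opens.ext h)
  obtain ⟨y, hy1, hy2⟩ := hU.inter_open_nonempty _ (X.basicOpen a).2 ⟨x, hx⟩
  have hyW : y ∈ W := X.basicOpen_le a hy1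
  have h1 := (X.mem_basicOpen a y hyW).1 hy1
  rw [h y hyW hy2] at h1
  exact not_isUnit_zero h1

/-- A dense open of a reduced Noetherian affine scheme contains the complement of the zeros of a regular element. -/
theorem exists_regular [IsReduced X] [IsLocallyNoetherian X] {U : X.Opens} (hU : Dense (U : Set X)) {V : X.Opens}
    (hV : IsAffineOpen V) : ∃ f : Γ(X, V), f ∈ Γ(X, V)⁰ ∧ X.basicOpen f ≤ U := by
  have hN : IsNoetherianRing Γ(X, V) := IsLocallyNoetherian.component_noetherian ⟨V, hV⟩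
  let I : Ideal Γ(X, V) :=
    { carrier := {t | X.basicOpen t ≤ U}
      add_mem' := by
        intro a b ha hb x hx
        have hxV : x ∈ V := X.basicOpen_le _ hx
        have hy' := (X.mem_basicOpen (a + b) x hxV).mp hx
        rw [map_add] at hy'
        rcases IsLocalRing.isUnit_or_isUnit_of_isUnit_add hy' with h | h
        · exact ha ((X.mem_basicOpen a x hxV).mpr h)
        · exact hb ((X.mem_basicOpen b x hxV).mpr h)
      zero_mem' := by
        change X.basicOpen 0 ≤ U
        rw [X.basicOpen_zero]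
        exact bot_le
      smul_mem' := by
        intro c a ha
        change X.basicOpen (c * a) ≤ U
        rw [X.basicOpen_mul]
        exact inf_le_right.trans ha }
  by_contra hcon
  push Not at hcon
  have hdis : Disjoint (I : Set Γ(X, V)) (nonZeroDivisors Γ(X, V)) :=
    Set.disjoint_left.2 fun t ht h => hcon t h ht
  obtain ⟨a, ha, ha0⟩ := SetLike.exists_of_lt (Ideal.bot_lt_annihilator_of_disjoint_nonZeroDivisors hdis)
  apply ha0
  rw [Ideal.mem_bot]
  refine eq_zero_of_dense hU a fun z hz hzU => ?_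
  obtain ⟨g, hgU, hzg⟩ := hV.exists_basicOpen_le (V := U) ⟨z, hzU⟩ hz
  have h1 : a * g = 0 := by
    rw [Module.mem_annihilator] at ha
    exact congrArg Subtype.val (ha ⟨g, hgU⟩)
  have h2 := (X.mem_basicOpen g z hz).1 hzg
  have h3 := congrArg (X.presheaf.germ V z hz) h1
  rw [map_mul, map_zero] at h3
  exact (h2.mul_left_eq_zero).1 h3

end

section

variable {X' : Scheme.{u}}

theorem isReduced_of_isNormal (hX' : Pi1.IsNormalScheme X') : IsReduced X' := by
  have : ∀ x : X', _root_.IsReduced (X'.presheaf.stalk x) := fun x => by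
    have := (hX' x).1
    infer_instance
  exact isReduced_of_isReduced_stalk X'

/-- Sections of a normal scheme over an affine open form a normal ring. -/
theorem isNormalRing_sections (hX' : Pi1.IsNormalScheme X') {W : X'.Opens} (hW : IsAffineOpen W) :
    EGA4.IsNormalRing Γ(X', W) := by
  intro p hp
  obtain ⟨x, hx, hxp⟩ := Divis.WeakAss.exists_point hW ⟨p, hp⟩
  have hxp' : (hW.primeIdealOf ⟨x, hx⟩).asIdeal = p := congr_arg PrimeSpectrum.asIdeal hxp
  subst hxp'
  let _ : Algebra Γ(X', W) (X'.presheaf.stalk x) := TopCat.Presheaf.algebra_section_stalk X'.presheaf ⟨x, hx⟩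
  have hloc := hW.isLocalization_stalk ⟨x, hx⟩
  exact Ega4C.NormalRing2.isDomain_isIntegrallyClosed_of_ringEquiv
    (IsLocalization.algEquiv (hW.primeIdealOf ⟨x, hx⟩).asIdeal.primeCompl (X'.presheaf.stalk x)
      (Localization.AtPrime (hW.primeIdealOf ⟨x, hx⟩).asIdeal)).toRingEquiv (hX' x)

end

section

variable {X X' : Scheme.{u}} (π : X' ⟶ X) (U : X.Opens) [IsIso (π ∣_ U)]

theorem isIso_app_of_le {W : X.Opens} (hW : W ≤ U) : IsIso (π.app W) := by
  obtain ⟨W', rfl⟩ : ∃ W' : U.toScheme.Opens, U.ι ''ᵁ W' = W := by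
    refine ⟨U.ι ⁻¹ᵁ W, ?_⟩
    rw [Scheme.Hom.image_preimage_eq_opensRange_inf, Scheme.Opens.opensRange_ι]
    exact inf_eq_right.2 hW
  have h1 := morphismRestrict_app π U W'
  have h2 : IsIso (π.app (U.ι ''ᵁ W') ≫ X'.presheaf.map (eqToHom (image_morphismRestrict_preimage π U W')).op) := by
    rw [← h1]
    have h0 : IsIso (π ∣_ U) := inferInstance
    have : ∀ {A B : Scheme.{u}} (g : A ⟶ B) (_ : IsIso g) (O : B.Opens), IsIso (g.app O) := fun g _ O => inferInstance
    exact this _ h0 _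
  have h3 : ∀ (A B : (X'.Opens)ᵒᵖ) (e : A = B), IsIso (X'.presheaf.map (eqToHom e)) := by
    rintro A _ rfl
    rw [eqToHom_refl, X'.presheaf.map_id]
    infer_instance
  rw [eqToHom_op] at h2
  have h4 := h3 _ _ (congrArg Opposite.op (image_morphismRestrict_preimage π U W')).symm
  exact @IsIso.of_isIso_comp_right _ _ _ _ _ _ _ h4 h2

theorem germ_mem_nonZeroDivisors {V : X.Opens} (hV : IsAffineOpen V) {f : Γ(X, V)} (hf : f ∈ Γ(X, V)⁰) (z : X)
    (hz : z ∈ V) : X.presheaf.germ V z hz f ∈ (X.presheaf.stalk z)⁰ := by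
  let _ : Algebra Γ(X, V) (X.presheaf.stalk z) := TopCat.Presheaf.algebra_section_stalk X.presheaf (U := V) ⟨z, hz⟩
  have h1 := hV.isLocalization_stalk ⟨z, hz⟩
  exact IsLocalization.nonZeroDivisors_le_comap (hV.primeIdealOf ⟨z, hz⟩).asIdeal.primeCompl (X.presheaf.stalk z) hf

omit [IsIso (π ∣_ U)] in
theorem nat_inf (V : X.Opens) (a : Γ(X, V)) :
    (π.app (V ⊓ U)).hom (X.presheaf.map (homOfLE inf_le_left).op a) =
      X'.presheaf.map (homOfLE (fun _ h => h.1 : π ⁻¹ᵁ (V ⊓ U) ≤ π ⁻¹ᵁ V)).op ((π.app V).hom a) := by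
  have := π.naturality (homOfLE (inf_le_left : V ⊓ U ≤ V)).op
  exact congr($(this).hom a)

theorem injective_app [IsReduced X] (hU : Dense (U : Set X)) (V : X.Opens) : Function.Injective (π.app V).hom := by
  have hiso := isIso_app_of_le π U (inf_le_right : V ⊓ U ≤ U)
  have hbij : Function.Bijective (π.app (V ⊓ U)).hom := ConcreteCategory.bijective_of_isIso (π.app (V ⊓ U))
  rw [injective_iff_map_eq_zero]
  intro a ha
  have h1 := nat_inf π U V a
  rw [ha, map_zero] at h1
  have h2 := hbij.1 (h1.trans (map_zero _).symm)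
  refine eq_zero_of_dense hU a fun z hz hzU => ?_
  rw [← X.presheaf.germ_res_apply (homOfLE (inf_le_left : V ⊓ U ≤ V)) z ⟨hz, hzU⟩ a, h2, map_zero]

/-- The functions on affine opens under a birational morphism. -/
theorem affine_facts [IsAffineHom π] [IsReduced X] [IsReduced X'] [IsLocallyNoetherian X] (hU : Dense (U : Set X))
    (hU' : Dense ((π ⁻¹ᵁ U : X'.Opens) : Set X')) {V : X.Opens} (hV : IsAffineOpen V) :
    Function.Injective (π.app V).hom ∧ ∃ f : Γ(X, V), f ∈ Γ(X, V)⁰ ∧ (π.app V).hom f ∈ Γ(X', π ⁻¹ᵁ V)⁰ ∧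
      ∀ b : Γ(X', π ⁻¹ᵁ V), ∃ (n : ℕ) (a : Γ(X, V)), (π.app V).hom a = (π.app V).hom f ^ n * b := by
  have hiso := isIso_app_of_le π U (inf_le_right : V ⊓ U ≤ U)
  have hbij : Function.Bijective (π.app (V ⊓ U)).hom := ConcreteCategory.bijective_of_isIso (π.app (V ⊓ U))
  have hnat := nat_inf π U V
  have hinj := injective_app π U hU V
  refine ⟨hinj, ?_⟩
  obtain ⟨f, hf, hfU⟩ := exists_regular hU hV
  have hfB : (π.app V).hom f ∈ Γ(X', π ⁻¹ᵁ V)⁰ := by
    rw [mem_nonZeroDivisors_iff_right]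
    intro b hb
    obtain ⟨c, hc⟩ := hbij.2 (X'.presheaf.map (homOfLE (fun _ h => h.1 : π ⁻¹ᵁ (V ⊓ U) ≤ π ⁻¹ᵁ V)).op b)
    have h1 : c * X.presheaf.map (homOfLE inf_le_left).op f = 0 := by
      apply hbij.1
      rw [map_mul, map_zero, hc, hnat, ← map_mul, hb, map_zero]
    have h2 : c = 0 := by
      refine TopCat.Presheaf.section_ext X.sheaf _ _ _ fun z hz => ?_
      have h3 := congrArg (X.presheaf.germ (V ⊓ U) z hz) h1
      rw [map_mul, map_zero, X.presheaf.germ_res_apply] at h3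
      have h4 := (mem_nonZeroDivisors_iff_right.1 (germ_mem_nonZeroDivisors hV hf z hz.1)) _ h3
      exact h4.trans (map_zero _).symm
    rw [h2, map_zero] at hc
    refine eq_zero_of_dense hU' b fun z hz hzU => ?_
    rw [← X'.presheaf.germ_res_apply (homOfLE (fun _ h => h.1 : π ⁻¹ᵁ (V ⊓ U) ≤ π ⁻¹ᵁ V)) z
      (show z ∈ π ⁻¹ᵁ (V ⊓ U) from ⟨hz, hzU⟩) b, ← hc, map_zero]
  refine ⟨f, hf, hfB, fun b => ?_⟩
  have hiso' := isIso_app_of_le π U hfU
  have hbij' : Function.Bijective (π.app (X.basicOpen f)).hom := ConcreteCategory.bijective_of_isIso (π.app (X.basicOpen f))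
  have hle : π ⁻¹ᵁ X.basicOpen f ≤ π ⁻¹ᵁ V := fun _ h => X.basicOpen_le f h
  obtain ⟨c, hc⟩ := hbij'.2 (X'.presheaf.map (homOfLE hle).op b)
  have hloc := hV.isLocalization_basicOpen f
  obtain ⟨⟨a, ⟨_, n, rfl⟩⟩, hac⟩ := IsLocalization.surj (Submonoid.powers f) c
  have hac' : c * X.presheaf.map (homOfLE (X.basicOpen_le f)).op (f ^ n) =
      X.presheaf.map (homOfLE (X.basicOpen_le f)).op a := hac
  have hnat' : ∀ a : Γ(X, V), (π.app (X.basicOpen f)).hom (X.presheaf.map (homOfLE (X.basicOpen_le f)).op a) =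
      X'.presheaf.map (homOfLE hle).op ((π.app V).hom a) := by
    intro a
    have := π.naturality (homOfLE (X.basicOpen_le f)).op
    exact congr($(this).hom a)
  have h5 : X'.presheaf.map (homOfLE hle).op ((π.app V).hom f ^ n * b - (π.app V).hom a) = 0 := by
    rw [map_sub, map_mul, ← hc, ← map_pow, ← hnat', ← hnat', ← hac', map_mul]
    ring
  have h6 : ((π.app V).hom f ^ n * b - (π.app V).hom a) |_ (X'.basicOpen ((π.app V).hom f)) = 0 := by
    have h7 : X'.basicOpen ((π.app V).hom f) ≤ π ⁻¹ᵁ X.basicOpen f := by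
      rw [Scheme.preimage_basicOpen]
    have h8 := congrArg (X'.presheaf.map (homOfLE h7).op) h5
    rw [map_zero] at h8
    refine Eq.trans ?_ h8
    change X'.presheaf.map _ _ = X'.presheaf.map _ (X'.presheaf.map _ _)
    rw [← CommRingCat.comp_apply, ← Functor.map_comp]
    rfl
  obtain ⟨m, hm⟩ := exists_pow_mul_eq_zero_of_res_basicOpen_eq_zero_of_isAffineOpen X' (hV.preimage π) _ _ h6
  have h9 : (π.app V).hom f ^ m ∈ Γ(X', π ⁻¹ᵁ V)⁰ := pow_mem hfB m
  rw [mul_comm] at hm
  have h10 := (mem_nonZeroDivisors_iff_right.1 h9) _ hm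
  exact ⟨n, a, (sub_eq_zero.1 h10).symm⟩

end

end K321.DeltaGeo
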