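import Groth.Agent.Curves.K321.DeltaGeo
import Groth.Agent.Sga67.LocBasisStalk
import Groth.Agent.Fdesc.QCohStalk
import Groth.Agent.CycB.DegIntegral
import Groth.Agent.S0019
import Groth.Agent.Sga67.PreLift

/-!
# The cokernel of `O_X → π_* O_{X'}` for the normalization
-/

set_option autoImplicit false
universe u

open CategoryTheory CategoryTheory.Limits AlgebraicGeometry TopologicalSpace Opposite
open scoped nonZeroDivisors

namespace K321.DeltaStalk

open Groth.Agent Groth.Agent.CycB.StalkExact Groth.Agent.Sga67.Sec Groth.Agent.Sga67.LocBasis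
open Groth.Agent.Sga67.LocBasisStalk K321.DeltaGeo

variable {X X' : Scheme.{u}} (π : X' ⟶ X)

/-- The direct image of the structure sheaf. -/
noncomputable abbrev PO : X.Modules := (Scheme.Modules.pushforward π).obj (Coh.structureModule X')

/-- The unit section. -/
def oneP (V : X.Opens) : Sec (PO π) V := (1 : Γ(X', π ⁻¹ᵁ V))

/-- The morphism `O_X ⟶ π_* O_{X'}`. -/
noncomputable def can : Coh.structureModule X ⟶ PO π := homUnit (PO π) (oneP π ⊤)

theorem can_one (V : X.Opens) : appS (can π) V (one X V) = oneP π V := by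
  rw [can, homUnit_one]
  exact map_one (X'.presheaf.map _).hom

theorem res_oneP {V W : X.Opens} (h : W ≤ V) : res (PO π) h (oneP π V) = oneP π W :=
  map_one (X'.presheaf.map _).hom

theorem ger_oneP (x : X) {V W : X.Opens} (hV : x ∈ V) (hW : x ∈ W) :
    ger (PO π) x hV (oneP π V) = ger (PO π) x hW (oneP π W) := by
  rw [← ger_res (PO π) (inf_le_left : V ⊓ W ≤ V) x ⟨hV, hW⟩, ← ger_res (PO π) (inf_le_right : V ⊓ W ≤ W) x ⟨hV, hW⟩,
    res_oneP, res_oneP]

theorem range_can (x : X) (V : X.Opens) (hx : x ∈ V) :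
    LinearMap.range (stalkLin (can π) x) = Submodule.span (X.presheaf.stalk x) {ger (PO π) x hx (oneP π V)} := by
  apply le_antisymm
  · rintro _ ⟨t, rfl⟩
    obtain ⟨W, hxW, s, rfl⟩ := exists_ger (Coh.structureModule X) x t
    rw [stalkLin_ger, ← toO_smul_one s, map_smul, can_one, ger_smul]
    refine Submodule.smul_mem _ _ (Submodule.mem_span_singleton.2 ⟨1, ?_⟩)
    rw [one_smul]
    exact ger_oneP π x hx hxW
  · rw [Submodule.span_singleton_le_iff_mem]
    exact ⟨ger _ x hx (one X V), by rw [stalkLin_ger, can_one]⟩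

/-- The stalks of the cokernel have length the delta invariant. -/
theorem length_cokernel (U : X.Opens) [IsIso (π ∣_ U)] [IsFinite π] [IsReduced X] [IsLocallyNoetherian X]
    (hX' : Pi1.IsNormalScheme X') (hU : Dense (U : Set X)) (hU' : Dense ((π ⁻¹ᵁ U : X'.Opens) : Set X')) (x : X) :
    Module.length (X.presheaf.stalk x) ((cokernel (can π)).presheaf.stalk x) = Curv2.deltaInv (X.presheaf.stalk x) := by
  obtain ⟨V, hV, hxV, -⟩ := exists_isAffineOpen_mem_and_subset (X := X) (x := x) (U := ⊤) trivial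
  have hred : IsReduced X' := isReduced_of_isNormal hX'
  obtain ⟨hinj, f, hfA, hfB, hs⟩ := affine_facts π U hU hU' hV
  let i1 : Algebra Γ(X, V) Γ(X', π ⁻¹ᵁ V) := (π.app V).hom.toAlgebra
  have hfin : Module.Finite Γ(X, V) Γ(X', π ⁻¹ᵁ V) := IsFinite.finite_app π V hV
  let i2 : Algebra Γ(X, V) (X.presheaf.stalk x) := (X.presheaf.germ V x hxV).hom.toAlgebra
  have hloc : IsLocalization.AtPrime (X.presheaf.stalk x) (hV.primeIdealOf ⟨x, hxV⟩).asIdeal :=
    hV.isLocalization_stalk ⟨x, hxV⟩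
  let i3 := Fdesc.QCohStalk.stalkModule (PO π) x hxV
  have t : IsScalarTower Γ(X, V) (X.presheaf.stalk x) ((PO π).presheaf.stalk x) := by
    refine ⟨fun r a m => ?_⟩
    rw [Algebra.smul_def, mul_smul]
    rfl
  have hq : Coh.IsQCoh (PO π) := Ega3B.DevQC.isQCoh_push π (CurvesC.UnitCoh.isQCoh_unit X')
  have hlm := Fdesc.QCohStalk.isLocalizedModule_germ (PO π) hV hq x hxV
  let g : Γ(X', π ⁻¹ᵁ V) →ₗ[Γ(X, V)] (PO π).presheaf.stalk x := Fdesc.QCohStalk.germₗ (PO π) x hxV
  have hg : IsLocalizedModule (hV.primeIdealOf ⟨x, hxV⟩).asIdeal.primeCompl g := hlm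
  have h1 := DeltaAlg.length_eq_deltaInv Γ(X, V) Γ(X', π ⁻¹ᵁ V) (X.presheaf.stalk x)
    (hV.primeIdealOf ⟨x, hxV⟩).asIdeal (isNormalRing_sections hX' (hV.preimage π)) hinj f hfA hfB hs
    ((PO π).presheaf.stalk x) g
  rw [CycB.DegIntegral.length_cokernel_stalk, range_can π x V hxV]
  exact h1

end K321.DeltaStalk
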