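import Groth.Agent.Curves.K321.TameTrace
import Groth.Agent.CycB.OrdFrac
import Groth.Agent.CycB.OrdNorm
import Mathlib.RingTheory.DedekindDomain.PID

/-!
# The discriminant and the different over a discrete valuation ring

`R` a discrete valuation ring with fraction field `K`, `L/K` finite separable, `B` the integral closure of `R` in `L`.

* `exists_different_eq_span`: the different is generated by some `d ≠ 0`;
* `ordFrac_discr`: if `b` is an `R`-basis of `B`, the discriminant of `b` and the norm of `d` have the same order.
-/

set_option autoImplicit false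
universe u v w

open nonZeroDivisors Module

namespace K321.DiscDiff

attribute [local instance] FractionRing.liftAlgebra FractionRing.isScalarTower_liftAlgebra

section

variable (R : Type u) (K : Type v) (L : Type w) [CommRing R] [IsDomain R] [IsDiscreteValuationRing R] [Field K]
  [Algebra R K] [IsFractionRing R K] [Field L] [Algebra K L] [Algebra R L] [IsScalarTower R K L]
  [FiniteDimensional K L]

include K in
omit [IsDiscreteValuationRing R] in
theorem isFractionRing_integralClosure : IsFractionRing (integralClosure R L) L :=
  integralClosure.isFractionRing_of_finite_extension K L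

include K in
omit [IsDomain R] [IsDiscreteValuationRing R] [FiniteDimensional K L] in
theorem faithfulSMul_integralClosure : FaithfulSMul R (integralClosure R L) := by
  rw [faithfulSMul_iff_algebraMap_injective]
  intro a b hab
  have h1 : algebraMap R L a = algebraMap R L b := congrArg Subtype.val hab
  rw [IsScalarTower.algebraMap_apply R K L, IsScalarTower.algebraMap_apply R K L] at h1
  exact IsFractionRing.injective R K ((algebraMap K L).injective h1)

include K in
omit [IsDiscreteValuationRing R] [FiniteDimensional K L] in
theorem isTorsionFree_integralClosure : Module.IsTorsionFree R (integralClosure R L) := by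
  have := faithfulSMul_integralClosure R K L
  infer_instance

variable [Algebra.IsSeparable K L]

include K in
theorem finite_integralClosure : Module.Finite R (integralClosure R L) :=
  IsIntegralClosure.finite R K L (integralClosure R L)

include K in
theorem isDedekindDomain_integralClosure : IsDedekindDomain (integralClosure R L) :=
  integralClosure.isDedekindDomain R K L

include K in
theorem isPrincipalIdealRing_integralClosure : IsPrincipalIdealRing (integralClosure R L) := by
  have := finite_integralClosure R K L
  have := isDedekindDomain_integralClosure R K L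
  have h1 : Finite (MaximalSpectrum (integralClosure R L)) :=
    Groth.Agent.CycB.OrdNorm.finite_maximalSpectrum (A := R) (B := integralClosure R L)
  refine IsPrincipalIdealRing.of_finite_maximals ?_
  have h2 : {I : Ideal (integralClosure R L) | I.IsMaximal} ⊆
      Set.range (fun m : MaximalSpectrum (integralClosure R L) => m.asIdeal) :=
    fun I hI => ⟨⟨I, hI⟩, rfl⟩
  exact (Set.finite_range _).subset h2

include K in
omit [IsDiscreteValuationRing R] in
/-- Separability passes to the canonical fraction fields. -/
theorem isSeparable_fractionRing (h : FaithfulSMul R (integralClosure R L)) :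
    Algebra.IsSeparable (FractionRing R) (FractionRing (integralClosure R L)) := by
  have := isFractionRing_integralClosure R K L
  have H : RingHom.comp (algebraMap (FractionRing R) (FractionRing (integralClosure R L)))
      ↑(FractionRing.algEquiv R K).symm.toRingEquiv =
        RingHom.comp ↑(FractionRing.algEquiv (integralClosure R L) L).symm.toRingEquiv (algebraMap K L) := by
    apply IsLocalization.ringHom_ext R⁰
    ext
    simp only [RingHom.coe_comp, RingHom.coe_coe,
      AlgEquiv.coe_ringEquiv, Function.comp_apply, AlgEquiv.commutes,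
      ← IsScalarTower.algebraMap_apply]
    rw [IsScalarTower.algebraMap_apply R (integralClosure R L) L, AlgEquiv.commutes, ← IsScalarTower.algebraMap_apply]
  exact Algebra.IsSeparable.of_equiv_equiv _ _ H

include K in
/-- The different has a generator `d ≠ 0`, and `z` pairs with `B` to `R` under the trace iff `d z ∈ B`. -/
theorem exists_different_eq_span (hB : IsDedekindDomain (integralClosure R L))
    (ht : Module.IsTorsionFree R (integralClosure R L)) :
    ∃ d : integralClosure R L, d ≠ 0 ∧ differentIdeal R (integralClosure R L) = Ideal.span {d} ∧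
      ∀ z : L, (∀ w : integralClosure R L, Algebra.trace K L (z * w) ∈ (algebraMap R K).range) ↔
        ∃ w : integralClosure R L, (w : L) = d * z := by
  have hf := isFractionRing_integralClosure R K L
  have h0 := faithfulSMul_integralClosure R K L
  have hfin := finite_integralClosure R K L
  have hsep := isSeparable_fractionRing R K L h0
  have hpid := isPrincipalIdealRing_integralClosure R K L
  obtain ⟨d, hd⟩ := (hpid.principal (differentIdeal R (integralClosure R L))).principal
  change differentIdeal R (integralClosure R L) = Ideal.span {d} at hd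
  have hd0 : d ≠ 0 := by
    rintro rfl
    have h1 : differentIdeal R (integralClosure R L) ≠ ⊥ := differentIdeal_ne_bot
    exact h1 (hd.trans (by simp))
  have hdL : (d : L) ≠ 0 := fun h => hd0 (Subtype.ext h)
  refine ⟨d, hd0, hd, fun z => ?_⟩
  have h1 := coeIdeal_differentIdeal R K L (integralClosure R L)
  rw [hd, FractionalIdeal.coeIdeal_span_singleton] at h1
  have h2 : FractionalIdeal.dual R K (1 : FractionalIdeal (integralClosure R L)⁰ L) =
      FractionalIdeal.spanSingleton _ ((d : L)⁻¹) := by
    rw [← FractionalIdeal.spanSingleton_inv, show (d : L) = algebraMap (integralClosure R L) L d from rfl, h1, inv_inv]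
  have h3 : z ∈ FractionalIdeal.dual R K (1 : FractionalIdeal (integralClosure R L)⁰ L) ↔
      ∀ w : integralClosure R L, Algebra.trace K L (z * w) ∈ (algebraMap R K).range := by
    rw [FractionalIdeal.mem_dual (I := (1 : FractionalIdeal (integralClosure R L)⁰ L)) one_ne_zero]
    constructor
    · intro h w
      exact h _ ((FractionalIdeal.mem_one_iff _).2 ⟨w, rfl⟩)
    · intro h a ha
      obtain ⟨w, rfl⟩ := (FractionalIdeal.mem_one_iff _).1 ha
      exact h w
  rw [← h3, h2, FractionalIdeal.mem_spanSingleton]
  constructor
  · rintro ⟨w, rfl⟩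
    refine ⟨w, ?_⟩
    rw [Algebra.smul_def, mul_comm (algebraMap _ _ _), ← mul_assoc, mul_inv_cancel₀ hdL, one_mul]
    rfl
  · rintro ⟨w, hw⟩
    refine ⟨w, ?_⟩
    rw [Algebra.smul_def]
    change (w : L) * _ = z
    rw [hw, mul_comm (d : L), mul_assoc, mul_inv_cancel₀ hdL, mul_one]

/-- The discriminant of an `R`-basis of `B` and the norm of the generator of the different have the same order. -/
theorem ordFrac_discr {ι : Type*} [Fintype ι] [DecidableEq ι] (b : Basis ι K L)
    (hb : ∀ z : L, IsIntegral R z ↔ ∃ c : ι → R, z = ∑ i, c i • b i) (d : integralClosure R L) (hd0 : d ≠ 0)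
    (hd : ∀ z : L, (∀ w : integralClosure R L, Algebra.trace K L (z * w) ∈ (algebraMap R K).range) ↔
        ∃ w : integralClosure R L, (w : L) = d * z) :
    CycAlg.ordFrac R K (Algebra.discr K b) = CycAlg.ordFrac R K (Algebra.norm K (d : L)) := by
  classical
  have hdL : (d : L) ≠ 0 := fun h => hd0 (Subtype.ext h)
  have hbi : ∀ i, IsIntegral R (b i) := fun i => (hb _).2 ⟨Pi.single i 1, by simp [Pi.single_apply, ite_smul]⟩
  -- `T i j = tr(b_i d⁻¹ b_j)`
  set T : Matrix ι ι K := Algebra.traceMatrix K b * Algebra.leftMulMatrix b ((d : L)⁻¹) with hT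
  have hTij : ∀ i j, T i j = Algebra.trace K L (b i * ((d : L)⁻¹ * b j)) := by
    intro i j
    rw [hT, Matrix.mul_apply]
    have h1 : (d : L)⁻¹ * b j = ∑ k, Algebra.leftMulMatrix b ((d : L)⁻¹) k j • b k := by
      rw [Algebra.leftMulMatrix_apply, ← b.sum_repr ((d : L)⁻¹ * b j)]
      refine Finset.sum_congr rfl fun k _ => ?_
      rw [LinearMap.toMatrix_apply]
      rfl
    rw [h1, Finset.mul_sum, map_sum]
    refine Finset.sum_congr rfl fun k _ => ?_
    rw [Algebra.traceMatrix_apply, Algebra.traceForm_apply, mul_smul_comm, map_smul, smul_eq_mul, mul_comm]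
  have hdet : T.det = Algebra.discr K b * (Algebra.norm K (d : L))⁻¹ := by
    have h1 : Algebra.norm K ((d : L)⁻¹) = (Algebra.norm K (d : L))⁻¹ := by
      apply eq_inv_of_mul_eq_one_left
      rw [← map_mul, inv_mul_cancel₀ hdL, map_one]
    rw [hT, Matrix.det_mul, ← Algebra.norm_eq_matrix_det, h1]
    rfl
  -- `T` has entries in `R`
  have hTR : ∀ i j, ∃ r : R, algebraMap R K r = T i j := by
    intro i j
    have h1 := (hd ((d : L)⁻¹ * b j)).2 ⟨⟨b j, hbi j⟩, by
      change b j = _
      rw [← mul_assoc, mul_inv_cancel₀ hdL, one_mul]⟩ ⟨b i, hbi i⟩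
    obtain ⟨r, hr⟩ := h1
    refine ⟨r, ?_⟩
    rw [hTij, hr, mul_comm]
  choose t ht using hTR
  -- the inverse has entries in `R`
  have hinv : ∀ k, ∃ c : ι → R, ∀ i, (if i = k then (1 : K) else 0) = ∑ j, T i j * algebraMap R K (c j) := by
    intro k
    obtain ⟨w, hw⟩ := (hd (b.traceDual k)).1 (by
      intro w
      obtain ⟨c, hc⟩ := (hb w).1 w.2
      refine ⟨c k, ?_⟩
      rw [hc, Finset.mul_sum, map_sum, Finset.sum_eq_single k]
      · rw [mul_smul_comm, ← algebraMap_smul K (c k), map_smul, Module.Basis.trace_traceDual_mul, if_pos rfl, smul_eq_mul,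
          mul_one]
      · intro j _ hj
        rw [mul_smul_comm, ← algebraMap_smul K (c j), map_smul, Module.Basis.trace_traceDual_mul, if_neg hj, smul_zero]
      · intro h; exact absurd (Finset.mem_univ k) h)
    obtain ⟨c, hc⟩ := (hb w).1 w.2
    refine ⟨c, fun i => ?_⟩
    have h1 : b.traceDual k = ∑ j, algebraMap R K (c j) • ((d : L)⁻¹ * b j) := by
      have h2 : b.traceDual k = (d : L)⁻¹ * w := by
        rw [hw, ← mul_assoc, inv_mul_cancel₀ hdL, one_mul]
      rw [h2, hc, Finset.mul_sum]
      refine Finset.sum_congr rfl fun j _ => ?_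
      rw [mul_smul_comm, algebraMap_smul]
    have h3 := Module.Basis.trace_mul_traceDual (b := b) i k
    rw [h1, Finset.mul_sum, map_sum] at h3
    rw [← h3]
    refine Finset.sum_congr rfl fun j _ => ?_
    rw [mul_smul_comm, map_smul, smul_eq_mul, hTij, mul_comm]
  choose c hc using hinv
  let t' : Matrix ι ι R := Matrix.of t
  let c' : Matrix ι ι R := Matrix.of fun j k => c k j
  have hmap : t'.map (algebraMap R K) = T := by
    ext i j
    exact ht i j
  have hprod : t' * c' = 1 := by
    have hinj : Function.Injective (fun N : Matrix ι ι R => N.map (algebraMap R K)) := by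
      intro N N' h
      ext i j
      exact IsFractionRing.injective R K (congrFun (congrFun h i) j)
    apply hinj
    change (t' * c').map (algebraMap R K) = (1 : Matrix ι ι R).map (algebraMap R K)
    rw [Matrix.map_mul, hmap, Matrix.map_one _ (map_zero _) (map_one _)]
    ext i k
    rw [Matrix.mul_apply, Matrix.one_apply]
    exact (hc k i).symm
  have hunit : IsUnit t'.det := by
    have h1 := congrArg Matrix.det hprod
    rw [Matrix.det_mul, Matrix.det_one] at h1
    exact IsUnit.of_mul_eq_one _ h1
  have h4 : CycAlg.ordFrac R K T.det = 0 := by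
    have h5 : T.det = algebraMap R K t'.det := by
      rw [← hmap, RingHom.map_det]
      rfl
    rw [h5]
    exact Groth.Agent.CycB.OrdFrac.ordFrac_of_isUnit R K hunit
  have hdisc : Algebra.discr K b ≠ 0 := Algebra.discr_not_zero_of_basis K b
  have hnorm : Algebra.norm K (d : L) ≠ 0 := (Algebra.norm_ne_zero_iff (R := K)).2 hdL
  rw [hdet, ← div_eq_mul_inv, Groth.Agent.CycB.OrdFrac.ordFrac_div R K hdisc hnorm, sub_eq_zero] at h4
  exact h4

end

end K321.DiscDiff
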