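import Groth.Agent.Curves.K321.DiscDiff
import Groth.Agent.Lefpen.H534.RamAlg

/-!
# The different at a point

`R` a discrete valuation ring with fraction field `K`, `L/K` finite separable, `B` the integral closure of `R` in `L`
with different generated by `d`, and `S` a discrete valuation ring with fraction field `L` dominating `R`, of
ramification index `e` over `R`: the order `a` of `d` in `S` is `≥ e - 1`, with equality iff `S/R` is tame.
-/

set_option autoImplicit false
universe u v w

open nonZeroDivisors Module IsLocalRing K321.DiscDiff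

namespace K321.DiscLocal

attribute [local instance] FractionRing.liftAlgebra FractionRing.isScalarTower_liftAlgebra

/-- `S` is the localisation of `B` at the contraction of its maximal ideal: elements as fractions. -/
theorem exists_mul_eq {B S L : Type*} [CommRing B] [IsDomain B] [IsPrincipalIdealRing B] [CommRing S] [IsLocalRing S]
    [Field L] [Algebra B L] [IsFractionRing B L] [Algebra S L] (hS : Function.Injective (algebraMap S L))
    (φ : B →+* S) (hφ : ∀ w, algebraMap S L (φ w) = algebraMap B L w) (s : S) :
    ∃ w t : B, φ t ∉ maximalIdeal S ∧ φ t * s = φ w := by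
  obtain ⟨a, b, hab, hx⟩ := IsFractionRing.exists_reduced_fraction (A := B) (algebraMap S L s)
  have h1 : φ b * s = φ a := by
    apply hS
    rw [map_mul, hφ, hφ, ← hx, IsLocalization.mk'_spec']
  refine ⟨a, b, fun hb => ?_, h1⟩
  have ha : φ a ∈ maximalIdeal S := by
    rw [← h1]
    exact Ideal.mul_mem_right _ _ hb
  obtain ⟨x, y, hxy⟩ := hab.isCoprime
  have h2 : (1 : S) ∈ maximalIdeal S := by
    rw [← map_one φ, ← hxy, map_add, map_mul, map_mul]
    exact Ideal.add_mem _ (Ideal.mul_mem_left _ _ ha) (Ideal.mul_mem_left _ _ hb)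
  exact (Ideal.ne_top_iff_one _).1 (maximalIdeal.isMaximal S).ne_top h2

/-- Order of an element of `B` in `S`. -/
theorem ordFrac_pow_mul {S : Type u} {L : Type w} [CommRing S] [IsDomain S] [IsDiscreteValuationRing S] [Field L]
    [Algebra S L] [IsFractionRing S L] {ϖ : S} (hϖ : Irreducible ϖ) (a : ℕ) {u : S} (hu : IsUnit u) :
    CycAlg.ordFrac S L (algebraMap S L (ϖ ^ a * u)) = a := by
  have h1 : algebraMap S L ϖ ≠ 0 := fun h => hϖ.ne_zero (IsFractionRing.injective S L (h.trans (map_zero _).symm))
  have h2 : algebraMap S L u ≠ 0 := (hu.map _).ne_zero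
  have h3 : CycAlg.ordFrac S L (algebraMap S L ϖ) = 1 := by
    rw [Groth.Agent.CycB.OrdFrac.ordFrac_algebraMap' S L hϖ.ne_zero, ← hϖ.maximalIdeal_eq]
    have : IsSimpleModule S (S ⧸ maximalIdeal S) := isSimpleModule_iff_quot_maximal.2 ⟨_, inferInstance, ⟨.refl _ _⟩⟩
    rw [Module.length_eq_one]
    rfl
  rw [map_mul, map_pow, Groth.Agent.CycB.OrdFrac.ordFrac_mul S L (pow_ne_zero _ h1) h2,
    Groth.Agent.CycB.OrdFrac.ordFrac_pow, h3, Groth.Agent.CycB.OrdFrac.ordFrac_of_isUnit S L hu, mul_one, add_zero]

section

variable {R : Type u} {K : Type v} {L : Type w} [CommRing R] [IsDomain R] [IsDiscreteValuationRing R] [Field K]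
  [Algebra R K] [IsFractionRing R K] [Field L] [Algebra K L] [Algebra R L] [IsScalarTower R K L]
  [FiniteDimensional K L] [Algebra.IsSeparable K L]

include K in
/-- **The different at a point.** -/
theorem ordFrac_different (S : Type u) [CommRing S] [IsDomain S] [IsDiscreteValuationRing S] [Algebra S L]
    [IsFractionRing S L] [Algebra R S] [IsScalarTower R S L] [IsLocalHom (algebraMap R S)]
    [Algebra (ResidueField R) (ResidueField S)]
    (hres : ∀ r : R, algebraMap (ResidueField R) (ResidueField S) (residue R r) = residue S (algebraMap R S r))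
    (hB : IsDedekindDomain (integralClosure R L)) (ht : Module.IsTorsionFree R (integralClosure R L))
    (d : integralClosure R L) (hd0 : d ≠ 0) (hd : differentIdeal R (integralClosure R L) = Ideal.span {d}) :
    ∃ a : ℕ, CycAlg.ordFrac S L (d : L) = a ∧ (maximalIdeal S).ramificationIdx R ≤ a + 1 ∧
      (a + 1 = (maximalIdeal S).ramificationIdx R ↔ (Algebra.IsSeparable (ResidueField R) (ResidueField S) ∧
        (((maximalIdeal S).ramificationIdx R : ℕ) : ResidueField R) ≠ 0)) := by
  have hf := isFractionRing_integralClosure R K L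
  have h0 := faithfulSMul_integralClosure R K L
  have hfin := finite_integralClosure R K L
  have hsep := isSeparable_fractionRing R K L h0
  have hpid := isPrincipalIdealRing_integralClosure R K L
  have hSinj := IsFractionRing.injective S L
  -- the map `B → S`
  have hint : ∀ w : integralClosure R L, ∃ s : S, algebraMap S L s = w := by
    intro w
    have h1 : IsIntegral S (w : L) := w.2.tower_top
    exact IsIntegrallyClosed.isIntegral_iff.1 h1
  choose φ₀ hφ₀ using hint
  let φ : integralClosure R L →+* S :=
    { toFun := φ₀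
      map_one' := hSinj (by simp [hφ₀])
      map_mul' := fun a b => hSinj (by simp [hφ₀])
      map_zero' := hSinj (by simp [hφ₀])
      map_add' := fun a b => hSinj (by simp [hφ₀]) }
  have hφ : ∀ w, algebraMap S L (φ w) = (w : L) := hφ₀
  have hφR : ∀ r : R, φ (algebraMap R _ r) = algebraMap R S r := by
    intro r
    apply hSinj
    rw [hφ, ← IsScalarTower.algebraMap_apply R S L]
    rfl
  have hφinj : Function.Injective φ := by
    intro a b hab
    apply Subtype.ext
    rw [← hφ, ← hφ, hab]
  -- the prime
  let P : Ideal (integralClosure R L) := (maximalIdeal S).comap φ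
  have hPp : P.IsPrime := Ideal.comap_isPrime _ _
  have hPR : P.comap (algebraMap R (integralClosure R L)) = maximalIdeal R := by
    ext r
    rw [Ideal.mem_comap, Ideal.mem_comap, hφR, mem_maximalIdeal, mem_maximalIdeal, mem_nonunits_iff, mem_nonunits_iff,
      isUnit_map_iff]
  have hPover : P.LiesOver (maximalIdeal R) := ⟨hPR.symm⟩
  obtain ⟨ϖR, hϖR⟩ := IsDiscreteValuationRing.exists_irreducible R
  have hϖR' : algebraMap R (integralClosure R L) ϖR ∈ P := by
    rw [← Ideal.mem_comap, hPR, hϖR.maximalIdeal_eq]
    exact Ideal.mem_span_singleton_self _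
  have hϖR0 : algebraMap R (integralClosure R L) ϖR ≠ 0 := fun h =>
    hϖR.ne_zero (FaithfulSMul.algebraMap_injective R (integralClosure R L) (h.trans (map_zero _).symm))
  have hP0 : P ≠ ⊥ := by
    intro h
    rw [h] at hϖR'
    exact hϖR0 hϖR'
  have hPm : P.IsMaximal := Ring.DimensionLEOne.maximalOfPrime hP0 hPp
  obtain ⟨π, hπ⟩ := (hpid.principal P).principal
  change P = Ideal.span {π} at hπ
  have hπ0 : π ≠ 0 := by
    rintro rfl
    exact hP0 (hπ.trans (by simp))
  have hπprime : Prime π := (Ideal.span_singleton_prime hπ0).1 (hπ ▸ hPp)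
  have hmemP : ∀ w, φ w ∈ maximalIdeal S ↔ π ∣ w := by
    intro w
    rw [← Ideal.mem_span_singleton, ← hπ]
    rfl
  have hfrac := fun s => exists_mul_eq (B := integralClosure R L) (L := L) hSinj φ (fun w => hφ w) s
  -- uniformizer of `S`
  have hϖmem : φ π ∈ maximalIdeal S := (hmemP π).2 dvd_rfl
  have hspan : maximalIdeal S = Ideal.span {φ π} := by
    refine le_antisymm (fun s hs => ?_) ((Ideal.span_singleton_le_iff_mem _).2 hϖmem)
    obtain ⟨w, t, ht', h1⟩ := hfrac s
    have h2 : φ w ∈ maximalIdeal S := by
      rw [← h1]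
      exact Ideal.mul_mem_left _ _ hs
    obtain ⟨w', rfl⟩ := (hmemP w).1 h2
    rw [mem_maximalIdeal, mem_nonunits_iff, not_not] at ht'
    rw [Ideal.mem_span_singleton]
    rw [map_mul] at h1
    exact (ht'.dvd_mul_left).1 (Dvd.intro _ h1.symm)
  have hϖ : Irreducible (φ π) := by
    rw [IsDiscreteValuationRing.irreducible_iff_uniformizer]
    exact hspan
  have hunit : ∀ w, ¬ π ∣ w → IsUnit (φ w) := by
    intro w hw
    by_contra hcon
    exact hw ((hmemP w).1 hcon)
  -- the order of `d`
  obtain ⟨a, q, hq, hda⟩ := WfDvdMonoid.max_power_factor hd0 hπprime.irreducible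
  have hord : CycAlg.ordFrac S L (d : L) = a := by
    rw [← hφ, hda, map_mul, map_pow]
    exact ordFrac_pow_mul hϖ a (hunit q hq)
  -- the ramification index
  obtain ⟨e, r, hr, hre⟩ := WfDvdMonoid.max_power_factor hϖR0 hπprime.irreducible
  have hmap : (maximalIdeal R).map (algebraMap R (integralClosure R L)) = P ^ e * Ideal.span {r} := by
    rw [hϖR.maximalIdeal_eq, Ideal.map_span, Set.image_singleton, hre, hπ, Ideal.span_singleton_pow,
      Ideal.span_singleton_mul_span_singleton]
  have hcop : IsCoprime P (Ideal.span {r}) := by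
    rw [Ideal.isCoprime_iff_sup_eq]
    refine hPm.out.2 _ (lt_of_le_of_ne le_sup_left fun h => hr ?_)
    have h1 : r ∈ P := by
      rw [h]
      exact Ideal.mem_sup_right (Ideal.mem_span_singleton_self r)
    exact (hmemP r).1 h1
  have heidx : (maximalIdeal S).ramificationIdx R = e := by
    have : (maximalIdeal S).LiesOver (maximalIdeal R) := by
      constructor
      ext x
      rw [Ideal.mem_comap, mem_maximalIdeal, mem_maximalIdeal, mem_nonunits_iff, mem_nonunits_iff, isUnit_map_iff]
    refine Groth.Agent.Lefpen.H534.RamAlg.ramificationIdx_eq (maximalIdeal R) e ?_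
    rw [hϖR.maximalIdeal_eq, Ideal.map_span, Set.image_singleton, ← hφR, hre, hspan, Ideal.span_singleton_pow, map_mul,
      map_pow, Ideal.span_singleton_mul_right_unit (hunit r hr)]
  rw [heidx]
  have hle : ∀ m : ℕ, P ^ m ∣ differentIdeal R (integralClosure R L) ↔ m ≤ a := by
    intro m
    rw [hd, hπ, Ideal.span_singleton_pow, Ideal.dvd_span_singleton, Ideal.mem_span_singleton, hda]
    constructor
    · intro h
      by_contra hcon
      push Not at hcon
      have h2 : π ^ a * π ∣ π ^ a * q := by
        rw [← pow_succ]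
        exact (pow_dvd_pow π hcon).trans h
      exact hq ((mul_dvd_mul_iff_left (pow_ne_zero a hπ0)).1 h2)
    · intro h
      exact (pow_dvd_pow π h).trans (dvd_mul_right _ _)
  refine ⟨a, hord, ?_, ?_⟩
  · have h1 := pow_sub_one_dvd_differentIdeal R (p := maximalIdeal R) P e
      (IsDiscreteValuationRing.not_a_field R) ⟨_, hmap⟩
    rw [hle] at h1
    omega
  · have h1 := K321.TameTrace.pow_dvd_differentIdeal_iff (A := R) (B := integralClosure R L) (p := maximalIdeal R)
      (IsDiscreteValuationRing.not_a_field R) P (Ideal.span {r}) e hcop hmap.symm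
    have h2 := pow_sub_one_dvd_differentIdeal R (p := maximalIdeal R) P e
      (IsDiscreteValuationRing.not_a_field R) ⟨_, hmap⟩
    rw [hle] at h1 h2
    -- the residue fields
    have hker : ∀ w : integralClosure R L, w ∈ P → (residue S).comp φ w = 0 := by
      intro w hw
      exact (residue_eq_zero_iff _).2 hw
    let ψ : (integralClosure R L ⧸ P) →+* ResidueField S := Ideal.Quotient.lift P ((residue S).comp φ) hker
    let _ : Field (integralClosure R L ⧸ P) := Ideal.Quotient.field P
    have hψ : Function.Bijective ψ := by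
      refine ⟨ψ.injective, fun y => ?_⟩
      obtain ⟨s, rfl⟩ := residue_surjective y
      obtain ⟨w, t, ht', h3⟩ := hfrac s
      have ht0 : Ideal.Quotient.mk P t ≠ 0 := by
        rw [Ne, Ideal.Quotient.eq_zero_iff_mem]
        exact ht'
      refine ⟨(Ideal.Quotient.mk P t)⁻¹ * Ideal.Quotient.mk P w, ?_⟩
      have h4 : ψ (Ideal.Quotient.mk P t) * residue S s = ψ (Ideal.Quotient.mk P w) := by
        change residue S (φ t) * residue S s = residue S (φ w)
        rw [← map_mul, h3]
      rw [map_mul, map_inv₀, ← h4, ← mul_assoc, inv_mul_cancel₀, one_mul]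
      rw [Ne, map_eq_zero]
      exact ht0
    have hsepiff : Algebra.IsSeparable (R ⧸ maximalIdeal R) (integralClosure R L ⧸ P) ↔
        Algebra.IsSeparable (ResidueField R) (ResidueField S) := by
      let _ : Field (R ⧸ maximalIdeal R) := Ideal.Quotient.field (maximalIdeal R)
      let ρ : (R ⧸ maximalIdeal R) ≃+* ResidueField R := RingEquiv.refl _
      let Ψ : (integralClosure R L ⧸ P) ≃+* ResidueField S := RingEquiv.ofBijective ψ hψ
      have hc : (algebraMap (ResidueField R) (ResidueField S)).comp (ρ : _ →+* _) =
          (Ψ : _ →+* _).comp (algebraMap (R ⧸ maximalIdeal R) (integralClosure R L ⧸ P)) := by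
        apply Ideal.Quotient.ringHom_ext
        ext x
        change algebraMap (ResidueField R) (ResidueField S) (residue R x) = residue S (φ (algebraMap R _ x))
        rw [hres, hφR]
      constructor
      · intro h
        exact Algebra.IsSeparable.of_equiv_equiv (A₁ := R ⧸ maximalIdeal R) ρ Ψ hc
      · intro h
        refine Algebra.IsSeparable.of_equiv_equiv (A₂ := R ⧸ maximalIdeal R) ρ.symm Ψ.symm ?_
        ext x
        apply Ψ.injective
        obtain ⟨y, rfl⟩ := ρ.surjective x
        have h5 := congrArg (fun g => g y) hc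
        simp only [RingHom.comp_apply, RingEquiv.coe_toRingHom] at h5
        simp only [RingHom.comp_apply, RingEquiv.coe_toRingHom, RingEquiv.symm_apply_apply, RingEquiv.apply_symm_apply]
        exact h5.symm
    rw [← hsepiff]
    have h3 : e ≤ a + 1 := by omega
    constructor
    · intro h4
      have h5 : ¬ e ≤ a := by omega
      rw [h1, not_or, not_not] at h5
      exact ⟨h5.2, h5.1⟩
    · rintro ⟨h4, h5⟩
      have h6 : ¬ e ≤ a := by
        rw [h1, not_or, not_not]
        exact ⟨h5, h4⟩
      omega

end

end K321.DiscLocal
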