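import Groth.Agent.Curves.K321.HurwBase

/-!
# Ramification indices in a fibre sum up to the degree

`sum_ram`: `∑_{x ↦ y} [κ(x) : κ(y)] e_x = [K(X) : K(Y)]` for a finite surjective morphism of integral schemes and a
point `y` such that `O_{Y,y}` and all `O_{X,x}`, `x ↦ y`, are discrete valuation rings.
-/

set_option autoImplicit false
universe u

open CategoryTheory CategoryTheory.Limits AlgebraicGeometry TopologicalSpace Opposite Module

namespace K321.FibDeg

open Groth.Agent Groth.Agent.Divis.NormSheaf
open K321.HurwLoc K321.HurwBase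

theorem ff_algebraMap {X Y : Scheme.{u}} [IsIntegral X] [IsIntegral Y] (f : X ⟶ Y) [Surjective f] (x : X)
    (a : Y.presheaf.stalk (f x)) :
    ff f (algebraMap (Y.presheaf.stalk (f x)) Y.functionField a) =
      algebraMap (X.presheaf.stalk x) X.functionField (f.stalkMap x a) := by
  have h1 := congr($(Scheme.Hom.stalkSpecializes_stalkMap f (genericPoint X) x (genericPoint_specializes x)).hom a)
  have h2 := TopCat.Presheaf.stalkSpecializes_comp_apply Y.presheaf
      (specializes_of_eq (Divis.NormSheaf.map_genericPoint f)) (genericPoint_specializes (f x)) a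
  refine Eq.trans ?_ h1
  exact congrArg (f.stalkMap (genericPoint X)) h2

open IsLocalRing in
/-- The order of a uniformizer is the ramification index. -/
theorem ordFrac_ram {X Y : Scheme.{u}} [IsIntegral X] [IsIntegral Y] (f : X ⟶ Y)
    [Surjective f] (x : X) (hS : IsDiscreteValuationRing (X.presheaf.stalk x))
    (hR : IsDiscreteValuationRing (Y.presheaf.stalk (f x))) (ϖ : Y.presheaf.stalk (f x)) (hϖ : Irreducible ϖ) :
    CycAlg.ordFrac (X.presheaf.stalk x) X.functionField
      (ff f (algebraMap (Y.presheaf.stalk (f x)) Y.functionField ϖ)) = ram f x := by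
  rw [ff_algebraMap]
  let := (f.stalkMap x).hom.toAlgebra
  have hloc : IsLocalHom (algebraMap (Y.presheaf.stalk (f x)) (X.presheaf.stalk x)) :=
    inferInstanceAs (IsLocalHom (f.stalkMap x).hom)
  have hinj : Function.Injective (algebraMap (Y.presheaf.stalk (f x)) (X.presheaf.stalk x)) := by
    intro a b hab
    apply IsFractionRing.injective (Y.presheaf.stalk (f x)) Y.functionField
    apply (ff f).injective
    rw [ff_algebraMap, ff_algebraMap]
    exact congrArg _ hab
  obtain ⟨t, ht⟩ := IsDiscreteValuationRing.exists_irreducible (X.presheaf.stalk x)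
  have h0 : algebraMap (Y.presheaf.stalk (f x)) (X.presheaf.stalk x) ϖ ≠ 0 :=
    fun h => hϖ.ne_zero (hinj (h.trans (map_zero _).symm))
  obtain ⟨e, u, hu⟩ := IsDiscreteValuationRing.eq_unit_mul_pow_irreducible h0 ht
  have : (maximalIdeal (X.presheaf.stalk x)).LiesOver (maximalIdeal (Y.presheaf.stalk (f x))) := by
    constructor
    ext x
    rw [Ideal.mem_comap, mem_maximalIdeal, mem_maximalIdeal, mem_nonunits_iff, mem_nonunits_iff, isUnit_map_iff]
  have h2 : ram f x = e := by
    refine Lefpen.H534.RamAlg.ramificationIdx_eq (maximalIdeal (Y.presheaf.stalk (f x))) e ?_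
    rw [hϖ.maximalIdeal_eq, Ideal.map_span, Set.image_singleton, hu, ht.maximalIdeal_eq, Ideal.span_singleton_pow,
      mul_comm, Ideal.span_singleton_mul_right_unit u.isUnit]
  have h3 : (f.stalkMap x) ϖ = t ^ e * u := by
    rw [mul_comm]
    exact hu
  rw [h2, h3]
  exact DiscLocal.ordFrac_pow_mul ht e u.isUnit

/-- **The ramification indices in a fibre sum up to the degree.** -/
theorem sum_ram {X Y : Scheme.{u}} [IsIntegral X] [IsIntegral Y] (f : X ⟶ Y) [IsFinite f] [Surjective f]
    [IsLocallyNoetherian Y] (y : Y) (hR : IsDiscreteValuationRing (Y.presheaf.stalk y))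
    (hS : ∀ x, f x = y → IsDiscreteValuationRing (X.presheaf.stalk x)) :
    letI := alg f
    ∑ᶠ x : {x : X // f x = y}, (f.residueDegree x.1 : ℤ) * (ram f x.1 : ℤ) =
      (finrank Y.functionField X.functionField : ℤ) := by
  let := alg f
  have hfd := finite_functionField f
  obtain ⟨ϖ, hϖ⟩ := IsDiscreteValuationRing.exists_irreducible (Y.presheaf.stalk y)
  have h0 : algebraMap (Y.presheaf.stalk y) Y.functionField ϖ ≠ 0 := fun h =>
    hϖ.ne_zero (IsFractionRing.injective (Y.presheaf.stalk y) Y.functionField (h.trans (map_zero _).symm))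
  have hg : ff f (algebraMap (Y.presheaf.stalk y) Y.functionField ϖ) ≠ 0 := (map_ne_zero_iff _ (ff f).injective).2 h0
  have hdim : ringKrullDim (Y.presheaf.stalk y) ≤ 1 :=
    (Ring.krullDimLE_iff (n := 1)).1 inferInstance
  have h1 := norm_formula f y hdim _ hg
  have h2 : Algebra.norm Y.functionField (ff f (algebraMap (Y.presheaf.stalk y) Y.functionField ϖ)) =
      (algebraMap (Y.presheaf.stalk y) Y.functionField ϖ) ^ finrank Y.functionField X.functionField :=
    Algebra.norm_algebraMap _
  have h3 : CycAlg.ordFrac (Y.presheaf.stalk y) Y.functionField (algebraMap (Y.presheaf.stalk y) Y.functionField ϖ) = 1 := by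
    have := DiscLocal.ordFrac_pow_mul (L := Y.functionField) hϖ 1 (isUnit_one (M := Y.presheaf.stalk y))
    rwa [pow_one, mul_one] at this
  rw [h2, CycB.OrdFrac.ordFrac_pow, h3, mul_one] at h1
  rw [h1]
  refine finsum_congr fun x => ?_
  obtain ⟨x, rfl⟩ := x
  rw [ordFrac_ram f x (hS x rfl) hR ϖ hϖ]

end K321.FibDeg
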