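import Mathlib.Algebra.BigOperators.Finprod
import Mathlib.Algebra.Order.BigOperators.Group.Finset
import Mathlib.Algebra.Order.Ring.Int

/-!
# Sums over fibres
-/

set_option autoImplicit false

namespace K321.FibSum

theorem finsum_eq_zero_iff {α : Type*} [Finite α] (F : α → ℤ) (hF : ∀ a, 0 ≤ F a) :
    ∑ᶠ a, F a = 0 ↔ ∀ a, F a = 0 := by
  have := Fintype.ofFinite α
  rw [finsum_eq_sum_of_fintype, Finset.sum_eq_zero_iff_of_nonneg fun a _ => hF a]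
  simp

/-- Sums over the fibres of a map with finite fibres. -/
theorem finsum_fibres {α β : Type*} (π : α → β) (hπ : ∀ b, (π ⁻¹' {b}).Finite) (C : Set β) (F : α → ℤ)
    (hF : ∀ a, 0 ≤ F a) (G : β → ℤ) (hG : ∀ b ∈ C, G b = ∑ᶠ x : {x // π x = b}, F x.1)
    (hfin : {b | b ∈ C ∧ G b ≠ 0}.Finite) :
    {x | π x ∈ C ∧ F x ≠ 0}.Finite ∧ ∑ᶠ b ∈ C, G b = ∑ᶠ x ∈ π ⁻¹' C, F x := by
  have h0 : ∀ x, π x ∈ C → F x ≠ 0 → G (π x) ≠ 0 := by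
    intro x hx hFx h
    rw [hG _ hx] at h
    have : Finite {y // π y = π x} := hπ (π x)
    exact hFx ((finsum_eq_zero_iff (fun a : {y // π y = π x} => F a.1) fun a => hF a.1).1 h ⟨x, rfl⟩)
  have hT : (⋃ b ∈ {b | b ∈ C ∧ G b ≠ 0}, π ⁻¹' {b}).Finite := hfin.biUnion fun b _ => hπ b
  have hsub : {x | π x ∈ C ∧ F x ≠ 0} ⊆ ⋃ b ∈ {b | b ∈ C ∧ G b ≠ 0}, π ⁻¹' {b} := by
    rintro x ⟨hx, hFx⟩
    exact Set.mem_biUnion (show π x ∈ {b | b ∈ C ∧ G b ≠ 0} from ⟨hx, h0 x hx hFx⟩) rfl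
  refine ⟨hT.subset hsub, ?_⟩
  have e1 : ∑ᶠ x ∈ π ⁻¹' C, F x = ∑ᶠ x ∈ ⋃ b ∈ {b | b ∈ C ∧ G b ≠ 0}, π ⁻¹' {b}, F x := by
    apply finsum_mem_inter_support_eq
    ext x
    constructor
    · rintro ⟨hx, hFx⟩
      exact ⟨hsub ⟨hx, hFx⟩, hFx⟩
    · rintro ⟨hx, hFx⟩
      obtain ⟨b, ⟨hb, -⟩, rfl⟩ := Set.mem_iUnion₂.1 hx
      exact ⟨hb, hFx⟩
  have e2 : ∑ᶠ b ∈ C, G b = ∑ᶠ b ∈ {b | b ∈ C ∧ G b ≠ 0}, G b := by
    apply finsum_mem_inter_support_eq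
    ext b
    constructor
    · rintro ⟨hb, hGb⟩
      exact ⟨⟨hb, hGb⟩, hGb⟩
    · rintro ⟨hb, hGb⟩
      exact ⟨hb.1, hGb⟩
  rw [e1, e2, finsum_mem_biUnion (fun b _ b' _ hbb => ?_) hfin fun b _ => hπ b]
  · refine finsum_mem_congr rfl fun b hb => ?_
    rw [hG b hb.1]
    exact (finsum_set_coe_eq_finsum_mem (f := F) (π ⁻¹' {b}))
  · refine Set.disjoint_left.2 fun x hx hx' => hbb ?_
    exact (show π x = b from hx).symm.trans hx'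

end K321.FibSum
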