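import Groth.Agent.VarietyA.H0Equiv
import Groth.Agent.VarietyA.GlobalSections
import Groth.Agent.CurvesC.NormSections
import Mathlib.AlgebraicGeometry.Morphisms.Proper

/-!
# Global functions on a disjoint union of integral proper schemes
-/

set_option autoImplicit false
universe u

open CategoryTheory CategoryTheory.Limits AlgebraicGeometry TopologicalSpace Opposite

namespace K321.HZero

open Groth.Agent Groth.Agent.CurvesC.NormSections

/-- Global functions of a connected reduced proper scheme over an algebraically closed field. -/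
theorem bijective_of_connected (k : Type u) [Field k] [IsAlgClosed k] (X : Scheme.{u})
    (f : X ⟶ Spec (CommRingCat.of k)) [IsProper f] [IsReduced X] [ConnectedSpace X] :
    Function.Bijective (VarietyA.GlobalSections.gl f).hom := by
  let i : Algebra k Γ(X, ⊤) := (VarietyA.GlobalSections.gl f).hom.toAlgebra
  have h1 : (f.appTop).hom.IsIntegral := isIntegral_appTop_of_universallyClosed f
  have h3 : Algebra.IsIntegral k Γ(X, ⊤) := by
    refine ⟨fun x => ?_⟩
    change (CommRingCat.Hom.hom ((Scheme.ΓSpecIso (CommRingCat.of k)).inv ≫ f.appTop)).IsIntegralElem x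
    rw [CommRingCat.hom_comp]
    refine RingHom.IsIntegral.trans _ _ ?_ h1 x
    exact RingHom.isIntegral_of_surjective _
      (ConcreteCategory.bijective_of_isIso (Scheme.ΓSpecIso (CommRingCat.of k)).inv).2
  obtain ⟨x⟩ := (inferInstance : Nonempty X)
  have : Nonempty (⊤ : X.Opens) := ⟨⟨x, trivial⟩⟩
  have : Nontrivial Γ(X, ⊤) := Scheme.component_nontrivial X ⊤
  exact VarietyA.GlobalSections.algebraMap_bijective_of_connected (K := k) (R := Γ(X, ⊤))
    (VarietyA.GlobalSections.idem_of_connected X)

/-- The open subscheme on an open and closed subset is proper. -/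
theorem isProper_ι {X S : Scheme.{u}} (f : X ⟶ S) [IsProper f] (U : X.Opens) (hU : IsClosed (U : Set X)) :
    IsProper (U.ι ≫ f) := by
  have : IsClosedImmersion U.ι := by
    refine IsClosedImmersion.of_isPreimmersion U.ι ?_
    rw [Scheme.Opens.range_ι]
    exact hU
  infer_instance

variable (k : Type u) [Field k] [IsAlgClosed k] (X : Scheme.{u}) [X.Over (Spec (CommRingCat.of k))]
  [IsProper (X ↘ Spec (CommRingCat.of k))]

open Classical in
theorem finrank_HH_zero (hX : ∀ x : X, IsDomain (X.presheaf.stalk x)) :
    Module.finrank k (Coh.HH X (Coh.structureModule X) 0) = Nat.card (irreducibleComponents (X : Type u)) := by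
  have : IsLocallyNoetherian X := LocallyOfFiniteType.isLocallyNoetherian (X ↘ Spec (CommRingCat.of k))
  have : CompactSpace X := QuasiCompact.compactSpace_of_compactSpace (X ↘ Spec (CommRingCat.of k))
  have : IsNoetherian X := ⟨⟩
  have : NoetherianSpace X := inferInstance
  let f := X ↘ (Spec (CommRingCat.of k))
  let e := VarietyA.H0Equiv.hZeroEquiv (Coh.structureModule X)
  let i0 : Algebra k Γ(X, ⊤) := (VarietyA.GlobalSections.gl f).hom.toAlgebra
  let e' : Coh.HH X (Coh.structureModule X) 0 ≃ₗ[k] Γ(X, ⊤) :=
    { e with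
      map_smul' := fun c x => VarietyA.H0Equiv.hZeroEquiv_smul (Coh.structureModule X) _ x }
  rw [e'.finrank_eq]
  let ι := irreducibleComponents (X : Type u)
  have hfin : Finite ι := NoetherianSpace.finite_irreducibleComponents.to_subtype
  have : Fintype ι := Fintype.ofFinite ι
  let U : ι → X.Opens := compOpens hX
  let r (Z : ι) : Γ(X, ⊤) →+* Γ(X, U Z) := (X.presheaf.map (homOfLE le_top : U Z ⟶ ⊤).op).hom
  let i1 (Z : ι) : Algebra k Γ(X, U Z) := ((r Z).comp (VarietyA.GlobalSections.gl f).hom).toAlgebra
  have hsm : ∀ (Z : ι) (c : k) (x : Γ(X, ⊤)), r Z (c • x) = c • r Z x := fun Z c x => by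
    rw [Algebra.smul_def, Algebra.smul_def]
    exact (r Z).map_mul _ _
  let L : Γ(X, ⊤) →ₗ[k] (∀ Z : ι, Γ(X, U Z)) :=
    LinearMap.pi fun Z => { toFun := r Z, map_add' := (r Z).map_add, map_smul' := hsm Z }
  have hL : Function.Bijective L := by
    constructor
    · intro a b hab
      refine X.sheaf.eq_of_locally_eq' U ⊤ (fun Z => homOfLE le_top) (iSup_compOpens hX) a b fun Z => ?_
      exact congr_fun hab Z
    · intro s
      have hcomp : TopCat.Presheaf.IsCompatible X.presheaf U s := by
        intro Z Z'
        by_cases hZZ : Z = Z'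
        · subst hZZ
          rfl
        · have hbot : U Z ⊓ U Z' = ⊥ := by
            ext y
            simp only [Opens.coe_inf, Set.mem_inter_iff, SetLike.mem_coe, Opens.coe_bot, Set.mem_empty_iff_false,
              iff_false, not_and]
            intro h1 h2
            exact hZZ (Subtype.ext (eq_of_mem_of_mem (hX y) Z.2 Z'.2 h1 h2))
          have : Subsingleton Γ(X, U Z ⊓ U Z') :=
            CommRingCat.subsingleton_of_isTerminal (X.sheaf.isTerminalOfEqEmpty hbot)
          exact Subsingleton.elim (α := Γ(X, U Z ⊓ U Z')) _ _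
      obtain ⟨t, ht, -⟩ := X.sheaf.existsUnique_gluing' U ⊤ (fun p => homOfLE le_top)
        (iSup_compOpens hX) _ hcomp
      exact ⟨t, funext ht⟩
  have h1 : ∀ Z : ι, Function.Bijective (algebraMap k Γ(X, U Z)) := by
    intro Z
    have hI : IsIntegral (U Z).toScheme := isIntegral_compOpens hX Z
    have hP : IsProper ((U Z).ι ≫ f) := isProper_ι f (U Z) (isClosed_of_mem_irreducibleComponents Z.1 Z.2)
    have h2 := bijective_of_connected k (U Z).toScheme ((U Z).ι ≫ f)
    have h3 : VarietyA.GlobalSections.gl ((U Z).ι ≫ f) ≫ (U Z).topIso.hom =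
        CommRingCat.ofHom ((r Z).comp (VarietyA.GlobalSections.gl f).hom) := by
      rw [CommRingCat.ofHom_comp]
      change _ = VarietyA.GlobalSections.gl f ≫ (X.presheaf.map (homOfLE le_top : U Z ⟶ ⊤).op)
      simp only [VarietyA.GlobalSections.gl, Category.assoc, Scheme.Hom.comp_appTop]
      congr 2
      rw [Scheme.Opens.ι_appTop, Scheme.Opens.topIso_hom]
      erw [← X.presheaf.map_comp]
      rfl
    have h4 : Function.Bijective (CommRingCat.Hom.hom (VarietyA.GlobalSections.gl ((U Z).ι ≫ f) ≫ (U Z).topIso.hom)) := by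
      rw [CommRingCat.hom_comp]
      exact (ConcreteCategory.bijective_of_isIso (U Z).topIso.hom).comp h2
    rw [h3] at h4
    exact h4
  have h2 : ∀ Z : ι, Module.finrank k Γ(X, U Z) = 1 := by
    intro Z
    rw [← Module.finrank_self k]
    exact (LinearEquiv.ofBijective (Algebra.linearMap k Γ(X, U Z)) (h1 Z)).finrank_eq.symm
  have h3 : ∀ Z : ι, Module.Finite k Γ(X, U Z) := fun Z => Module.finite_of_finrank_pos (by rw [h2 Z]; exact one_pos)
  rw [(LinearEquiv.ofBijective L hL).finrank_eq, Module.finrank_pi_fintype, Finset.sum_congr rfl fun Z _ => h2 Z,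
    Finset.sum_const, smul_eq_mul, mul_one, Finset.card_univ, Nat.card_eq_fintype_card]

/-- Connected reduced proper schemes have only constant functions. -/
theorem finrank_HH_zero_of_connected [IsReduced X] [ConnectedSpace X] :
    Module.finrank k (Coh.HH X (Coh.structureModule X) 0) = 1 := by
  let f := X ↘ (Spec (CommRingCat.of k))
  let e := VarietyA.H0Equiv.hZeroEquiv (Coh.structureModule X)
  let i0 : Algebra k Γ(X, ⊤) := (VarietyA.GlobalSections.gl f).hom.toAlgebra
  let e' : Coh.HH X (Coh.structureModule X) 0 ≃ₗ[k] Γ(X, ⊤) :=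
    { e with
      map_smul' := fun c x => VarietyA.H0Equiv.hZeroEquiv_smul (Coh.structureModule X) _ x }
  rw [e'.finrank_eq, ← Module.finrank_self k]
  exact (LinearEquiv.ofBijective (Algebra.linearMap k Γ(X, ⊤)) (bijective_of_connected k X f)).finrank_eq.symm

end K321.HZero
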