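import Groth.Agent.Curves.K321.HurwLoc
import Groth.Agent.Curves.K321.FibSum

/-!
# The Hurwitz formula for finite separable morphisms of normal curves

`hurwitz`: `2 (n χ(O_Y) - χ(O_X)) = ∑_x a_x [κ(x) : k]` with `a_x ≥ e_x - 1`, with equality iff `π` is tame at `x`.
-/

set_option autoImplicit false
universe u

open CategoryTheory CategoryTheory.Limits AlgebraicGeometry TopologicalSpace Opposite Module

namespace K321.Hurw

open Groth.Agent Groth.Agent.Divis.NormSheaf
open K321.PushLoc K321.PushEq K321.HurwLoc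

variable (k : Type u) [Field k] {X Y : Scheme.{u}} [X.Over (Spec (CommRingCat.of k))]
  [Y.Over (Spec (CommRingCat.of k))] [IsIntegral X] [IsIntegral Y] [IsProper (Y ↘ Spec (CommRingCat.of k))]
  [IsProper (X ↘ Spec (CommRingCat.of k))] (π : X ⟶ Y) [IsFinite π] [Surjective π]

omit [IsProper (Y ↘ Spec (CommRingCat.of k))] in
theorem residueDegree_pos (hdX : topologicalKrullDim X = 1) {x : X} (hx : x ≠ genericPoint X) :
    0 < (X ↘ Spec (CommRingCat.of k)).residueDegree x := by
  obtain ⟨-, -, h⟩ := LatSum.points k X hdX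
  have h1 := h x hx
  unfold Scheme.Hom.residueDegree
  let := ((X ↘ Spec (CommRingCat.of k)).residueFieldMap x).hom.toAlgebra
  have : Module.Finite ((Spec (CommRingCat.of k)).residueField ((X ↘ Spec (CommRingCat.of k)) x)) (X.residueField x) := h1
  exact Module.finrank_pos

include k in
theorem isClosed_iff (hdX : topologicalKrullDim X = 1) (hdY : topologicalKrullDim Y = 1) (x : X) :
    IsClosed ({x} : Set X) ↔ IsClosed ({π x} : Set Y) := by
  obtain ⟨hX1, hX2, -⟩ := LatSum.points k X hdX
  obtain ⟨hY1, hY2, -⟩ := LatSum.points k Y hdY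
  constructor
  · intro h
    have := π.isClosedMap _ h
    rwa [Set.image_singleton] at this
  · intro h
    apply hX1
    rintro rfl
    rw [map_genericPoint] at h
    exact hY2 h

/-- **The Hurwitz formula.** -/
theorem hurwitz (hdX : topologicalKrullDim X = 1) (hdY : topologicalKrullDim Y = 1)
    (hnX : Pi1.IsNormalScheme X) (hnY : Pi1.IsNormalScheme Y)
    (hf : π ≫ (Y ↘ Spec (CommRingCat.of k)) = X ↘ Spec (CommRingCat.of k))
    (hsep : letI := alg π; Algebra.IsSeparable Y.functionField X.functionField) :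
    letI := alg π
    ∃ a : X → ℕ, (∀ x, IsClosed ({x} : Set X) → ram π x ≤ a x + 1 ∧ (a x + 1 = ram π x ↔ Tame π x)) ∧
      {x : X | IsClosed ({x} : Set X) ∧ a x ≠ 0}.Finite ∧
      2 * ((finrank Y.functionField X.functionField : ℤ) * Curv2.euler k Y (Coh.structureModule Y) -
          Curv2.euler k X (Coh.structureModule X)) =
        ∑ᶠ x ∈ {x : X | IsClosed ({x} : Set X)},
          ((X ↘ Spec (CommRingCat.of k)).residueDegree x : ℤ) * (a x : ℤ) := by
  let := alg π
  have : IsLocallyNoetherian Y := LocallyOfFiniteType.isLocallyNoetherian (Y ↘ Spec (CommRingCat.of k))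
  have : IsLocallyNoetherian X := LocallyOfFiniteType.isLocallyNoetherian (X ↘ Spec (CommRingCat.of k))
  obtain ⟨hX1, hX2, -⟩ := LatSum.points k X hdX
  obtain ⟨hY1, hY2, -⟩ := LatSum.points k Y hdY
  obtain ⟨b, hb, hfin, hsum⟩ := two_mul_euler_sub k π hdY hnX (NormPid.isPrincipalIdealRing hnY hdY.le) hf hsep
  have hex : ∀ y : Y, ∃ a : X → ℕ, IsClosed ({y} : Set Y) →
      CycAlg.ordFrac (Y.presheaf.stalk y) Y.functionField (Algebra.discr Y.functionField (b y)) =
        ∑ᶠ x : {x : X // π x = y}, (π.residueDegree x.1 : ℤ) * (a x.1 : ℤ) ∧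
      ∀ x, π x = y → ram π x ≤ a x + 1 ∧ (a x + 1 = ram π x ↔ Tame π x) := by
    intro y
    by_cases hy : IsClosed ({y} : Set Y)
    · have hyη : y ≠ genericPoint Y := by
        rintro rfl
        exact hY2 hy
      obtain ⟨a, ha⟩ := exists_contrib π hnX hsep y (fun x hx => NormPid.isDiscreteValuationRing hnX hdX.le (by
        rintro rfl
        exact hyη (hx.symm.trans (map_genericPoint π)))) (NormPid.isDiscreteValuationRing hnY hdY.le hyη) (b y) (hb y)
      exact ⟨a, fun _ => ha⟩
    · exact ⟨0, fun h => absurd h hy⟩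
  choose a ha using hex
  have hdeg : ∀ x, (X ↘ Spec (CommRingCat.of k)).residueDegree x =
      (Y ↘ Spec (CommRingCat.of k)).residueDegree (π x) * π.residueDegree x := by
    intro x
    rw [← CycB.Push.residueDegree_comp, hf]
  obtain ⟨h1, h2⟩ := FibSum.finsum_fibres π (fun y => π.finite_preimage_singleton y) {y : Y | IsClosed ({y} : Set Y)}
    (fun x => ((X ↘ Spec (CommRingCat.of k)).residueDegree x : ℤ) * (a (π x) x : ℤ)) (fun x => by positivity)
    (fun y => ((Y ↘ Spec (CommRingCat.of k)).residueDegree y : ℤ) *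
          CycAlg.ordFrac (Y.presheaf.stalk y) Y.functionField (Algebra.discr Y.functionField (b y)))
    (fun y hy => by
      dsimp only
      rw [(ha y hy).1, mul_finsum]
      refine finsum_congr fun x => ?_
      obtain ⟨x, rfl⟩ := x
      rw [hdeg]
      push_cast
      ring)
    (hfin.subset fun y hy => right_ne_zero_of_mul hy.2)
  have h3 : (π ⁻¹' {y : Y | IsClosed ({y} : Set Y)} : Set X) = {x : X | IsClosed ({x} : Set X)} := by
    ext x
    exact (isClosed_iff k π hdX hdY x).symm
  refine ⟨fun x => a (π x) x, fun x hx => ?_, ?_, ?_⟩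
  · exact (ha (π x) ((isClosed_iff k π hdX hdY x).1 hx)).2 x rfl
  · refine h1.subset fun x hx => ⟨(isClosed_iff k π hdX hdY x).1 hx.1, mul_ne_zero ?_ ?_⟩
    · have := residueDegree_pos k hdX (x := x) (by
        rintro rfl
        exact hX2 hx.1)
      positivity
    · exact_mod_cast hx.2
  · rw [hsum, h2, h3]

end K321.Hurw
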