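import Groth.Agent.CurvesB.SmoothCurveFacts
import Groth.Agent.CurvesB.DimPts
import Groth.Prelude.Def_Pi1

/-!
# The local rings of a normal curve are principal ideal domains
-/

set_option autoImplicit false
universe u

open CategoryTheory CategoryTheory.Limits AlgebraicGeometry

namespace K321.NormPid

theorem isPrincipalIdealRing {X : Scheme.{u}} [IsIntegral X] [IsLocallyNoetherian X] (hX : Pi1.IsNormalScheme X)
    (hdim : topologicalKrullDim X ≤ 1) (x : X) : IsPrincipalIdealRing (X.presheaf.stalk x) := by
  have h1 : Ring.KrullDimLE 1 (X.presheaf.stalk x) := by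
    rw [Ring.krullDimLE_iff]
    exact (Groth.Agent.CurvesB.DimPts.ringKrullDim_stalk_le x).trans hdim
  have h3 : IsIntegrallyClosed (X.presheaf.stalk x) ∧
      ∀ P : Ideal (X.presheaf.stalk x), P ≠ ⊥ → P.IsPrime → P = IsLocalRing.maximalIdeal (X.presheaf.stalk x) := by
    refine ⟨(hX x).2, fun P hP hP' => ?_⟩
    have h2 := Ring.krullDimLE_one_iff_of_noZeroDivisors.1 h1 P hP hP'
    exact IsLocalRing.eq_maximalIdeal h2
  exact ((tfae_of_isNoetherianRing_of_isLocalRing_of_isDomain (X.presheaf.stalk x)).out 3 0).1 h3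

theorem isDiscreteValuationRing {X : Scheme.{u}} [IsIntegral X] [IsLocallyNoetherian X] (hX : Pi1.IsNormalScheme X)
    (hdim : topologicalKrullDim X ≤ 1) {x : X} (hx : x ≠ genericPoint X) :
    IsDiscreteValuationRing (X.presheaf.stalk x) := by
  have := isPrincipalIdealRing hX hdim x
  have h := Groth.Agent.CurvesB.SmoothCurveFacts.not_isField_stalk hx
  exact { not_a_field' := fun h' => h (IsLocalRing.isField_iff_maximalIdeal_eq.2 h') }

end K321.NormPid
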