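import Groth.Agent.Curves.K321.PushEq
import Groth.Agent.Curves.K321.DiscLocal
import Groth.Agent.Curves.K321.NormPid
import Groth.Agent.CycB.PushLocal

/-!
# The local contributions to the discriminant divisor

`norm_formula`: the norm formula for orders of rational functions, in terms of function fields.
`exists_contrib`: the order of the discriminant of the direct image at a closed point.
-/

set_option autoImplicit false
universe u

open CategoryTheory CategoryTheory.Limits AlgebraicGeometry TopologicalSpace Opposite Module

namespace K321.HurwLoc

open Groth.Agent Groth.Agent.Divis.NormSheaf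
open K321.PushLoc K321.PushEq

variable {X Y : Scheme.{u}} (π : X ⟶ Y) [IsIntegral X] [IsIntegral Y] [IsFinite π] [Surjective π]

/-- The function field of `Y` and the residue field at the image of the generic point. -/
noncomputable def sY : Y.functionField ≃+* Y.residueField (π (genericPoint X)) :=
  RingEquiv.ofBijective (Y.presheaf.stalkSpecializes (specializes_of_eq (map_genericPoint π)) ≫
    Y.residue (π (genericPoint X))).hom <| by
    have hgen := map_genericPoint π
    constructor
    · exact RingHom.injective _
    · have h1 : Function.Surjective (Y.residue (π (genericPoint X))).hom := Y.residue_surjective _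
      have h2 : IsIso (Y.presheaf.stalkSpecializes (specializes_of_eq (map_genericPoint π))) := by
        refine ⟨Y.presheaf.stalkSpecializes (specializes_of_eq (map_genericPoint π).symm), ?_, ?_⟩
        · rw [TopCat.Presheaf.stalkSpecializes_comp]
          exact TopCat.Presheaf.stalkSpecializes_refl Y.presheaf _
        · rw [TopCat.Presheaf.stalkSpecializes_comp]
          exact TopCat.Presheaf.stalkSpecializes_refl Y.presheaf _
      exact h1.comp (ConcreteCategory.bijective_of_isIso _).2

/-- The function field and the residue field at the generic point. -/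
noncomputable def sX (X : Scheme.{u}) [IsIntegral X] : X.functionField ≃+* X.residueField (genericPoint X) :=
  RingEquiv.ofBijective (X.residue (genericPoint X)).hom
    ⟨CycB.PushFinite.residue_injective rfl, X.residue_surjective _⟩

/-- The norm formula for orders. -/
theorem norm_formula [IsLocallyNoetherian Y] (y : Y) (hdim : ringKrullDim (Y.presheaf.stalk y) ≤ 1)
    (g : X.functionField) (hg : g ≠ 0) :
    letI := alg π
    CycAlg.ordFrac (Y.presheaf.stalk y) Y.functionField (Algebra.norm Y.functionField g) =
      ∑ᶠ x : {x : X // π x = y}, (π.residueDegree x.1 : ℤ) *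
        CycAlg.ordFrac (X.presheaf.stalk x.1) X.functionField g := by
  let := alg π
  let ir : Algebra (Y.residueField (π (genericPoint X))) (X.residueField (genericPoint X)) :=
    (π.residueFieldMap (genericPoint X)).hom.toAlgebra
  have hgen := map_genericPoint π
  have hfd := finite_functionField π
  have hsq : ∀ a : Y.functionField, algebraMap (Y.residueField (π (genericPoint X))) (X.residueField (genericPoint X))
      (sY π a) = sX X (ff π a) := by
    intro a
    exact congr($(Scheme.residue_residueFieldMap π (genericPoint X)).hom
      (Y.presheaf.stalkSpecializes (specializes_of_eq (map_genericPoint π)) a))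
  have hfin : (π.residueFieldMap (genericPoint X)).hom.Finite := by
    have h1 : (ff π).Finite := hfd
    have h2 : ((sX X : X.functionField →+* X.residueField (genericPoint X)).comp (ff π)).Finite :=
      RingHom.Finite.comp (RingHom.Finite.of_surjective _ (sX X).surjective) h1
    have h3 : (π.residueFieldMap (genericPoint X)).hom.comp
        (sY π : Y.functionField →+* Y.residueField (π (genericPoint X))) =
        (sX X : X.functionField →+* X.residueField (genericPoint X)).comp (ff π) := RingHom.ext hsq
    rw [← h3] at h2
    exact RingHom.Finite.of_comp_finite h2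
  have hsp : π (genericPoint X) ⤳ y := by
    rw [hgen]
    exact genericPoint_specializes y
  have hg' : sX X g ≠ 0 := (map_ne_zero_iff _ (sX X).injective).2 hg
  have h1 := CycB.PushLocal.ordFrac_norm_integral π hgen hfin y hdim hsp (sX X g) hg'
  have h2 : Cyc.normGen π (genericPoint X) (sX X g) = sY π (Algebra.norm Y.functionField g) := by
    have h3 := Algebra.norm_eq_of_equiv_equiv (sY π) (sX X) (RingHom.ext hsq) g
    rw [h3, RingEquiv.apply_symm_apply]
    rfl
  rw [h2] at h1
  let iy : Algebra (Y.presheaf.stalk y) (Y.residueField (π (genericPoint X))) :=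
    (Cyc.specMap y (π (genericPoint X)) hsp).toAlgebra
  have h4 := CycB.OrdFrac.ordFrac_congr (R := Y.presheaf.stalk y) (R' := Y.presheaf.stalk y) (RingEquiv.refl _) (sY π)
    (fun a => by
      have h5 := TopCat.Presheaf.stalkSpecializes_comp_apply Y.presheaf
        (specializes_of_eq (map_genericPoint π)) (genericPoint_specializes y) a
      exact congrArg (Y.residue (π (genericPoint X))) h5) (Algebra.norm Y.functionField g)
  rw [← h4]
  refine h1.trans (finsum_congr fun x => ?_)
  congr 1
  let ix : Algebra (X.presheaf.stalk x.1) (X.residueField (genericPoint X)) :=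
    (Cyc.specMap x.1 (genericPoint X) (CycB.PushFinite.genericPoint_specializes' rfl x.1)).toAlgebra
  exact CycB.OrdFrac.ordFrac_congr (R := X.presheaf.stalk x.1) (R' := X.presheaf.stalk x.1) (RingEquiv.refl _) (sX X)
    (fun a => rfl) g

/-- The ramification index at a point. -/
noncomputable def ram {X Y : Scheme.{u}} (π : X ⟶ Y) (x : X) : ℕ :=
  letI := (π.stalkMap x).hom.toAlgebra
  Ideal.ramificationIdx (IsLocalRing.maximalIdeal (X.presheaf.stalk x)) (Y.presheaf.stalk (π x))

/-- Tame ramification at a point. -/
def Tame {X Y : Scheme.{u}} (π : X ⟶ Y) (x : X) : Prop :=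
  letI := (π.residueFieldMap x).hom.toAlgebra
  Algebra.IsSeparable (Y.residueField (π x)) (X.residueField x) ∧ ((ram π x : ℕ) : Y.residueField (π x)) ≠ 0

/-- The contribution of a point to the different. -/
theorem exists_local (hsep : letI := alg π; Algebra.IsSeparable Y.functionField X.functionField) (x : X)
    (hSd : IsDiscreteValuationRing (X.presheaf.stalk x)) (hRd : IsDiscreteValuationRing (Y.presheaf.stalk (π x))) :
    letI := alg π
    letI := algY π (π x)
    ∀ (_hB : IsDedekindDomain (integralClosure (Y.presheaf.stalk (π x)) X.functionField))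
      (_ht : Module.IsTorsionFree (Y.presheaf.stalk (π x)) (integralClosure (Y.presheaf.stalk (π x)) X.functionField))
      (d : integralClosure (Y.presheaf.stalk (π x)) X.functionField) (_hd0 : d ≠ 0)
      (_hd : differentIdeal (Y.presheaf.stalk (π x)) (integralClosure (Y.presheaf.stalk (π x)) X.functionField) =
        Ideal.span {d}),
      ∃ a : ℕ, CycAlg.ordFrac (X.presheaf.stalk x) X.functionField (d : X.functionField) = a ∧
        ram π x ≤ a + 1 ∧ (a + 1 = ram π x ↔ Tame π x) := by
  let := alg π
  have hfd := finite_functionField π
  let := algY π (π x)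
  have t0 : IsScalarTower (Y.presheaf.stalk (π x)) Y.functionField X.functionField := IsScalarTower.of_algebraMap_eq' rfl
  let := (π.stalkMap x).hom.toAlgebra
  have t1 : IsScalarTower (Y.presheaf.stalk (π x)) (X.presheaf.stalk x) X.functionField := by
    refine IsScalarTower.of_algebraMap_eq fun a => ?_
    have h1 := congr($(Scheme.Hom.stalkSpecializes_stalkMap π (genericPoint X) x (genericPoint_specializes x)).hom a)
    have h2 := TopCat.Presheaf.stalkSpecializes_comp_apply Y.presheaf
        (specializes_of_eq (map_genericPoint π)) (genericPoint_specializes (π x)) a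
    refine Eq.trans ?_ h1
    exact congrArg (π.stalkMap (genericPoint X)) h2
  have hloc : IsLocalHom (algebraMap (Y.presheaf.stalk (π x)) (X.presheaf.stalk x)) :=
    inferInstanceAs (IsLocalHom (π.stalkMap x).hom)
  let : Algebra (IsLocalRing.ResidueField (Y.presheaf.stalk (π x))) (IsLocalRing.ResidueField (X.presheaf.stalk x)) :=
    (π.residueFieldMap x).hom.toAlgebra
  intro hB ht d hd0 hd
  exact DiscLocal.ordFrac_different (K := Y.functionField) (X.presheaf.stalk x) (fun r =>
    congr($(Scheme.residue_residueFieldMap π x).hom r)) hB ht d hd0 hd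

/-- **The order of the discriminant of the direct image at a closed point.** -/
theorem exists_contrib [IsLocallyNoetherian Y] (hX : Pi1.IsNormalScheme X)
    (hsep : letI := alg π; Algebra.IsSeparable Y.functionField X.functionField) (y : Y)
    (hS : ∀ x : X, π x = y → IsDiscreteValuationRing (X.presheaf.stalk x))
    (hR : IsDiscreteValuationRing (Y.presheaf.stalk y)) {n : ℕ} :
    letI := alg π
    ∀ (b : Basis (Fin n) Y.functionField X.functionField) (_ : LocB π y b),
    ∃ a : X → ℕ, CycAlg.ordFrac (Y.presheaf.stalk y) Y.functionField (Algebra.discr Y.functionField b) =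
        ∑ᶠ x : {x : X // π x = y}, (π.residueDegree x.1 : ℤ) * (a x.1 : ℤ) ∧
      ∀ x, π x = y → ram π x ≤ a x + 1 ∧ (a x + 1 = ram π x ↔ Tame π x) := by
  let := alg π
  have hfd := finite_functionField π
  let := algY π y
  have t0 : IsScalarTower (Y.presheaf.stalk y) Y.functionField X.functionField := IsScalarTower.of_algebraMap_eq' rfl
  rintro b ⟨U, hy, s, hs, hb⟩
  have hB := DiscDiff.isDedekindDomain_integralClosure (Y.presheaf.stalk y) Y.functionField X.functionField
  have ht := DiscDiff.isTorsionFree_integralClosure (Y.presheaf.stalk y) Y.functionField X.functionField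
  obtain ⟨d, hd0, hd, hd'⟩ := DiscDiff.exists_different_eq_span (Y.presheaf.stalk y) Y.functionField X.functionField hB ht
  have h1 := DiscDiff.ordFrac_discr (Y.presheaf.stalk y) Y.functionField X.functionField b (fun z => by
    refine (isIntegral_iff π hX s hs y hy z).trans ?_
    refine exists_congr fun c => ?_
    have h3 : ∀ i, c i • b i =
        ff π (algebraMap (Y.presheaf.stalk y) Y.functionField (c i)) * gX π (mem_of_mem hy) (s i) := fun i => by
      rw [Algebra.smul_def, hb]
      rfl
    simp only [h3]) d hd0 hd'
  have hdim : ringKrullDim (Y.presheaf.stalk y) ≤ 1 :=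
    (Ring.krullDimLE_iff (n := 1)).1 inferInstance
  have h2 := norm_formula π y hdim (d : X.functionField) (fun h => hd0 (Subtype.ext h))
  have hex : ∀ x : X, ∃ a : ℕ, π x = y → CycAlg.ordFrac (X.presheaf.stalk x) X.functionField (d : X.functionField) = a ∧
        ram π x ≤ a + 1 ∧ (a + 1 = ram π x ↔ Tame π x) := by
    intro x
    by_cases hx : π x = y
    · subst hx
      obtain ⟨a, ha⟩ := exists_local π hsep x (hS x rfl) hR hB ht d hd0 hd
      exact ⟨a, fun _ => ha⟩
    · exact ⟨0, fun h => absurd h hx⟩
  choose a ha using hex
  refine ⟨a, ?_, fun x hx => (ha x hx).2⟩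
  rw [h1, h2]
  exact finsum_congr fun x => by rw [(ha x.1 x.2).1]

end K321.HurwLoc
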