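import Groth.Agent.Curves.K321.HurwBase

/-!
# The Hurwitz inequality for finite separable morphisms of normal curves
-/

set_option autoImplicit false
universe u

open CategoryTheory CategoryTheory.Limits AlgebraicGeometry TopologicalSpace Opposite Module

namespace K321.HurwMain

open Groth.Agent Groth.Agent.Divis.NormSheaf
open K321.HurwLoc K321.HurwBase

attribute [local instance] Curv2.resAlgebra

open Classical in
/-- The Hurwitz inequality. -/
theorem main (k : Type u) [Field k]
    (X Y : Scheme.{u}) [X.Over (Spec (CommRingCat.of k))] [Y.Over (Spec (CommRingCat.of k))]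
    [IsProper (X ↘ (Spec (CommRingCat.of k)))] [IsProper (Y ↘ (Spec (CommRingCat.of k)))]
    [IsIntegral X] [IsIntegral Y] (hdX : topologicalKrullDim X = 1) (hdY : topologicalKrullDim Y = 1)
    (hnX : Pi1.IsNormalScheme X) (hnY : Pi1.IsNormalScheme Y)
    (f : X ⟶ Y) [IsFinite f] [Surjective f] (hf : f ≫ (Y ↘ (Spec (CommRingCat.of k))) = X ↘ (Spec (CommRingCat.of k)))
    (hsep : letI := alg f; Algebra.IsSeparable Y.functionField X.functionField) :
    letI := alg f
    letI S : ℤ := ∑ᶠ x : X, (if IsClosed ({x} : Set X) then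
        (((ram f x - 1 : ℕ) : ℤ) * (Module.finrank k (X.residueField x) : ℤ))
      else 0)
    S ≤ 2 * ((finrank Y.functionField X.functionField : ℤ) * Curv2.euler k Y (Coh.structureModule Y) -
          Curv2.euler k X (Coh.structureModule X)) ∧
      (S = 2 * ((finrank Y.functionField X.functionField : ℤ) * Curv2.euler k Y (Coh.structureModule Y) -
          Curv2.euler k X (Coh.structureModule X)) ↔ ∀ x : X, IsClosed ({x} : Set X) → Tame f x) := by
  let := alg f
  obtain ⟨hX1, hX2, -⟩ := LatSum.points k X hdX
  obtain ⟨hY1, hY2, -⟩ := LatSum.points k Y hdY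
  have : IsLocallyNoetherian Y := LocallyOfFiniteType.isLocallyNoetherian (Y ↘ Spec (CommRingCat.of k))
  have : IsLocallyNoetherian X := LocallyOfFiniteType.isLocallyNoetherian (X ↘ Spec (CommRingCat.of k))
  obtain ⟨a, ha, hfin, hsum⟩ := Hurw.hurwitz k f hdX hdY hnX hnY hf hsep
  have hpos : ∀ x, IsClosed ({x} : Set X) → 1 ≤ ram f x := by
    intro x hx
    have h1 : x ≠ genericPoint X := by
      rintro rfl
      exact hX2 hx
    have h2 : f x ≠ genericPoint Y := by
      intro h
      have := (Hurw.isClosed_iff k f hdX hdY x).1 hx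
      rw [h] at this
      exact hY2 this
    exact ram_pos f x (NormPid.isDiscreteValuationRing hnX hdX.le h1) (NormPid.isDiscreteValuationRing hnY hdY.le h2)
  have hdeg : ∀ x, IsClosed ({x} : Set X) → 0 < (Module.finrank k (X.residueField x) : ℤ) := by
    intro x hx
    rw [finrank_residueField]
    exact_mod_cast Hurw.residueDegree_pos k hdX (x := x) (by
      rintro rfl
      exact hX2 hx)
  -- rewrite the two sums over a finite set
  have hS : ∑ᶠ x : X, (if IsClosed ({x} : Set X) then
        (((ram f x - 1 : ℕ) : ℤ) * (Module.finrank k (X.residueField x) : ℤ)) else 0) =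
      ∑ x ∈ hfin.toFinset, ((ram f x - 1 : ℕ) : ℤ) * (Module.finrank k (X.residueField x) : ℤ) := by
    rw [finsum_eq_sum_of_support_subset (s := hfin.toFinset)]
    · refine Finset.sum_congr rfl fun x hx => ?_
      rw [Set.Finite.mem_toFinset] at hx
      rw [if_pos hx.1]
    · intro x hx
      rw [Set.Finite.coe_toFinset]
      by_cases hc : IsClosed ({x} : Set X)
      · refine ⟨hc, fun h0 => hx ?_⟩
        have := (ha x hc).1
        dsimp only
        rw [if_pos hc, show ram f x - 1 = 0 by omega]
        simp
      · exact absurd (if_neg hc) hx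
  have hA : 2 * ((finrank Y.functionField X.functionField : ℤ) * Curv2.euler k Y (Coh.structureModule Y) -
          Curv2.euler k X (Coh.structureModule X)) =
      ∑ x ∈ hfin.toFinset, (a x : ℤ) * (Module.finrank k (X.residueField x) : ℤ) := by
    rw [hsum]
    refine (finsum_mem_eq_sum_of_inter_support_eq _ (t := hfin.toFinset) ?_).trans ?_
    · ext x
      constructor
      · rintro ⟨hx, hx'⟩
        refine ⟨?_, hx'⟩
        rw [Set.Finite.coe_toFinset]
        exact ⟨hx, by exact_mod_cast right_ne_zero_of_mul hx'⟩
      · rintro ⟨hx, hx'⟩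
        rw [Set.Finite.coe_toFinset] at hx
        exact ⟨hx.1, hx'⟩
    · refine Finset.sum_congr rfl fun x _ => ?_
      rw [finrank_residueField, mul_comm]
  have hle : ∀ x ∈ hfin.toFinset, ((ram f x - 1 : ℕ) : ℤ) * (Module.finrank k (X.residueField x) : ℤ) ≤
      (a x : ℤ) * (Module.finrank k (X.residueField x) : ℤ) := by
    intro x hx
    rw [Set.Finite.mem_toFinset] at hx
    have := (ha x hx.1).1
    refine mul_le_mul_of_nonneg_right ?_ (hdeg x hx.1).le
    exact_mod_cast (show ram f x - 1 ≤ a x by omega)
  rw [hS, hA]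
  refine ⟨Finset.sum_le_sum hle, ?_⟩
  rw [Finset.sum_eq_sum_iff_of_le hle]
  constructor
  · intro h x hx
    rw [← (ha x hx).2]
    by_cases h0 : a x = 0
    · have h1 := (ha x hx).1
      have h2 := hpos x hx
      omega
    · have h1 := h x (by
        rw [Set.Finite.mem_toFinset]
        exact ⟨hx, h0⟩)
      have h2 := mul_right_cancel₀ (hdeg x hx).ne' h1
      have h3 := hpos x hx
      have h4 : ram f x - 1 = a x := by exact_mod_cast h2
      omega
  · intro h x hx
    rw [Set.Finite.mem_toFinset] at hx
    have h1 := (ha x hx.1).2.2 (h x hx.1)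
    congr 2
    omega

end K321.HurwMain
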