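import Groth.Agent.Curves.K321.ContrStalk
import Groth.Agent.Curves.K323.PtIdeal

/-!
# The ideal of a reduced closed subscheme consisting of closed points
-/

set_option autoImplicit false
universe u

open CategoryTheory CategoryTheory.Limits AlgebraicGeometry TopologicalSpace Opposite

namespace K321.IdealPts

open Groth.Agent Groth.Agent.CycB.StalkExact Groth.Agent.CurvesB Groth.Agent.VarietyA.StalkCrit ContrStalk

variable {X : Scheme.{u}} (J : X.IdealSheafData)

theorem range_cst_of_not_mem {x : X} (hx : x ∉ Set.range J.subschemeι) :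
    LinearMap.range (cst (ClSub.idealModι J) x) = ⊤ := by
  obtain ⟨h1, h2, h3⟩ := stalkLin_shortExact _ (VarietyB.DegCartier.idealSeq_shortExact J) x
  have : Subsingleton ((ClSub.quotMod J).presheaf.stalk x) := SubClosed.subsingleton_stalk_push _ _ x hx
  rw [LinearMap.range_eq_top]
  refine (Fdesc.StructMod.stalkEquiv x).symm.surjective.comp fun t => ?_
  exact (h2 t).mp (@Subsingleton.elim _ this _ _)

theorem ker_toSubscheme (hred : IsReduced J.subscheme)
    (hc : ∀ x ∈ Set.range J.subschemeι, IsClosed ({x} : Set X)) {x : X} (hx : x ∈ Set.range J.subschemeι)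
    (a : X.presheaf.stalk x) : stalkLin (ClSub.toSubscheme J) x (Fdesc.StructMod.stalkEquiv x a) = 0 ↔
      a ∈ IsLocalRing.maximalIdeal (X.presheaf.stalk x) := by
  obtain ⟨y, hy⟩ := hx
  have hf : IsField (J.subscheme.presheaf.stalk y) := by
    refine GenStalk.isField_stalk y fun y' hy' => J.subschemeι.isClosedEmbedding.injective ?_
    have h1 := hy'.map J.subschemeι.continuous
    have h2 := h1.mem_closure
    rw [(hc _ ⟨y', rfl⟩).closure_eq] at h2
    exact (Set.mem_singleton_iff.1 h2).symm
  subst hy
  have hnt : Nontrivial ((ClSub.quotMod J).presheaf.stalk (J.subschemeι y)) := by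
    have h1 := Ega1.ClosedUnit.pushAdd_bijective J.subschemeι
      J.subschemeι.isClosedEmbedding.isInducing (Coh.structureModule J.subscheme) y
    have h2 : Nontrivial ((Coh.structureModule J.subscheme).presheaf.stalk y) :=
      (Fdesc.StructMod.stalkEquiv y).symm.toEquiv.nontrivial
    exact (Equiv.ofBijective _ h1).nontrivial
  let g : X.presheaf.stalk (J.subschemeι y) →ₗ[X.presheaf.stalk (J.subschemeι y)]
      (ClSub.quotMod J).presheaf.stalk (J.subschemeι y) :=
    stalkLin (ClSub.toSubscheme J) (J.subschemeι y) ∘ₗ (Fdesc.StructMod.stalkEquiv (J.subschemeι y)).toLinearMap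
  have key : LinearMap.ker g = IsLocalRing.maximalIdeal (X.presheaf.stalk (J.subschemeι y)) := by
    symm
    refine (IsLocalRing.maximalIdeal.isMaximal _).eq_of_le ?_ ?_
    · intro h
      obtain ⟨t, ht⟩ := exists_ne (0 : (ClSub.quotMod J).presheaf.stalk (J.subschemeι y))
      obtain ⟨s, rfl⟩ := stalkLin_surjective (ClSub.toSubscheme J) _ t
      obtain ⟨a, rfl⟩ := (Fdesc.StructMod.stalkEquiv (J.subschemeι y)).surjective s
      apply ht
      have : a ∈ LinearMap.ker g := by rw [h]; trivial
      exact this
    · intro a ha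
      rw [LinearMap.mem_ker]
      have h1 := map_smul g a 1
      rw [smul_eq_mul, mul_one] at h1
      rw [h1]
      exact SubPoint.smul_stalk_push_eq_zero J.subschemeι _ y hf a ha _
  rw [← key]
  rfl

theorem range_cst (hred : IsReduced J.subscheme)
    (hc : ∀ x ∈ Set.range J.subschemeι, IsClosed ({x} : Set X)) {x : X} (hx : x ∈ Set.range J.subschemeι) :
    LinearMap.range (cst (ClSub.idealModι J) x) = IsLocalRing.maximalIdeal (X.presheaf.stalk x) := by
  obtain ⟨h1, h2, h3⟩ := stalkLin_shortExact _ (VarietyB.DegCartier.idealSeq_shortExact J) x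
  let e := Fdesc.StructMod.stalkEquiv x
  ext a
  rw [← ker_toSubscheme J hred hc hx a]
  constructor
  · rintro ⟨s, rfl⟩
    have h4 : e (cst (ClSub.idealModι J) x s) = stalkLin (ClSub.idealModι J) x s := e.apply_symm_apply _
    change stalkLin (ClSub.toSubscheme J) x (e (cst (ClSub.idealModι J) x s)) = 0
    rw [h4]
    exact (h2 _).mpr ⟨s, rfl⟩
  · intro ha
    obtain ⟨s, hs⟩ := (h2 (e a)).mp ha
    refine ⟨s, ?_⟩
    change e.symm (stalkLin (ClSub.idealModι J) x s) = a
    erw [hs]
    exact e.symm_apply_apply a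

variable {S : Set X} (hS : IsClosed S)

include hS in
theorem range_vanishing : Set.range (Scheme.IdealSheafData.vanishingIdeal ⟨closure S, isClosed_closure⟩ :
    X.IdealSheafData).subschemeι = S := by
  erw [Scheme.IdealSheafData.range_subschemeι]
  rw [Scheme.IdealSheafData.coe_support_vanishingIdeal]
  exact hS.closure_eq

end K321.IdealPts
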