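import Groth.Agent.CycB.DegIntegral
import Groth.Agent.CycB.OrdDet
import Groth.Agent.CycB.ModStalk
import Groth.Agent.CycB.OrdFrac
import Groth.Agent.Krr.H487.LocBasisPull

/-!
# Lengths of cokernels and determinants on generic stalks

`ordFrac_det`: for a morphism `i : P ⟶ M` injective on the stalk at `x`, with `P`, `M` locally free of rank `n` near
`x`, the length of the cokernel of `i_x` is the order at `x` of the determinant of `i_η` with respect to bases of the
generic stalks given by local bases near `x`.
-/

set_option autoImplicit false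
universe u

open CategoryTheory CategoryTheory.Limits AlgebraicGeometry TopologicalSpace Opposite Module

namespace K321.LatLoc

open Groth.Agent Groth.Agent.CycB.StalkExact Groth.Agent.CycB.DegIntegral
open Groth.Agent.Sga67.Sec Groth.Agent.Sga67.LocBasis Groth.Agent.Sga67.LocBasisStalk
open Groth.Agent.Krr.H487.LocBasisPull

variable {X : Scheme.{u}} [IsIntegral X]

/-- A basis of the generic stalk given by a local basis near `x`. -/
def LocAt (M : X.Modules) {n : ℕ} (x : X)
    (β : Basis (Fin n) (X.presheaf.stalk (genericPoint X)) (M.presheaf.stalk (genericPoint X))) : Prop :=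
  ∃ (U : X.Opens) (_ : x ∈ U) (hη : genericPoint X ∈ U) (s : Fin n → Sec M U),
    IsLocBasis s ∧ ∀ k, β k = ger M (genericPoint X) hη (s k)

theorem generic_mem {U : X.Opens} {x : X} (hx : x ∈ U) : genericPoint X ∈ U :=
  (genericPoint_spec X).mem_open_set_iff U.2 |>.2 ⟨x, trivial, hx⟩

theorem exists_locAt {M : X.Modules} {n : ℕ} {x : X} {U : X.Opens} (hx : x ∈ U) (s : Fin n → Sec M U)
    (hs : IsLocBasis s) :
    ∃ β : Basis (Fin n) (X.presheaf.stalk (genericPoint X)) (M.presheaf.stalk (genericPoint X)),
      LocAt M x β ∧ ∀ k, β k = ger M (genericPoint X) (generic_mem hx) (s k) := by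
  obtain ⟨β, hβ⟩ := exists_stalkBasis hs (genericPoint X) (generic_mem hx)
  exact ⟨β, ⟨U, hx, generic_mem hx, s, hs, hβ⟩, hβ⟩

/-- Specialization of germs to the generic point. -/
theorem spec_ger {M : X.Modules} {x : X} {U : X.Opens} (hx : x ∈ U) (hη : genericPoint X ∈ U) (s : Sec M U) :
    M.presheaf.stalkSpecializes (genericPoint_specializes x) (ger M x hx s) = ger M (genericPoint X) hη s :=
  TopCat.Presheaf.germ_stalkSpecializes_apply M.presheaf hx (genericPoint_specializes x) s

theorem spec_smul {M : X.Modules} {x : X} (r : X.presheaf.stalk x) (m : M.presheaf.stalk x) :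
    M.presheaf.stalkSpecializes (genericPoint_specializes x) (r • m) =
      algebraMap (X.presheaf.stalk x) X.functionField r • M.presheaf.stalkSpecializes (genericPoint_specializes x) m :=
  CycB.ModStalk.stalkSpecializes_smul (genericPoint_specializes x) r m

/-- The order of the determinant of a morphism on the generic stalk is the length of the cokernel. -/
theorem ordFrac_det {P M : X.Modules} (i : P ⟶ M) {n : ℕ} (x : X)
    (hi : Function.Injective (stalkLin i x)) [IsNoetherianRing (X.presheaf.stalk x)]
    [Ring.KrullDimLE 1 (X.presheaf.stalk x)]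
    (βP : Basis (Fin n) (X.presheaf.stalk (genericPoint X)) (P.presheaf.stalk (genericPoint X)))
    (βM : Basis (Fin n) (X.presheaf.stalk (genericPoint X)) (M.presheaf.stalk (genericPoint X)))
    (hP : LocAt P x βP) (hM : LocAt M x βM) :
    (LinearMap.toMatrix βP βM (stalkLin i (genericPoint X))).det ≠ 0 ∧
    CycAlg.ordFrac (X.presheaf.stalk x) X.functionField
      (LinearMap.toMatrix βP βM (stalkLin i (genericPoint X))).det =
      ((Module.length (X.presheaf.stalk x) ((cokernel i).presheaf.stalk x)).toNat : ℤ) := by
  obtain ⟨U, hxU, hηU, s, hs, hsβ⟩ := hP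
  obtain ⟨V, hxV, hηV, t, ht, htβ⟩ := hM
  obtain ⟨bP, hbP⟩ := exists_stalkBasis hs x hxU
  obtain ⟨bM, hbM⟩ := exists_stalkBasis ht x hxV
  have hmat : LinearMap.toMatrix βP βM (stalkLin i (genericPoint X)) =
      (algebraMap (X.presheaf.stalk x) X.functionField).mapMatrix (LinearMap.toMatrix bP bM (stalkLin i x)) := by
    ext a b
    rw [LinearMap.toMatrix_apply]
    have h1 : stalkLin i (genericPoint X) (βP b) = ∑ c, algebraMap (X.presheaf.stalk x) X.functionField
        (LinearMap.toMatrix bP bM (stalkLin i x) c b) • βM c := by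
      rw [hsβ, ← spec_ger hxU hηU, ← hbP]
      refine (stalkLin_stalkSpecializes i (genericPoint_specializes x) _).trans ?_
      have h2 : stalkLin i x (bP b) = ∑ c, LinearMap.toMatrix bP bM (stalkLin i x) c b • bM c := by
        conv_lhs => rw [← bM.sum_repr (stalkLin i x (bP b))]
        exact Finset.sum_congr rfl fun c _ => by rw [LinearMap.toMatrix_apply]
      rw [h2, map_sum]
      refine Finset.sum_congr rfl fun c _ => ?_
      rw [spec_smul, hbM, htβ]
      congr 1
      exact spec_ger hxV hηV _
    rw [h1, map_sum, Finsupp.finsetSum_apply, Finset.sum_eq_single a]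
    · rw [map_smul, Basis.repr_self, Finsupp.smul_apply, Finsupp.single_eq_same, smul_eq_mul, mul_one]
      rfl
    · intro c _ hc
      rw [map_smul, Basis.repr_self, Finsupp.smul_apply, Finsupp.single_eq_of_ne hc.symm, smul_zero]
    · intro h
      exact absurd (Finset.mem_univ a) h
  have hdet : (LinearMap.toMatrix bP bM (stalkLin i x)).det ≠ 0 := by
    intro h0
    obtain ⟨v, hv, hv0⟩ := Matrix.exists_mulVec_eq_zero_iff.2 h0
    apply hv
    have h3 : stalkLin i x (bP.equivFun.symm v) = 0 := by
      apply bM.repr.injective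
      have h5 := LinearMap.toMatrix_mulVec_repr bP bM (stalkLin i x) (bP.equivFun.symm v)
      have h6 : (bP.repr (bP.equivFun.symm v) : Fin n → _) = v := bP.equivFun.apply_symm_apply v
      rw [h6, hv0] at h5
      ext c
      rw [map_zero]
      exact (congrFun h5 c).symm
    have h4 := hi (h3.trans (map_zero _).symm)
    exact (LinearEquiv.map_eq_zero_iff _).1 h4
  have hmap : (LinearMap.toMatrix βP βM (stalkLin i (genericPoint X))).det =
      algebraMap (X.presheaf.stalk x) X.functionField (LinearMap.toMatrix bP bM (stalkLin i x)).det := by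
    rw [hmat, RingHom.map_det]
  rw [hmap]
  refine ⟨(map_ne_zero_iff _ (IsFractionRing.injective (X.presheaf.stalk x) X.functionField)).2 hdet, ?_⟩
  rw [CycB.OrdFrac.ordFrac_algebraMap _ _ hdet, length_cokernel_stalk,
    ← CycB.OrdDet.good _ hdet]
  congr 2
  unfold CycB.OrdDet.mLen CycB.OrdDet.coLen
  let e : ((Fin n → X.presheaf.stalk x) ⧸ LinearMap.range (LinearMap.toMatrix bP bM (stalkLin i x)).mulVecLin) ≃ₗ[X.presheaf.stalk x]
      (M.presheaf.stalk x ⧸ LinearMap.range (stalkLin i x)) := by
    refine Submodule.Quotient.equiv _ _ bM.equivFun.symm ?_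
    have h7 : (bM.equivFun.symm : (Fin n → X.presheaf.stalk x) →ₗ[X.presheaf.stalk x] M.presheaf.stalk x) ∘ₗ
        (LinearMap.toMatrix bP bM (stalkLin i x)).mulVecLin =
        stalkLin i x ∘ₗ (bP.equivFun.symm : (Fin n → X.presheaf.stalk x) →ₗ[X.presheaf.stalk x] P.presheaf.stalk x) := by
      refine LinearMap.ext fun v => ?_
      apply bM.equivFun.injective
      rw [LinearMap.comp_apply, LinearMap.comp_apply, LinearEquiv.coe_coe, LinearEquiv.apply_symm_apply,
        Matrix.mulVecLin_apply]
      have h5 := LinearMap.toMatrix_mulVec_repr bP bM (stalkLin i x) (bP.equivFun.symm v)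
      have h6 : (bP.repr (bP.equivFun.symm v) : Fin n → _) = v := bP.equivFun.apply_symm_apply v
      rw [h6] at h5
      exact h5
    change Submodule.map (bM.equivFun.symm : (Fin n → X.presheaf.stalk x) →ₗ[X.presheaf.stalk x] M.presheaf.stalk x) _ = _
    rw [← LinearMap.range_comp, h7, LinearMap.range_comp, LinearEquiv.range, Submodule.map_top]
  exact e.length_eq

end K321.LatLoc
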