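import Groth.Agent.Curves.K321.SubLoc
import Groth.Agent.CohqA.AssInj
import Groth.Agent.Ega1.SubSheaf
import Groth.Agent.Ega1.ModGerm

/-!
# Saturation of submodules of coherent modules on integral schemes

* `gsub E W`: the submodule of `E` of the sections whose germ at the generic point lies in the subspace `W` of `E_η`;
* `isQCoh_gsub`, `isCoh_gsub`; the quotient of `E` by it is torsion free (`torsionFree_cokernel_gsub`);
* `exists_saturation`: a coherent submodule `L ⊆ E` is contained in a submodule `L' ⊆ E` of the same generic rank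
  with torsion-free quotient.
-/

set_option autoImplicit false
universe u

open CategoryTheory CategoryTheory.Limits AlgebraicGeometry TopologicalSpace Opposite

namespace K321.Satur

open Groth.Agent.CycB.StalkExact
open Groth.Agent.VarietyA.DegRank
open Groth.Agent.Ega1 Groth.Agent.Ega1.ModGerm
open K321.SubLoc

variable {X : Scheme.{u}} [IsIntegral X]

/-- The sections of `E` whose germ at the generic point lies in `W`. -/
noncomputable def gsub (E : X.Modules)
    (W : Submodule (X.presheaf.stalk (genericPoint X)) (E.presheaf.stalk (genericPoint X))) : SubSheaf.Sub E where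
  obj U :=
    { carrier := {s | ∀ hx : genericPoint X ∈ U, germ E U (genericPoint X) hx s ∈ W}
      add_mem' := by
        intro a b ha hb hx
        rw [map_add]
        exact W.add_mem (ha hx) (hb hx)
      zero_mem' := by
        intro hx
        rw [map_zero]
        exact W.zero_mem
      smul_mem' := by
        intro r a ha hx
        rw [ModGerm.germ_smul]
        exact W.smul_mem _ (ha hx) }
  map_mem := by
    intro U V h s hs hx
    have := hs (h hx)
    change germ E V _ hx (E.presheaf.map (homOfLE h).op s) ∈ _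
    rw [germ_res]
    exact this
  local_mem := by
    intro U s h hx
    obtain ⟨V, hV, hxV, hs⟩ := h (genericPoint X) hx
    have := hs hxV
    change germ E V _ hxV (E.presheaf.map (homOfLE hV).op s) ∈ _ at this
    rw [germ_res] at this
    exact this

variable (E : X.Modules)
    (W : Submodule (X.presheaf.stalk (genericPoint X)) (E.presheaf.stalk (genericPoint X)))

theorem mem_gsub {U : X.Opens} (s : Γ(E, U)) :
    s ∈ (gsub E W).obj U ↔ ∀ hx : genericPoint X ∈ U, germ E U (genericPoint X) hx s ∈ W := Iff.rfl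

omit E W in
theorem generic_mem {U : X.Opens} {x : X} (hx : x ∈ U) : genericPoint X ∈ U :=
  (genericPoint_spec X).mem_open_set_iff U.2 |>.2 ⟨x, trivial, hx⟩

variable {E}

theorem isQCoh_gsub (hE : Coh.IsQCoh E) : Coh.IsQCoh (gsub E W).toModules := by
  refine Groth.Agent.CohqA.AssInj.isQCoh_toModules hE _ fun V hV f s hs => ?_
  by_cases hf : genericPoint X ∈ X.basicOpen f
  · refine ⟨0, ?_⟩
    rw [pow_zero, one_smul]
    intro hx
    have := hs hf
    change germ E _ _ hf (E.presheaf.map (homOfLE (X.basicOpen_le f)).op s) ∈ _ at this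
    rw [germ_res] at this
    exact this
  · have hf0 : f = 0 := by
      rw [← basicOpen_eq_bot_iff]
      by_contra hne
      obtain ⟨x, hx⟩ : ∃ x, x ∈ X.basicOpen f := by
        by_contra hcon
        push Not at hcon
        exact hne (TopologicalSpace.Opens.ext (Set.eq_empty_of_forall_notMem hcon))
      exact hf (generic_mem hx)
    refine ⟨1, ?_⟩
    rw [pow_one, hf0, zero_smul]
    exact ((gsub E W).obj V).zero_mem

theorem isCoh_gsub [IsLocallyNoetherian X] (hE : Coh.IsCoh E) : Coh.IsCoh (gsub E W).toModules :=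
  Groth.Agent.PerfA.CohSerre.isCoh_of_mono (gsub E W).ι (isQCoh_gsub W hE.1) hE

/-- The image of the stalk of `gsub E W` at `x`. -/
theorem mem_range_stalk_iff {x : X} {U : X.Opens} (hx : x ∈ U) (s : Γ(E, U)) :
    germ E U x hx s ∈ LinearMap.range (stalkLin (gsub E W).ι x) ↔ germ E U (genericPoint X) (generic_mem hx) s ∈ W := by
  constructor
  · rintro ⟨t, ht⟩
    obtain ⟨V, hVU, hxV, t, rfl⟩ := ModGerm.exists_germ (M := (gsub E W).toModules) t hx
    have h1 : stalkLin (gsub E W).ι x (germ _ V x hxV t) = germ E V x hxV ((gsub E W).ι.app V t) :=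
      stalkLin_germ _ x hxV t
    rw [h1] at ht
    obtain ⟨V', hxV', i, j, h2⟩ := ModGerm.germ_eq E hxV hx _ _ ht
    have h3 := (gsub E W).ι_app_mem t (generic_mem hxV)
    have h4 : germ E V' (genericPoint X) (generic_mem hxV') (E.presheaf.map (homOfLE i).op ((gsub E W).ι.app V t)) =
      germ E V' (genericPoint X) (generic_mem hxV') (E.presheaf.map (homOfLE j).op s) := by rw [h2]
    rw [germ_res, germ_res] at h4
    rw [← h4]
    exact h3
  · intro h
    have h1 : s ∈ (gsub E W).obj U := fun _ => h
    refine ⟨germ _ U x hx ((gsub E W).sec s h1), ?_⟩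
    exact (stalkLin_germ (gsub E W).ι x hx ((gsub E W).sec s h1)).trans (by rw [SubSheaf.Sub.ι_app_sec])

theorem torsionFree_cokernel_gsub : TorsionFree (cokernel (gsub E W).ι) := by
  intro x
  rw [Module.isTorsionFree_iff_smul_eq_zero]
  intro r m hrm
  by_contra hcon
  push Not at hcon
  obtain ⟨hr, hm⟩ := hcon
  apply hm
  have hS := Groth.Agent.VarietyA.StalkCrit.shortExact_cokernel (gsub E W).ι
  obtain ⟨-, hex, hsurj⟩ := stalkLin_shortExact _ hS x
  obtain ⟨e, rfl⟩ := hsurj m
  rw [← map_smul] at hrm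
  have h1 := (hex (r • e)).1 hrm
  refine (hex e).2 ?_
  obtain ⟨U, -, hxU, s, rfl⟩ := ModGerm.exists_germ (M := E) e (U := ⊤) trivial
  obtain ⟨V, hxV, a, rfl⟩ := X.presheaf.exists_germ_eq r
  -- restrict to a common neighbourhood
  have hxW : x ∈ U ⊓ V := ⟨hxU, hxV⟩
  have e1 : germ E U x hxU s = germ E (U ⊓ V) x hxW (E.presheaf.map (homOfLE inf_le_left).op s) := by
    rw [germ_res]
  have e2 : X.presheaf.germ V x hxV a = X.presheaf.germ (U ⊓ V) x hxW (X.presheaf.map (homOfLE inf_le_right).op a) := by
    rw [germ_res_ring]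
  rw [e1, e2, ← ModGerm.germ_smul] at h1
  rw [e1]
  have h2 := (mem_range_stalk_iff W hxW _).1 h1
  refine (mem_range_stalk_iff W hxW _).2 ?_
  rw [ModGerm.germ_smul] at h2
  let K : Field (X.presheaf.stalk (genericPoint X)) := inferInstanceAs (Field X.functionField)
  have h3 : X.presheaf.germ (U ⊓ V) (genericPoint X) (generic_mem hxW) (X.presheaf.map (homOfLE inf_le_right).op a) ≠ 0 := by
    intro h0
    apply hr
    rw [e2]
    have h4 := (AlgebraicGeometry.germ_injective_of_isIntegral X (genericPoint X) (generic_mem hxW)) (h0.trans (map_zero _).symm)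
    rw [h4, map_zero]
  exact (Submodule.smul_mem_iff W h3).1 h2

theorem rk_gsub : rk (gsub E W).toModules = Module.finrank (X.presheaf.stalk (genericPoint X)) W := by
  have hinj := stalkLin_injective (gsub E W).ι (genericPoint X)
  have hrange : LinearMap.range (stalkLin (gsub E W).ι (genericPoint X)) = W := by
    ext e
    obtain ⟨U, -, hxU, s, rfl⟩ := ModGerm.exists_germ (M := E) e (U := ⊤) trivial
    exact mem_range_stalk_iff W hxU s
  have h1 := LinearMap.finrank_range_of_inj hinj
  rw [hrange] at h1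
  rw [rk]
  exact h1.symm

/-- Saturation of a coherent submodule. -/
theorem exists_saturation [IsLocallyNoetherian X] {L : X.Modules} (i : L ⟶ E) [Mono i]
    (hE : Coh.IsCoh E) :
    ∃ (L' : X.Modules) (a : L ⟶ L') (i' : L' ⟶ E) (_ : Mono i'), a ≫ i' = i ∧ Coh.IsCoh L' ∧
      Coh.IsCoh (cokernel i') ∧ TorsionFree (cokernel i') ∧ rk L' = rk L := by
  let W := LinearMap.range (stalkLin i (genericPoint X))
  obtain ⟨a, ha⟩ := SubSheaf.exists_lift i (gsub E W).ι (fun U s => by
    rw [← SubSheaf.Sub.mem_iff_exists]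
    intro hx
    exact ⟨germ L U _ hx s, stalkLin_germ i (genericPoint X) hx s⟩)
  have hc := isCoh_gsub W hE
  have h1 : Coh.IsCoh (cokernel (gsub E W).ι) :=
    Groth.Agent.Ega3B.DevQC.isCoh_cokernel (gsub E W).ι hc.1 hE
  have h2 := torsionFree_cokernel_gsub W
  have h3 : rk (gsub E W).toModules = rk L := by
    rw [rk_gsub, rk]
    exact LinearMap.finrank_range_of_inj (stalkLin_injective i (genericPoint X))
  have h4 : Mono (gsub E W).ι := inferInstance
  exact ⟨(gsub E W).toModules, a, (gsub E W).ι, h4, ha, hc, h1, h2, h3⟩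

/-- The torsion-free quotient of a coherent module. -/
theorem exists_torsionFree_quotient [IsLocallyNoetherian X] (hE : Coh.IsCoh E) :
    ∃ (F : X.Modules) (q : E ⟶ F) (_ : Epi q), Coh.IsCoh F ∧ TorsionFree F ∧ Coh.IsCoh (kernel q) ∧
      rk (kernel q) = 0 ∧ rk F = rk E := by
  have hc := isCoh_gsub (E := E) ⊥ hE
  have hS := Groth.Agent.VarietyA.StalkCrit.shortExact_cokernel (gsub E ⊥).ι
  have hC : Coh.IsCoh (cokernel (gsub E ⊥).ι) := Groth.Agent.Ega3B.DevQC.isCoh_cokernel _ hc.1 hE
  have h0 : rk (gsub E ⊥).toModules = 0 := by rw [rk_gsub, finrank_bot]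
  have h1 := rk_add _ hS hE
  change rk E = rk (gsub E ⊥).toModules + rk (cokernel (gsub E ⊥).ι) at h1
  have h2 := Groth.Agent.VarietyA.StalkCrit.shortExact_kernel (cokernel.π (gsub E ⊥).ι)
  have h3 := rk_add _ h2 hE
  change rk E = rk (kernel (cokernel.π (gsub E ⊥).ι)) + rk (cokernel (gsub E ⊥).ι) at h3
  have h4 : Coh.IsCoh (kernel (cokernel.π (gsub E ⊥).ι)) :=
    Groth.Agent.Ega3B.DevQC.isCoh_kernel (cokernel.π (gsub E ⊥).ι) hE hC.1
  have h5 := torsionFree_cokernel_gsub (E := E) ⊥
  have key : ∀ a b c d : ℕ, b = 0 → a = b + c → a = d + c → d = 0 ∧ c = a := by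
    intro a b c d e1 e2 e3
    omega
  obtain ⟨h6, h7⟩ := key _ _ _ _ h0 h1 h3
  exact ⟨_, cokernel.π (gsub E ⊥).ι, inferInstance, hC, h5, h4, h6, h7⟩

end K321.Satur
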