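import Groth.Agent.Curves.K321.LatLoc
import Groth.Agent.Curves.K321.Satur
import Groth.Agent.Dcoh.ResFree
import Groth.Agent.CycB.LFCoprod2

/-!
# Locally free modules with isomorphic generic stalks

`exists_roof`: two locally free modules `M`, `N` with an isomorphism `θ : M_η ≃ N_η` of generic stalks contain a
common locally free submodule of the same rank inducing `θ`.
-/

set_option autoImplicit false
universe u

open CategoryTheory CategoryTheory.Limits AlgebraicGeometry TopologicalSpace Opposite Module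

namespace K321.LatRoof

open Groth.Agent Groth.Agent.CycB.StalkExact Groth.Agent.CycB.DegIntegral Groth.Agent.VarietyA.DegRank
open Groth.Agent.Sga67.Sec Groth.Agent.Sga67.LocBasis Groth.Agent.Sga67.LocBasisStalk
open Groth.Agent.Krr.H487.LocBasisPull
open K321.SubLoc K321.LatLoc K321.Satur

variable {X : Scheme.{u}} [IsIntegral X]

omit [IsIntegral X] in
/-- Local bases exist. -/
theorem exists_locBasis {M : X.Modules} {n : ℕ} (hM : FlatMod.IsFinLocFreeOfRank n M) (x : X) :
    ∃ (U : X.Opens) (_ : x ∈ U) (s : Fin n → Sec M U), IsLocBasis s := by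
  obtain ⟨U, hxU, he⟩ := hM x
  obtain ⟨s, hs⟩ := nonempty_restrict_iso_iff.1 he
  exact ⟨U, hxU, s, hs⟩

theorem exists_locAt' {M : X.Modules} {n : ℕ} (hM : FlatMod.IsFinLocFreeOfRank n M) (x : X) :
    ∃ β : Basis (Fin n) (X.presheaf.stalk (genericPoint X)) (M.presheaf.stalk (genericPoint X)), LocAt M x β := by
  obtain ⟨U, hxU, s, hs⟩ := exists_locBasis hM x
  obtain ⟨β, hβ, -⟩ := exists_locAt hxU s hs
  exact ⟨β, hβ⟩

/-- The specialization map to the generic stalk is injective. -/
theorem spec_injective {M : X.Modules} {n : ℕ} (hM : FlatMod.IsFinLocFreeOfRank n M) (x : X) :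
    Function.Injective (M.presheaf.stalkSpecializes (genericPoint_specializes x)) := by
  obtain ⟨U, hxU, s, hs⟩ := exists_locBasis hM x
  obtain ⟨β, -, hβ⟩ := exists_locAt hxU s hs
  obtain ⟨b, hb⟩ := exists_stalkBasis hs x hxU
  rw [injective_iff_map_eq_zero]
  intro t ht
  have h1 : M.presheaf.stalkSpecializes (genericPoint_specializes x) t =
      ∑ i, algebraMap (X.presheaf.stalk x) X.functionField (b.repr t i) • β i := by
    conv_lhs => rw [← b.sum_repr t]
    rw [map_sum]
    refine Finset.sum_congr rfl fun i _ => ?_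
    rw [spec_smul, hβ, hb]
    congr 1
    exact spec_ger hxU _ _
  rw [h1] at ht
  have h2 := Fintype.linearIndependent_iff.1 β.linearIndependent _ ht
  rw [← b.sum_repr t]
  refine Finset.sum_eq_zero fun i _ => ?_
  have h3 : b.repr t i = 0 := IsFractionRing.injective (X.presheaf.stalk x) X.functionField
    ((h2 i).trans (map_zero _).symm)
  rw [h3, zero_smul]

theorem stalkLin_injective_of_generic {P M : X.Modules} {n : ℕ} (hP : FlatMod.IsFinLocFreeOfRank n P) (p : P ⟶ M)
    (hp : Function.Injective (stalkLin p (genericPoint X))) (x : X) : Function.Injective (stalkLin p x) := by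
  rw [injective_iff_map_eq_zero]
  intro t ht
  have h1 := stalkLin_stalkSpecializes p (genericPoint_specializes x) t
  rw [ht, map_zero] at h1
  exact spec_injective hP x ((hp (h1.trans (map_zero _).symm)).trans (map_zero _).symm)

theorem exists_roof [IsLocallyNoetherian X] (hX : ∀ x : X, IsPrincipalIdealRing (X.presheaf.stalk x))
    {M N : X.Modules} {n : ℕ} (hM : FlatMod.IsFinLocFreeOfRank n M) (hN : FlatMod.IsFinLocFreeOfRank n N)
    (θ : M.presheaf.stalk (genericPoint X) ≃ₗ[X.presheaf.stalk (genericPoint X)] N.presheaf.stalk (genericPoint X)) :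
    ∃ (P : X.Modules) (p : P ⟶ M) (q : P ⟶ N), FlatMod.IsFinLocFreeOfRank n P ∧
      Function.Bijective (stalkLin p (genericPoint X)) ∧ Function.Bijective (stalkLin q (genericPoint X)) ∧
      ∀ t, stalkLin q (genericPoint X) t = θ (stalkLin p (genericPoint X) t) := by
  let W : Submodule (X.presheaf.stalk (genericPoint X)) ((M ⊞ N).presheaf.stalk (genericPoint X)) :=
    LinearMap.range (stalkLin (biprod.inl : M ⟶ M ⊞ N) (genericPoint X) +
      stalkLin (biprod.inr : N ⟶ M ⊞ N) (genericPoint X) ∘ₗ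
        (θ : M.presheaf.stalk (genericPoint X) →ₗ[X.presheaf.stalk (genericPoint X)]
          N.presheaf.stalk (genericPoint X)))
  have hMc := isCoh_of_rank hM
  have hNc := isCoh_of_rank hN
  have hEc : Coh.IsCoh (M ⊞ N) := Sga67.CohBasic.isCoh_biprod hMc hNc
  have hEt : TorsionFree (M ⊞ N) := torsionFree_of_finLocFree (Dcoh.ResFree.isFinLocFree_biprod
    (Krr.H487.KerRank.isFinLocFree_of_rank hM) (Krr.H487.KerRank.isFinLocFree_of_rank hN))
  let P := (gsub (M ⊞ N) W).toModules
  let ι : P ⟶ M ⊞ N := (gsub (M ⊞ N) W).ι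
  have hPc : Coh.IsCoh P := isCoh_gsub W hEc
  have hPt : TorsionFree P := TorsionFree.of_mono ι hEt
  have hinj : Function.Injective (stalkLin ι (genericPoint X)) := stalkLin_injective ι _
  have hrange : LinearMap.range (stalkLin ι (genericPoint X)) = W := by
    ext e
    obtain ⟨U, -, hxU, s, rfl⟩ := Ega1.ModGerm.exists_germ (M := M ⊞ N) e (U := ⊤) trivial
    exact mem_range_stalk_iff W hxU s
  have e1 : ∀ m, stalkLin (biprod.fst : M ⊞ N ⟶ M) (genericPoint X)
      (stalkLin (biprod.inl : M ⟶ M ⊞ N) (genericPoint X) m) = m := fun m => by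
    rw [← LinearMap.comp_apply, ← stalkLin_comp, biprod.inl_fst, stalkLin_id]; rfl
  have e2 : ∀ m, stalkLin (biprod.snd : M ⊞ N ⟶ N) (genericPoint X)
      (stalkLin (biprod.inr : N ⟶ M ⊞ N) (genericPoint X) m) = m := fun m => by
    rw [← LinearMap.comp_apply, ← stalkLin_comp, biprod.inr_snd, stalkLin_id]; rfl
  have e3 : ∀ m, stalkLin (biprod.fst : M ⊞ N ⟶ M) (genericPoint X)
      (stalkLin (biprod.inr : N ⟶ M ⊞ N) (genericPoint X) m) = 0 := fun m => by
    rw [← LinearMap.comp_apply, ← stalkLin_comp, biprod.inr_fst, CycB.LFCoprod2.stalkLin_zero]; rfl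
  have e4 : ∀ m, stalkLin (biprod.snd : M ⊞ N ⟶ N) (genericPoint X)
      (stalkLin (biprod.inl : M ⟶ M ⊞ N) (genericPoint X) m) = 0 := fun m => by
    rw [← LinearMap.comp_apply, ← stalkLin_comp, biprod.inl_snd, CycB.LFCoprod2.stalkLin_zero]; rfl
  have hp : ∀ t, stalkLin (ι ≫ biprod.fst) (genericPoint X) t =
      stalkLin (biprod.fst : M ⊞ N ⟶ M) (genericPoint X) (stalkLin ι (genericPoint X) t) := fun t => by
    rw [stalkLin_comp]; rfl
  have hq : ∀ t, stalkLin (ι ≫ biprod.snd) (genericPoint X) t =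
      stalkLin (biprod.snd : M ⊞ N ⟶ N) (genericPoint X) (stalkLin ι (genericPoint X) t) := fun t => by
    rw [stalkLin_comp]; rfl
  have hW : ∀ t, ∃ m, stalkLin (biprod.inl : M ⟶ M ⊞ N) (genericPoint X) m +
      stalkLin (biprod.inr : N ⟶ M ⊞ N) (genericPoint X) (θ m) = stalkLin ι (genericPoint X) t := fun t => by
    have : stalkLin ι (genericPoint X) t ∈ W := hrange ▸ ⟨t, rfl⟩
    exact this
  have key : ∀ t, stalkLin (biprod.inl : M ⟶ M ⊞ N) (genericPoint X) (stalkLin (ι ≫ biprod.fst) (genericPoint X) t) +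
      stalkLin (biprod.inr : N ⟶ M ⊞ N) (genericPoint X) (θ (stalkLin (ι ≫ biprod.fst) (genericPoint X) t)) =
        stalkLin ι (genericPoint X) t ∧
      stalkLin (ι ≫ biprod.snd) (genericPoint X) t = θ (stalkLin (ι ≫ biprod.fst) (genericPoint X) t) := fun t => by
    obtain ⟨m, hm⟩ := hW t
    have h1 : stalkLin (ι ≫ biprod.fst) (genericPoint X) t = m := by
      rw [hp, ← hm, map_add, e1, e3, add_zero]
    have h2 : stalkLin (ι ≫ biprod.snd) (genericPoint X) t = θ m := by
      rw [hq, ← hm, map_add, e2, e4, zero_add]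
    rw [h1, h2]
    exact ⟨hm, rfl⟩
  have hpinj : Function.Injective (stalkLin (ι ≫ biprod.fst) (genericPoint X)) := by
    rw [injective_iff_map_eq_zero]
    intro t ht
    have h1 := (key t).1
    rw [ht, map_zero, map_zero, map_zero, add_zero] at h1
    exact hinj (h1.symm.trans (map_zero _).symm)
  have hpsurj : Function.Surjective (stalkLin (ι ≫ biprod.fst) (genericPoint X)) := by
    intro m
    have h1 : stalkLin (biprod.inl : M ⟶ M ⊞ N) (genericPoint X) m +
      stalkLin (biprod.inr : N ⟶ M ⊞ N) (genericPoint X) (θ m) ∈ LinearMap.range (stalkLin ι (genericPoint X)) := by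
      rw [hrange]
      exact ⟨m, rfl⟩
    obtain ⟨t, ht⟩ := h1
    refine ⟨t, ?_⟩
    rw [hp, ht, map_add, e1, e3, add_zero]
  have hrk : rk P = n := by
    rw [← rk_eq hM, rk, rk]
    exact LinearEquiv.finrank_eq (LinearEquiv.ofBijective _ ⟨hpinj, hpsurj⟩)
  refine ⟨P, ι ≫ biprod.fst, ι ≫ biprod.snd, ?_, ⟨hpinj, hpsurj⟩, ?_, fun t => (key t).2⟩
  · rw [← hrk]
    exact isFinLocFreeOfRank hX hPc hPt
  · have h1 : (stalkLin (ι ≫ biprod.snd) (genericPoint X) : _ → _) =
        θ ∘ stalkLin (ι ≫ biprod.fst) (genericPoint X) := funext fun t => (key t).2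
    rw [h1]
    exact θ.bijective.comp ⟨hpinj, hpsurj⟩

end K321.LatRoof
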