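import Groth.Agent.Curves.K321.NodeIdeal
import Groth.Agent.Variety.K421.NormCl
import Groth.Agent.TFOne.K77.Basic
import Groth.Agent.CurvesB.DimPts

/-!
# The normalization of a seminormal Nagata local ring of dimension one; modules of rank one on stalks
-/

set_option autoImplicit false
universe u

open CategoryTheory CategoryTheory.Limits AlgebraicGeometry TopologicalSpace Opposite
open IsLocalRing K977.NodeAlg
open scoped nonZeroDivisors

namespace K321.NodeHyp

open Groth.Agent K421.NormCl

theorem hyp {A : Type u} [CommRing A] [IsLocalRing A] [IsReduced A] (hN : CAlg.IsNagata A) (hdim : ringKrullDim A = 1)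
    (hsn : Groth.Agent.Sga7.H598.SNDef.SN A) : haveI := finite_cl A hN; Hyp A (Cl A) := by
  have := finite_cl A hN
  have : IsNoetherianRing A := hN.1
  refine ⟨injective_cl A, fun n _ => isDiscreteValuationRing_cl A hdim n, hsn, ?_⟩
  obtain ⟨f, hf, hfz⟩ := exists_denominator A
  have hrad : maximalIdeal A ≤ (Ideal.span {f}).radical := by
    rw [Ideal.radical_eq_sInf]
    refine le_sInf ?_
    rintro q ⟨hq, hqp⟩
    rcases K421.DimOne.mem_minimalPrimes_or hdim q hqp with h | h
    · exfalso
      have h1 : f ∈ q := hq (Ideal.mem_span_singleton_self f)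
      exact (Ideal.disjoint_nonZeroDivisors_of_mem_minimalPrimes h).le_bot ⟨h1, hf⟩
    · rw [h]
  obtain ⟨n, hn⟩ := Ideal.exists_pow_le_of_le_radical_of_fg hrad (IsNoetherian.noetherian _)
  refine ⟨n, fun a ha b => ?_⟩
  obtain ⟨c, hc⟩ := Ideal.mem_span_singleton'.1 (hn ha)
  obtain ⟨d, hd⟩ := hfz b
  refine ⟨c * d, ?_⟩
  rw [map_mul, hd, ← hc, map_mul, Algebra.smul_def, mul_assoc]

section Scheme

variable {X : Scheme.{u}}

open Groth.Agent.CycB.LocQuot Groth.Agent.CurvesB.SubH1 K77.TF

theorem rkOne_stalk {M : X.Modules} (hM : Coh.IsQCoh M) {x ξ : X} (h : ξ ⤳ x)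
    (hf : IsField (X.presheaf.stalk ξ)) (hr : Module.finrank (X.presheaf.stalk ξ) (M.presheaf.stalk ξ) = 1) :
    RkOne.RkOne (M.presheaf.stalk x) (RingHom.ker (Cyc.specMap x ξ h)) := by
  let := CycB.CohStalk.specModule M h
  have hloc := CycB.CohStalk.isLocalizedModule_stalkSpecializes M hM h
  have hsm : ∀ (a : X.presheaf.stalk x) (t : M.presheaf.stalk ξ), a • t = (X.presheaf.stalkSpecializes h).hom a • t :=
    fun a t => rfl
  let : Field (X.presheaf.stalk ξ) := hf.toField
  have hnz : ∀ m : M.presheaf.stalk x, RkOne.NZ (RingHom.ker (Cyc.specMap x ξ h)) m ↔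
      M.presheaf.stalkSpecializes h m ≠ 0 := by
    intro m
    constructor
    · intro hm h0
      obtain ⟨c, hc, hcm⟩ := CycB.CohStalk.exists_smul_eq_zero M hM h m h0
      exact hm c hc hcm
    · intro hm c hc h0
      apply hm
      have h1 : (X.presheaf.stalkSpecializes h).hom c • M.presheaf.stalkSpecializes h m = 0 := by
        rw [← CycB.ModStalk.stalkSpecializes_smul, h0, map_zero]
      rw [mem_ker_specMap_iff, not_not] at hc
      exact hc.smul_eq_zero.1 h1
  constructor
  · obtain ⟨t, ht⟩ : ∃ t : M.presheaf.stalk ξ, t ≠ 0 := by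
      have : Nontrivial (M.presheaf.stalk ξ) := Module.nontrivial_of_finrank_pos (by rw [hr]; exact one_pos)
      exact exists_ne 0
    obtain ⟨⟨m, s⟩, hms⟩ := hloc.surj t
    refine ⟨m, (hnz m).2 fun h0 => ?_⟩
    have h1 : (s : X.presheaf.stalk x) • t = M.presheaf.stalkSpecializes h m := hms
    rw [h0, hsm] at h1
    have hs := s.2
    have h2 : IsUnit ((X.presheaf.stalkSpecializes h).hom s) := by
      by_contra hc
      exact hs ((mem_ker_specMap_iff h _).2 hc)
    exact ht (h2.smul_eq_zero.1 h1)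
  · intro m m' hm
    rw [hnz] at hm
    obtain ⟨c, hc⟩ := (finrank_eq_one_iff_of_nonzero' _ hm).1 hr (M.presheaf.stalkSpecializes h m')
    have hlocR := isLocalization_stalkSpecializes h
    let := (X.presheaf.stalkSpecializes h).hom.toAlgebra
    obtain ⟨⟨b, s⟩, hbs⟩ := IsLocalization.surj (RingHom.ker (Cyc.specMap x ξ h)).primeCompl c
    have hbs' : c * (X.presheaf.stalkSpecializes h).hom s = (X.presheaf.stalkSpecializes h).hom b := hbs
    have h1 : M.presheaf.stalkSpecializes h ((s : X.presheaf.stalk x) • m' - b • m) = 0 := by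
      rw [map_sub, CycB.ModStalk.stalkSpecializes_smul, CycB.ModStalk.stalkSpecializes_smul, ← hc, ← hbs',
        ← mul_smul, mul_comm, sub_self]
    obtain ⟨d, hd, hdm⟩ := CycB.CohStalk.exists_smul_eq_zero M hM h _ h1
    refine ⟨d * s, fun hmem => ?_, d * b, ?_⟩
    · rcases (ker_isPrime h).mem_or_mem hmem with h2 | h2
      · exact hd h2
      · exact s.2 h2
    · rw [smul_sub, sub_eq_zero, ← mul_smul, ← mul_smul] at hdm
      exact hdm

/-- Rank one at the generic points gives rank one at the minimal primes of all stalks. -/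
theorem rkOne_of_gen [IsReduced X] {M : X.Modules} (hM : Coh.IsQCoh M)
    (hr : ∀ ξ : X, IsGen ξ → Module.finrank (X.presheaf.stalk ξ) (M.presheaf.stalk ξ) = 1) (x : X)
    (p : Ideal (X.presheaf.stalk x)) (hp : p ∈ minimalPrimes (X.presheaf.stalk x)) :
    RkOne.RkOne (M.presheaf.stalk x) p := by
  let Q : PrimeSpectrum (X.presheaf.stalk x) := ⟨p, hp.1.1⟩
  have hg : IsGen (ptOf Q) := isGen_ptOf Q hp
  have h1 := rkOne_stalk hM (ptOf_specializes Q) (CurvesB.GenStalk.isField_stalk _ hg) (hr _ hg)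
  rw [← primeOf_asIdeal, primeOf_ptOf] at h1
  exact h1

theorem minimal_of_ne (hdim : topologicalKrullDim X ≤ 1) {x : X} (p : Ideal (X.presheaf.stalk x)) (hp : p.IsPrime)
    (hne : p ≠ maximalIdeal (X.presheaf.stalk x)) : p ∈ minimalPrimes (X.presheaf.stalk x) := by
  have h1 : Ring.KrullDimLE 1 (X.presheaf.stalk x) := by
    rw [Ring.krullDimLE_iff]
    exact (Groth.Agent.CurvesB.DimPts.ringKrullDim_stalk_le x).trans hdim
  rcases Ring.krullDimLE_one_iff.mp h1 p hp with h | h
  · exact h
  · exact absurd (IsLocalRing.eq_maximalIdeal h) hne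

end Scheme

end K321.NodeHyp
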