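import Groth.Agent.Curves.K321.RkOne
import Groth.Agent.TFNodal.K977.NodeAlg
import Mathlib.GroupTheory.CosetCover

/-!
# Torsion-free modules of rank one over the local ring of a node
-/

set_option autoImplicit false
universe u

open IsLocalRing K977.NodeAlg

namespace K321.NodeIdeal

variable {A B : Type u} [CommRing A] [IsLocalRing A] [CommRing B] [Algebra A B] [Module.Finite A B] [Nontrivial B]

theorem regular_map (h : Hyp A B) (f : A) (hf : f ∈ nonZeroDivisors A) (b : B) (hb : algebraMap A B f * b = 0) :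
    b = 0 := by
  obtain ⟨t, e, he⟩ := h.exists_equiv
  have h1 : e (f • b) = f • e b := map_smul _ _ _
  rw [Algebra.smul_def, hb, map_zero] at h1
  have h2 : f * (e b : A) = 0 := (congrArg Subtype.val h1).symm
  have h3 : (e b : A) = 0 := (mem_nonZeroDivisors_iff_right.1 hf) _ (by rw [mul_comm]; exact h2)
  have h4 : e b = 0 := Subtype.ext h3
  exact (map_eq_zero_iff e e.injective).1 h4

/-- An ideal containing a regular element has an element generating its extension to the normalization. -/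
theorem exists_dominating (h : Hyp A B) (k : Type*) [Field k] [Infinite k] [Algebra k A] (J : Ideal A) (f : A)
    (hf : f ∈ nonZeroDivisors A) (hfJ : f ∈ J) :
    ∃ j ∈ J, ∀ j' ∈ J, ∃ b : B, algebraMap A B j' = b * algebraMap A B j := by
  classical
  have hfin : {n : Ideal B | n.IsMaximal}.Finite := finite_maximal A B
  let φ (n : Ideal B) [n.IsPrime] : A →+* Localization.AtPrime n := (algebraMap B _).comp (algebraMap A B)
  let W (n : Ideal B) [n.IsPrime] : Ideal A :=
    (maximalIdeal (Localization.AtPrime n) * J.map (φ n)).comap (φ n)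
  have hW : ∀ (n : Ideal B) [n.IsMaximal], ¬ J ≤ W n := by
    intro n hn hle
    obtain ⟨hd, hdvr⟩ := h.loc n
    have h1 : J.map (φ n) ≤ maximalIdeal (Localization.AtPrime n) * J.map (φ n) := Ideal.map_le_iff_le_comap.2 hle
    have h2 : J.map (φ n) = ⊥ := by
      refine Submodule.eq_bot_of_le_smul_of_le_jacobson_bot (maximalIdeal (Localization.AtPrime n)) _
        (IsNoetherian.noetherian _) h1 ?_
      rw [IsLocalRing.jacobson_eq_maximalIdeal]
      exact bot_ne_top
    have h3 : φ n f = 0 := by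
      have : φ n f ∈ J.map (φ n) := Ideal.mem_map_of_mem _ hfJ
      rw [h2] at this
      exact this
    obtain ⟨s, hs⟩ := (IsLocalization.map_eq_zero_iff n.primeCompl (Localization.AtPrime n) _).1 h3
    have h4 : (s : B) = 0 := regular_map h f hf s (by rw [mul_comm]; exact hs)
    exact s.2 (h4 ▸ n.zero_mem)
  let V := J.restrictScalars k
  let U (n : Ideal B) [n.IsPrime] : Submodule k V := ((W n).restrictScalars k).comap V.subtype
  have hfin' : Finite {n : Ideal B | n.IsMaximal} := hfin
  have : Fintype {n : Ideal B | n.IsMaximal} := Fintype.ofFinite _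
  let s : Finset (Submodule k V) := Finset.univ.image fun n : {n : Ideal B | n.IsMaximal} =>
    @U n.1 (@Ideal.IsMaximal.isPrime _ _ _ n.2)
  have hs : ⊤ ∉ s := by
    intro hmem
    obtain ⟨n, -, hn⟩ := Finset.mem_image.1 hmem
    have hnm : n.1.IsMaximal := n.2
    apply hW n.1
    intro j hj
    have h1 : (⟨j, hj⟩ : V) ∈ (⊤ : Submodule k V) := trivial
    rw [← hn] at h1
    exact h1
  obtain ⟨j, hj⟩ := (Set.ne_univ_iff_exists_notMem _).1 (Subspace.biUnion_ne_univ_of_top_notMem hs)
  have hj' : ∀ (n : Ideal B) [n.IsMaximal], (j : A) ∉ W n := by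
    intro n hn hmem
    apply hj
    refine Set.mem_iUnion₂.2 ⟨U n, ?_, hmem⟩
    exact Finset.mem_image.2 ⟨⟨n, hn⟩, Finset.mem_univ _, rfl⟩
  refine ⟨j, j.2, fun j' hj'' => ?_⟩
  suffices hmem : algebraMap A B j' ∈ Ideal.span {algebraMap A B (j : A)} by
    obtain ⟨b, hb⟩ := Ideal.mem_span_singleton'.1 hmem
    exact ⟨b, hb.symm⟩
  refine Ideal.mem_of_localization_maximal fun n hn => ?_
  rw [Ideal.map_span, Set.image_singleton]
  obtain ⟨hd, hdvr⟩ := h.loc n
  obtain ⟨g, hg⟩ := (IsPrincipalIdealRing.principal (J.map (φ n))).principal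
  rw [← Ideal.span] at hg
  have h1 : φ n j ∈ J.map (φ n) := Ideal.mem_map_of_mem _ j.2
  have h2 : φ n j' ∈ J.map (φ n) := Ideal.mem_map_of_mem _ hj''
  rw [hg] at h1 h2
  obtain ⟨u, hu⟩ := Ideal.mem_span_singleton'.1 h1
  have h3 : IsUnit u := by
    by_contra hc
    apply hj' n
    change φ n j ∈ maximalIdeal (Localization.AtPrime n) * J.map (φ n)
    rw [← hu, hg]
    exact Ideal.mul_mem_mul ((mem_maximalIdeal u).2 hc) (Ideal.mem_span_singleton_self g)
  have h4 : Ideal.span {φ n j} = Ideal.span {g} := by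
    rw [← hu]
    exact Ideal.span_singleton_mul_left_unit h3 g
  change φ n j' ∈ Ideal.span {φ n j}
  rw [h4]
  exact h2

/-- A torsion-free module of rank one over the local ring of a node is free or isomorphic to the normalization. -/
theorem exists_generator [IsReduced A] [IsNoetherianRing A] (h : Hyp A B)
    (hlen : Module.length A (B ⧸ LinearMap.range (Algebra.linearMap A B)) = 1) (k : Type*) [Field k] [Infinite k]
    [Algebra k A] {N : Type u} [AddCommGroup N] [Module A N] [Module.Finite A N]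
    (htf : ∀ f ∈ nonZeroDivisors A, ∀ n : N, f • n = 0 → n = 0)
    (hN : ∀ p ∈ minimalPrimes A, RkOne.RkOne N p) :
    ∃ w : N, (∀ a : A, a • w = 0 → a = 0) ∧ (Submodule.span A {w} = ⊤ ∨ ∃ E : N ≃ₗ[A] B, E w = 1) := by
  obtain ⟨w₀, hw₀⟩ := RkOne.exists_gen hN
  obtain ⟨f, hf, hfw⟩ := RkOne.exists_regular hw₀ hN
  choose a ha using fun m : N => Submodule.mem_span_singleton.1 (hfw m)
  have huniq : ∀ x y : A, x • w₀ = y • w₀ → x = y := fun x y hxy => by
    rw [← sub_eq_zero]
    apply RkOne.eq_zero_of_smul hw₀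
    rw [sub_smul, sub_eq_zero]
    exact hxy
  let φ : N →ₗ[A] A :=
    { toFun := a
      map_add' := fun m m' => huniq _ _ (by rw [ha, add_smul, ha, ha, smul_add])
      map_smul' := fun r m => huniq _ _ (by
        rw [ha, RingHom.id_apply, smul_eq_mul, mul_smul, ha, smul_comm]) }
  have hφ : ∀ m, φ m • w₀ = f • m := ha
  have hφinj : Function.Injective φ := by
    rw [injective_iff_map_eq_zero]
    intro m hm
    apply htf f hf
    rw [← hφ, hm, zero_smul]
  have hφw : φ w₀ = f := huniq _ _ (hφ w₀)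
  obtain ⟨j, ⟨w, hw⟩, hj⟩ := exists_dominating h k (LinearMap.range φ) f hf ⟨w₀, hφw⟩
  have hjreg : ∀ c : B, c * algebraMap A B j = 0 → c = 0 := by
    intro c hc
    obtain ⟨b, hb⟩ := hj f ⟨w₀, hφw⟩
    apply regular_map h f hf
    rw [hb, mul_assoc, mul_comm (algebraMap A B j), hc, mul_zero]
  have hwreg : ∀ x : A, x • w = 0 → x = 0 := by
    intro x hx
    have h1 : x * j = 0 := by
      rw [← hw, ← smul_eq_mul, ← map_smul, hx, map_zero]
    have h2 : algebraMap A B x = 0 := hjreg _ (by rw [← map_mul, h1, map_zero])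
    exact h.inj (h2.trans (map_zero _).symm)
  choose b hb using fun n : N => hj (φ n) ⟨n, rfl⟩
  have hbuniq : ∀ c d : B, c * algebraMap A B j = d * algebraMap A B j → c = d := fun c d hcd => by
    rw [← sub_eq_zero]
    apply hjreg
    rw [sub_mul, sub_eq_zero]
    exact hcd
  let ψ : N →ₗ[A] B :=
    { toFun := b
      map_add' := fun m m' => hbuniq _ _ (by rw [← hb, map_add, map_add, add_mul, ← hb, ← hb])
      map_smul' := fun r m => hbuniq _ _ (by
        rw [← hb, RingHom.id_apply, map_smul, smul_eq_mul, map_mul, Algebra.smul_def, mul_assoc, ← hb]) }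
  have hψ : ∀ n, algebraMap A B (φ n) = ψ n * algebraMap A B j := hb
  have hψinj : Function.Injective ψ := by
    rw [injective_iff_map_eq_zero]
    intro m hm
    apply hφinj
    apply h.inj
    rw [hψ, hm, zero_mul, map_zero, map_zero]
  have hψw : ψ w = 1 := hbuniq _ _ (by rw [← hψ, hw, one_mul])
  refine ⟨w, hwreg, ?_⟩
  set R₀ : Submodule A B := LinearMap.range (Algebra.linearMap A B) with hR₀
  have hle : R₀ ≤ LinearMap.range ψ := by
    rintro _ ⟨x, rfl⟩
    exact ⟨x • w, by rw [map_smul, hψw, Algebra.linearMap_apply, Algebra.algebraMap_eq_smul_one]⟩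
  have hsimple : IsSimpleModule A (B ⧸ R₀) := Module.length_eq_one_iff.1 hlen
  rcases eq_bot_or_eq_top ((LinearMap.range ψ).map R₀.mkQ) with h1 | h1
  · left
    rw [eq_top_iff]
    rintro n -
    have h2 : ψ n ∈ R₀ := by
      have h3 : R₀.mkQ (ψ n) ∈ (LinearMap.range ψ).map R₀.mkQ := Submodule.mem_map_of_mem ⟨n, rfl⟩
      rw [h1, Submodule.mem_bot] at h3
      exact (Submodule.Quotient.mk_eq_zero _).1 h3
    obtain ⟨x, hx⟩ := h2
    rw [Submodule.mem_span_singleton]
    refine ⟨x, hψinj ?_⟩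
    rw [map_smul, hψw, ← hx, Algebra.linearMap_apply, Algebra.algebraMap_eq_smul_one]
  · right
    have hsurj : Function.Surjective ψ := by
      intro y
      have h2 : R₀.mkQ y ∈ (LinearMap.range ψ).map R₀.mkQ := h1 ▸ trivial
      obtain ⟨_, ⟨n, rfl⟩, hn⟩ := h2
      have h3 : y - ψ n ∈ R₀ := by
        rw [← Submodule.Quotient.mk_eq_zero, Submodule.Quotient.mk_sub, sub_eq_zero]
        exact hn.symm
      obtain ⟨n', hn'⟩ := hle h3
      exact ⟨n + n', by rw [map_add, hn']; ring⟩
    exact ⟨LinearEquiv.ofBijective ψ ⟨hψinj, hsurj⟩, hψw⟩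

/-- Comparison of `m w` and `t N`. -/
theorem exists_comparison [IsReduced A] [IsNoetherianRing A] (h : Hyp A B) : ∃ t ∈ maximalIdeal A,
    t ∈ nonZeroDivisors A ∧ ∀ (N : Type u) [AddCommGroup N] [Module A N] (w : N) (E : N ≃ₗ[A] B), E w = 1 →
      (∀ n : N, ∃ a ∈ maximalIdeal A, t • n = a • w) ∧ ∀ a ∈ maximalIdeal A, ∃ n : N, a • w = t • n := by
  obtain ⟨t, e, he⟩ := h.exists_equiv
  have ht : algebraMap A B (e 1 : A) = t := by rw [he, mul_one]
  have hinj : ∀ b, t * b = 0 → b = 0 := fun b hb => by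
    have h1 : e b = 0 := Subtype.ext (h.inj (by rw [he, hb]; exact (map_zero _).symm))
    exact (map_eq_zero_iff e e.injective).1 h1
  refine ⟨(e 1 : A), (e 1).2, ?_, fun N _ _ w E hE => ⟨fun n => ⟨(e (E n) : A), (e (E n)).2, ?_⟩, fun a ha => ?_⟩⟩
  · rw [mem_nonZeroDivisors_iff_right]
    intro x hx
    apply h.inj
    rw [map_zero]
    apply hinj
    rw [← ht, ← map_mul, mul_comm, hx, map_zero]
  · apply E.injective
    rw [map_smul, map_smul, hE, Algebra.smul_def, Algebra.smul_def, ht, he, mul_one]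
  · obtain ⟨b, hb⟩ := e.surjective ⟨a, ha⟩
    refine ⟨E.symm b, E.injective ?_⟩
    have h1 := he b
    rw [hb] at h1
    change algebraMap A B a = t * b at h1
    rw [map_smul, map_smul, hE, E.apply_symm_apply, Algebra.smul_def, Algebra.smul_def, ht, h1, mul_one]

end K321.NodeIdeal
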