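import Groth.Agent.Curves.K323.PtIdeal
import Groth.Agent.CurvesB.SubRank
import Groth.Agent.CurvesB.NodeSub
import Groth.Agent.CurvesB.NodeSch2
import Groth.Agent.CalgA.RegBasic
import Groth.Agent.Unram17.K133.SmoothNhd
import Groth.Agent.VarietyB.DimTop
import Groth.Agent.S1561

/-!
# The ideal of a point of a reduced curve is invertible exactly at the smooth points
-/

set_option autoImplicit false
universe u

open CategoryTheory CategoryTheory.Limits AlgebraicGeometry TopologicalSpace Opposite

namespace K321.PtInv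

open Groth.Agent IsLocalRing

/-- A local ring whose maximal ideal is free of rank one is regular. -/
theorem isRegularLocalRing_of_equiv {A : Type u} [CommRing A] [IsLocalRing A] [IsNoetherianRing A]
    (e : maximalIdeal A ≃ₗ[A] A) : IsRegularLocalRing A := by
  let t : A := (e.symm 1 : maximalIdeal A).1
  have hgen : maximalIdeal A = Ideal.span {t} := by
    apply le_antisymm
    · intro a ha
      rw [Ideal.mem_span_singleton']
      refine ⟨e ⟨a, ha⟩, ?_⟩
      have h1 : e.symm (e ⟨a, ha⟩ • 1) = ⟨a, ha⟩ := by rw [smul_eq_mul, mul_one, e.symm_apply_apply]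
      rw [map_smul] at h1
      exact congrArg Subtype.val h1
    · rw [Ideal.span_singleton_le_iff_mem]
      exact (e.symm 1).2
  have hreg : t ∈ nonZeroDivisors A := by
    rw [mem_nonZeroDivisors_iff_right]
    intro a ha
    have h1 : e.symm a = 0 := by
      have h2 : e.symm (a • 1) = a • e.symm 1 := map_smul _ _ _
      rw [smul_eq_mul, mul_one] at h2
      rw [h2]
      exact Subtype.ext ha
    exact (map_eq_zero_iff e.symm e.symm.injective).1 h1
  have hmax : (Ideal.span {t}).IsMaximal := hgen ▸ maximalIdeal.isMaximal A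
  let : Field (A ⧸ Ideal.span {t}) := Ideal.Quotient.field _
  have : IsRegularLocalRing (A ⧸ Ideal.span {t}) := inferInstance
  exact CalgA.RegBasic.of_quotient t (hgen ▸ Ideal.mem_span_singleton_self t) hreg

theorem isDiscreteValuationRing (A : Type u) [CommRing A] [IsRegularLocalRing A] [IsDomain A] (h0 : ¬ IsField A)
    (h : ringKrullDim A ≤ 1) : IsDiscreteValuationRing A := by
  have h' : ringKrullDim A = 1 := by
    refine le_antisymm h ?_
    have h2 : ¬ ringKrullDim A ≤ 0 := fun h3 => by
      have h4 : Ring.KrullDimLE 0 A := by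
        rw [Ring.krullDimLE_iff]
        exact h3
      exact h0 (Ring.KrullDimLE.isField_of_isDomain)
    obtain ⟨n, hn⟩ : ∃ n : ℕ, ringKrullDim A = n := CalgA.RegBasic.ringKrullDim_eq_natCast A
    rw [hn] at h2 ⊢
    have h5 : ¬ n ≤ 0 := fun h3 => h2 (by exact_mod_cast h3)
    have : 1 ≤ n := by omega
    exact_mod_cast this
  rw [h'] at h
  refine ((IsDiscreteValuationRing.TFAE A h0).out 0 5).2 ?_
  have h1 := (IsRegularLocalRing.iff_finrank_cotangentSpace (R := A)).1 inferInstance
  rw [h'] at h1
  exact_mod_cast h1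

theorem main (k : Type u) [Field k] [IsAlgClosed k] (X : Scheme.{u}) [X.Over (Spec (CommRingCat.of k))]
    [IsProper (X ↘ (Spec (CommRingCat.of k)))] [IsReduced X]
    (hequi : ∀ Z ∈ irreducibleComponents (X : Type u), topologicalKrullDim Z = 1)
    (P : X) (hP : IsClosed ({P} : Set X)) :
    PicF.IsInvertible (ClSub.idealMod (Scheme.IdealSheafData.vanishingIdeal ⟨{P}, hP⟩)) ↔
      ∃ U : X.Opens, P ∈ U ∧ Smooth (U.ι ≫ (X ↘ (Spec (CommRingCat.of k)))) := by
  have : IsLocallyNoetherian X := LocallyOfFiniteType.isLocallyNoetherian (X ↘ Spec (CommRingCat.of k))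
  rw [← K133.SmoothNhd.mem_smoothLocus_iff_exists, (S1561.result k X).1]
  constructor
  · intro h
    obtain ⟨e⟩ := CurvesB.SubRank.nonempty_stalk_equiv h P
    obtain ⟨e'⟩ := Curves.K323.PtIdeal.nonempty_stalk_equiv P hP
    exact isRegularLocalRing_of_equiv (e'.symm.trans e)
  · intro h
    have h1 : IsDomain (X.presheaf.stalk P) := CalgA.RegBasic.isDomain _
    have h2 : ringKrullDim (X.presheaf.stalk P) ≤ 1 := by
      refine (CurvesB.DimPts.ringKrullDim_stalk_le P).trans ?_
      rw [VarietyB.DimTop.topologicalKrullDim_eq_iSup_irreducibleComponents]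
      exact iSup_le fun Z => (hequi Z.1 Z.2).le
    have h3 := isDiscreteValuationRing (X.presheaf.stalk P) (CurvesB.NodeSub.not_isField_stalk hequi P hP) h2
    exact Curves.K323.PtIdeal.isInvertible_idealMod P hP

end K321.PtInv
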