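import Groth.Agent.Curves.K321.PushLoc
import Groth.Agent.Curves.K321.LatSum
import Groth.Agent.Curves.K321.DiscDiff
import Groth.Agent.VarietyB.HHPush
import Groth.Agent.S0019

/-!
# The direct image of the structure sheaf under a finite morphism and discriminants

`π : X ⟶ Y` finite surjective, `X`, `Y` integral, `X` normal, `Y` a curve proper over a field with principal local
rings.

* `exists_equiv`: the generic stalk of `π_* O_X` is `K(X)`;
* `two_mul_euler_sub`: `2 (n χ(O_Y) - χ(π_* O_X))` is the degree of the discriminant divisor.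
-/

set_option autoImplicit false
universe u

open CategoryTheory CategoryTheory.Limits AlgebraicGeometry TopologicalSpace Opposite Module

namespace K321.PushEq

open Groth.Agent Groth.Agent.CycB.StalkExact Groth.Agent.Divis.NormSheaf Groth.Agent.Sga67.Sec
open Groth.Agent.Sga67.LocBasis Groth.Agent.Sga67.LocBasisStalk Groth.Agent.Krr.H487.LocBasisPull
open Groth.Agent.VarietyA.DegRank
open K321.PushLoc K321.LatLoc K321.LatRoof K321.LatSum K321.SubLoc

theorem discr_eq {K L ι : Type*} [Field K] [Field L] [Algebra K L] [Fintype ι] [DecidableEq ι] (b c : Basis ι K L) :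
    Algebra.discr K c = (b.toMatrix c).det ^ 2 * Algebra.discr K b := by
  rw [← Algebra.discr_of_matrix_vecMul, Basis.toMatrix_map_vecMul]

theorem det_toMatrix_ne_zero {K V ι : Type*} [Field K] [AddCommGroup V] [Module K V] [Fintype ι] [DecidableEq ι]
    (b c : Basis ι K V) : (b.toMatrix c).det ≠ 0 := by
  intro h
  have h1 := congrArg Matrix.det (b.toMatrix_mul_toMatrix_flip c)
  rw [Matrix.det_mul, h, zero_mul, Matrix.det_one] at h1
  exact zero_ne_one h1

section

variable {X Y : Scheme.{u}} (π : X ⟶ Y) [IsIntegral X] [IsIntegral Y] [IsFinite π] [Surjective π]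

/-- The generic stalk of `π_* O_X`. -/
theorem exists_equiv (hX : Pi1.IsNormalScheme X) {n : ℕ} (hM : FlatMod.IsFinLocFreeOfRank n (PO π)) :
    letI := alg π
    ∃ Θ : (PO π).presheaf.stalk (genericPoint Y) ≃ₗ[Y.presheaf.stalk (genericPoint Y)] X.functionField,
      ∀ (U : Y.Opens) (hη : genericPoint Y ∈ U) (s : Sec (PO π) U),
        Θ (ger (PO π) (genericPoint Y) hη s) = gX π hη s := by
  let := alg π
  obtain ⟨U₀, hU₀, s₀, hs₀⟩ := exists_locBasis hM (genericPoint Y)
  obtain ⟨β, hβ⟩ := exists_stalkBasis hs₀ (genericPoint Y) hU₀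
  obtain ⟨b, hb⟩ := exists_basis π hX s₀ hs₀ (genericPoint Y) hU₀
  refine ⟨β.equiv b (Equiv.refl _), fun U hη s => ?_⟩
  have hW : genericPoint Y ∈ U ⊓ U₀ := ⟨hη, hU₀⟩
  obtain ⟨a, ha⟩ := (hs₀ (U ⊓ U₀) inf_le_right).2 (res _ inf_le_left s)
  have e1 : ger (PO π) (genericPoint Y) hη s = ger (PO π) (genericPoint Y) hW (comb s₀ inf_le_right a) := by
    rw [ha, ger_res]
  have e2 : gX π hη s = gX π hW (comb s₀ inf_le_right a) := by
    rw [ha, gX_res]
  rw [e1, e2, ger_comb, gX_comb, map_sum]
  refine Finset.sum_congr rfl fun i _ => ?_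
  rw [map_smul, ← hβ, Basis.equiv_apply, Equiv.refl_apply, hb]
  rfl

/-- The direct image of the structure sheaf is torsion free. -/
theorem torsionFree_PO : TorsionFree (PO π) := by
  intro y
  rw [Module.isTorsionFree_iff_smul_eq_zero]
  intro r m hrm
  obtain ⟨U, hyU, s, rfl⟩ := exists_ger (PO π) y m
  obtain ⟨V, hyV, a, rfl⟩ := Y.presheaf.exists_germ_eq r
  have hW : y ∈ U ⊓ V := ⟨hyU, hyV⟩
  have e1 : ger (PO π) y hyU s = ger (PO π) y hW (res _ inf_le_left s) := by rw [ger_res]
  have e2 : Y.presheaf.germ V y hyV a = gerO y hW (resO Y inf_le_right a) := (gerO_res inf_le_right y hW a).symm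
  have h1 : ger (PO π) y hW ((resO Y inf_le_right a : Γ(Y, U ⊓ V)) • (res _ inf_le_left s : Sec (PO π) (U ⊓ V))) =
      ger (PO π) y hW 0 := by
    rw [ger_smul, ← e1, ger_zero, ← hrm]
    exact congrArg (· • _) e2.symm
  obtain ⟨W, hWle, hyW, h2⟩ := exists_res_eq (PO π) y hW _ _ h1
  have hη : genericPoint Y ∈ W := mem_of_mem hyW
  have h3 := congrArg (gX π hη) h2
  rw [gX_res, gX_res, gX_smul, map_zero, mul_eq_zero] at h3
  rcases h3 with h3 | h3
  · left
    have h4 : gg (hWle hη) (resO Y inf_le_right a) = 0 := (ff π).injective (h3.trans (map_zero _).symm)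
    have h5 : resO Y inf_le_right a = 0 := gg_injective (hWle hη) (h4.trans (map_zero _).symm)
    rw [e2, h5]
    exact map_zero _
  · right
    have h5 : res (PO π) inf_le_left s = 0 := gX_injective π (hWle hη) (h3.trans (map_zero _).symm)
    rw [e1, h5, ger_zero]

/-- The rank of `π_* O_X`. -/
theorem isFinLocFreeOfRank_PO [IsLocallyNoetherian Y] [IsLocallyNoetherian X] (hX : Pi1.IsNormalScheme X)
    (hY : ∀ y : Y, IsPrincipalIdealRing (Y.presheaf.stalk y)) :
    letI := alg π
    FlatMod.IsFinLocFreeOfRank (finrank Y.functionField X.functionField) (PO π) := by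
  let := alg π
  have h1 : Coh.IsCoh (PO π) := S0019.result π _ (Sga67.PreLift.isCoh_structureModule)
  have h2 := isFinLocFreeOfRank hY h1 (torsionFree_PO π)
  obtain ⟨Θ, -⟩ := exists_equiv π hX h2
  have h3 : finrank Y.functionField X.functionField = rk (PO π) := Θ.finrank_eq.symm
  rw [h3]
  exact h2

end

section curve

variable (k : Type u) [Field k] {X Y : Scheme.{u}} [X.Over (Spec (CommRingCat.of k))]
  [Y.Over (Spec (CommRingCat.of k))] [IsIntegral X] [IsIntegral Y] [IsProper (Y ↘ Spec (CommRingCat.of k))]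
  (π : X ⟶ Y) [IsFinite π] [Surjective π]

include k in
/-- Orders of a rational function vanish at almost all points. -/
theorem finite_ordFrac (hdim : topologicalKrullDim Y = 1) (hY : ∀ y : Y, IsPrincipalIdealRing (Y.presheaf.stalk y))
    (f : Y.functionField) (hf : f ≠ 0) :
    {y : Y | CycAlg.ordFrac (Y.presheaf.stalk y) Y.functionField f ≠ 0}.Finite := by
  obtain ⟨b, hb⟩ := exists_locAt_free (X := Y) 1
  have hN : FlatMod.IsFinLocFreeOfRank 1 (FlatMod.freeMod Y 1) :=
    (Krr.H487.KerRank.isFinLocFreeOfRank_iff _).mpr fun _ => ⟨⊤, trivial, _, free_isLocBasis Y 1⟩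
  let e : Basis (Fin 1) (Y.presheaf.stalk (genericPoint Y)) _ := b.unitsSMul (fun _ => Units.mk0 f hf)
  obtain ⟨h1, -⟩ := euler_eq k hdim hY hN e (fun _ => b) hb
  have h2 : (b.toMatrix e).det = f := by
    rw [Basis.toMatrix_unitsSMul, Matrix.det_diagonal, Fin.prod_univ_one]
    rfl
  rw [h2] at h1
  exact h1

omit [IsIntegral X] [IsIntegral Y] [IsProper (Y ↘ Spec (CommRingCat.of k))] [Surjective π] in
theorem euler_push (hf : π ≫ (Y ↘ Spec (CommRingCat.of k)) = X ↘ Spec (CommRingCat.of k)) :
    Curv2.euler k Y (PO π) = Curv2.euler k X (Coh.structureModule X) := by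
  unfold Curv2.euler
  refine finsum_congr fun i => ?_
  rw [← VarietyB.HHPush.finrank_HH_push π k hf _ (CurvesC.UnitCoh.isQCoh_unit X) i]

/-- Local bases of the direct image as bases of the function field. -/
def LocB (y : Y) {n : ℕ} (b : letI := alg π; Basis (Fin n) Y.functionField X.functionField) : Prop :=
  letI := alg π
  ∃ (U : Y.Opens) (hy : y ∈ U) (s : Fin n → Sec (PO π) U), IsLocBasis s ∧ ∀ i, b i = gX π (mem_of_mem hy) (s i)

/-- **The degree of the discriminant divisor.** -/
theorem two_mul_euler_sub [IsLocallyNoetherian X] (hdim : topologicalKrullDim Y = 1) (hX : Pi1.IsNormalScheme X)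
    (hY : ∀ y : Y, IsPrincipalIdealRing (Y.presheaf.stalk y))
    (hf : π ≫ (Y ↘ Spec (CommRingCat.of k)) = X ↘ Spec (CommRingCat.of k))
    (hsep : letI := alg π; Algebra.IsSeparable Y.functionField X.functionField) :
    letI := alg π
    ∃ b : Y → Basis (Fin (finrank Y.functionField X.functionField)) Y.functionField X.functionField,
      (∀ y, LocB π y (b y)) ∧
      {y : Y | CycAlg.ordFrac (Y.presheaf.stalk y) Y.functionField (Algebra.discr Y.functionField (b y)) ≠ 0}.Finite ∧
      2 * ((finrank Y.functionField X.functionField : ℤ) * Curv2.euler k Y (Coh.structureModule Y) -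
          Curv2.euler k X (Coh.structureModule X)) =
        ∑ᶠ y ∈ {y : Y | IsClosed ({y} : Set Y)}, ((Y ↘ Spec (CommRingCat.of k)).residueDegree y : ℤ) *
          CycAlg.ordFrac (Y.presheaf.stalk y) Y.functionField (Algebra.discr Y.functionField (b y)) := by
  let := alg π
  have hfd := finite_functionField π
  have : IsLocallyNoetherian Y := LocallyOfFiniteType.isLocallyNoetherian (Y ↘ Spec (CommRingCat.of k))
  have hM := isFinLocFreeOfRank_PO π hX hY
  obtain ⟨Θ, hΘ⟩ := exists_equiv π hX hM
  have hex : ∀ y : Y, ∃ β : Basis (Fin (finrank Y.functionField X.functionField)) (Y.presheaf.stalk (genericPoint Y))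
      ((PO π).presheaf.stalk (genericPoint Y)), LocAt (PO π) y β ∧ LocB π y (β.map Θ) := by
    intro y
    obtain ⟨U, hy, s, hs⟩ := exists_locBasis hM y
    obtain ⟨β, hβ, hβ'⟩ := exists_locAt hy s hs
    refine ⟨β, hβ, U, hy, s, hs, fun i => ?_⟩
    rw [Basis.map_apply, hβ', hΘ]
  choose β hβ hβ' using hex
  obtain ⟨h1, h2⟩ := euler_eq k hdim hY hM (β (genericPoint Y)) β hβ
  rw [euler_push k π hf] at h2
  set e := (β (genericPoint Y)).map Θ with he
  have hdisc0 : ∀ b : Basis (Fin (finrank Y.functionField X.functionField)) Y.functionField X.functionField,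
      Algebra.discr Y.functionField b ≠ 0 := fun b => Algebra.discr_not_zero_of_basis _ b
  have hmat : ∀ y, ((β y).map Θ).toMatrix e = (β y).toMatrix (β (genericPoint Y)) := by
    intro y
    ext i j
    rw [Basis.toMatrix_apply, Basis.toMatrix_apply, he, Basis.map_apply, Basis.map_repr, LinearEquiv.trans_apply,
      LinearEquiv.symm_apply_apply]
  have key : ∀ y, CycAlg.ordFrac (Y.presheaf.stalk y) Y.functionField (Algebra.discr Y.functionField ((β y).map Θ)) =
      CycAlg.ordFrac (Y.presheaf.stalk y) Y.functionField (Algebra.discr Y.functionField e) -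
        2 * CycAlg.ordFrac (Y.presheaf.stalk y) Y.functionField ((β y).toMatrix (β (genericPoint Y))).det := by
    intro y
    have h3 := discr_eq ((β y).map Θ) e
    rw [hmat] at h3
    have h4 : ((β y).toMatrix (β (genericPoint Y))).det ≠ 0 := by
      have := det_toMatrix_ne_zero ((β y).map Θ) e
      rw [hmat] at this
      exact this
    rw [h3, CycB.OrdFrac.ordFrac_mul _ _ (pow_ne_zero _ h4) (hdisc0 _), CycB.OrdFrac.ordFrac_pow]
    push_cast
    ring
  have h5 := finite_ordFrac k hdim hY _ (hdisc0 e)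
  have h6 : {y : Y | 2 * CycAlg.ordFrac (Y.presheaf.stalk y) Y.functionField
      ((β y).toMatrix (β (genericPoint Y))).det ≠ 0}.Finite :=
    h1.subset fun y hy => right_ne_zero_of_mul hy
  refine ⟨fun y => (β y).map Θ, hβ', ?_, ?_⟩
  · refine (h5.union h6).subset fun y hy => ?_
    by_contra hcon
    rw [Set.mem_union, not_or, Set.mem_ofPred_eq, Set.mem_ofPred_eq, not_not, not_not] at hcon
    rw [Set.mem_ofPred_eq, key, hcon.1, hcon.2] at hy
    exact hy (sub_zero _)
  · have h7 : ∀ y, ((Y ↘ Spec (CommRingCat.of k)).residueDegree y : ℤ) *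
          CycAlg.ordFrac (Y.presheaf.stalk y) Y.functionField (Algebra.discr Y.functionField ((β y).map Θ)) =
          ((Y ↘ Spec (CommRingCat.of k)).residueDegree y : ℤ) *
            CycAlg.ordFrac (Y.presheaf.stalk y) Y.functionField (Algebra.discr Y.functionField e) -
          (2 * (((Y ↘ Spec (CommRingCat.of k)).residueDegree y : ℤ) *
            CycAlg.ordFrac (Y.presheaf.stalk y) Y.functionField ((β y).toMatrix (β (genericPoint Y))).det)) := by
      intro y
      rw [key]
      ring
    simp only [h7]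
    rw [finsum_mem_sub _ _ _ (finite_mul _ _ h5) (finite_mul (fun _ => 2) _ (finite_mul _ _ h1))]
    have h8 : ∑ᶠ y ∈ {y : Y | IsClosed ({y} : Set Y)}, ((Y ↘ Spec (CommRingCat.of k)).residueDegree y : ℤ) *
            CycAlg.ordFrac (Y.presheaf.stalk y) Y.functionField (Algebra.discr Y.functionField e) = 0 :=
      S1860.result k Y (Y ↘ Spec (CommRingCat.of k)) hdim _ (hdisc0 e)
    rw [h8, ← mul_finsum_mem, ← h2]
    ring

end curve

end K321.PushEq
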