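import Groth.Agent.Divis.NormSheaf
import Groth.Agent.Krr.H487.LocBasisPull
import Groth.Agent.Sga67.LocBasisStalk

/-!
# Local bases of the direct image of the structure sheaf under a finite morphism

`π : X ⟶ Y` finite surjective, `X`, `Y` integral, `X` normal.  Sections of `π_* O_X` have a germ `gX` in the function
field of `X`.

* `exists_basis`: for a local basis `s` of `π_* O_X` near `y`, the germs of `s` form a basis of `K(X)` over `K(Y)` and
  an `O_{Y,y}`-basis of the integral closure of `O_{Y,y}` in `K(X)`;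
* `gX_eq_sum`: transition matrices.
-/

set_option autoImplicit false
universe u

open CategoryTheory AlgebraicGeometry TopologicalSpace Opposite Module

namespace K321.PushLoc

open Groth.Agent Groth.Agent.Divis.NormSheaf Groth.Agent.Sga67.Sec Groth.Agent.Sga67.LocBasis
open Groth.Agent.Fdesc.LocGen (ores)

variable {X Y : Scheme.{u}} (π : X ⟶ Y)

/-- The direct image of the structure sheaf. -/
noncomputable abbrev PO : Y.Modules := (Scheme.Modules.pushforward π).obj (Coh.structureModule X)

/-- A section of `π_* O_X` as a function. -/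
def fn {U : Y.Opens} (s : Sec (PO π) U) : Γ(X, π ⁻¹ᵁ U) := s

theorem fn_add {U : Y.Opens} (s t : Sec (PO π) U) : fn π (s + t) = fn π s + fn π t := rfl

theorem fn_smul {U : Y.Opens} (r : Γ(Y, U)) (s : Sec (PO π) U) : fn π (r • s) = (π.app U).hom r * fn π s := rfl

theorem fn_zero {U : Y.Opens} : fn π (0 : Sec (PO π) U) = 0 := rfl

theorem fn_res {U V : Y.Opens} (h : V ≤ U) (s : Sec (PO π) U) :
    fn π (res _ h s) = ores (V := π ⁻¹ᵁ V) (U := π ⁻¹ᵁ U) (fun _ hx => h hx) (fn π s) := rfl

variable [IsIntegral X] [IsIntegral Y] [IsFinite π] [Surjective π]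

/-- The germ in the function field of a section of `π_* O_X`. -/
noncomputable def gX {U : Y.Opens} (hη : genericPoint Y ∈ U) : Sec (PO π) U →+ X.functionField where
  toFun s := gg (mem_preimage π hη) (fn π s)
  map_zero' := map_zero _
  map_add' _ _ := map_add _ _ _

theorem gX_apply {U : Y.Opens} (hη : genericPoint Y ∈ U) (s : Sec (PO π) U) :
    gX π hη s = gg (mem_preimage π hη) (fn π s) := rfl

theorem gX_smul {U : Y.Opens} (hη : genericPoint Y ∈ U) (r : Γ(Y, U)) (s : Sec (PO π) U) :
    gX π hη (r • s) = ff π (gg hη r) * gX π hη s := by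
  rw [gX_apply, fn_smul, map_mul, ← ff_gg π hη]
  rfl

theorem gX_res {U V : Y.Opens} (h : V ≤ U) (hη : genericPoint Y ∈ V) (s : Sec (PO π) U) :
    gX π hη (res _ h s) = gX π (h hη) s := by
  rw [gX_apply, fn_res, gg_ores]
  rfl

theorem gX_injective {U : Y.Opens} (hη : genericPoint Y ∈ U) : Function.Injective (gX π hη) :=
  gg_injective (mem_preimage π hη)

theorem gX_comb {n : ℕ} {U V : Y.Opens} (s : Fin n → Sec (PO π) U) (h : V ≤ U) (hη : genericPoint Y ∈ V)
    (a : Fin n → Γ(Y, V)) : gX π hη (comb s h a) = ∑ i, ff π (gg hη (a i)) * gX π (h hη) (s i) := by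
  rw [comb_apply, map_sum]
  refine Finset.sum_congr rfl fun i _ => ?_
  rw [gX_smul, gX_res]

theorem mem_of_mem {U : Y.Opens} {y : Y} (hy : y ∈ U) : genericPoint Y ∈ U := genericPoint_mem ⟨y, hy⟩

theorem gg_resO {U V : Y.Opens} (h : V ≤ U) (hη : genericPoint Y ∈ V) (a : Γ(Y, U)) :
    gg hη (resO Y h a) = gg (h hη) a := Y.presheaf.germ_res_apply (homOfLE h) _ hη a

/-- `K(X)` as an algebra over the local ring of `Y` at `y`. -/
noncomputable abbrev algY (y : Y) : Algebra (Y.presheaf.stalk y) X.functionField :=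
  ((ff π).comp (algebraMap (Y.presheaf.stalk y) Y.functionField)).toAlgebra

theorem linearIndependent {n : ℕ} {U : Y.Opens} (s : Fin n → Sec (PO π) U) (hs : IsLocBasis s)
    (hη : genericPoint Y ∈ U) :
    letI := alg π
    LinearIndependent Y.functionField (fun i => gX π hη (s i)) := by
  let := alg π
  rw [Fintype.linearIndependent_iff]
  intro g hg i
  obtain ⟨W, hWU, hW, a, ha⟩ := Sga67.LocBasisStalk.exists_gerO_family (genericPoint Y) (fun i => (g i : Y.functionField)) U hη
  have h1 : gX π hW (comb s hWU a) = 0 := by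
    rw [gX_comb, ← hg]
    refine Finset.sum_congr rfl fun j _ => ?_
    have h2 : gg hW (a j) = g j := ha j
    rw [h2]
    rfl
  have h2 : comb s hWU a = 0 := gX_injective π hW (h1.trans (map_zero _).symm)
  have h3 : a = 0 := (hs W hWU).1 (h2.trans (map_zero _).symm)
  rw [← ha i, h3]
  exact map_zero _

/-- Integrality over the local ring. -/
theorem isIntegral_iff (hX : Pi1.IsNormalScheme X) {n : ℕ} {U : Y.Opens} (s : Fin n → Sec (PO π) U)
    (hs : IsLocBasis s) (y : Y) (hy : y ∈ U) (z : X.functionField) :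
    letI := algY π y
    IsIntegral (Y.presheaf.stalk y) z ↔ ∃ c : Fin n → Y.presheaf.stalk y,
      z = ∑ i, ff π (algebraMap _ Y.functionField (c i)) * gX π (mem_of_mem hy) (s i) := by
  let iRL := algY π y
  obtain ⟨V, hV, hyV, hVU⟩ := exists_isAffineOpen_mem_and_subset (x := y) (U := U) hy
  have hη : genericPoint Y ∈ V := mem_of_mem hyV
  have : Nonempty V := ⟨⟨_, hη⟩⟩
  have : Nonempty (π ⁻¹ᵁ V) := ⟨⟨_, mem_preimage π hη⟩⟩
  have hVX : IsAffineOpen (π ⁻¹ᵁ V) := hV.preimage π
  let iA0B0 : Algebra Γ(Y, V) Γ(X, π ⁻¹ᵁ V) := (π.app V).hom.toAlgebra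
  have hfin : Module.Finite Γ(Y, V) Γ(X, π ⁻¹ᵁ V) := IsFinite.finite_app π V hV
  have hfr : IsFractionRing Γ(X, π ⁻¹ᵁ V) X.functionField := functionField_isFractionRing_of_isAffineOpen X _ hVX
  have hic : IsIntegrallyClosed Γ(X, π ⁻¹ᵁ V) := Ega2.Normal.isIntegrallyClosed_of_isAffineOpen hX hVX inferInstance
  let iA0L : Algebra Γ(Y, V) X.functionField := ((ff π).comp (gg hη)).toAlgebra
  have t1 : IsScalarTower Γ(Y, V) Γ(X, π ⁻¹ᵁ V) X.functionField := IsScalarTower.of_algebraMap_eq fun a => ff_gg π hη a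
  let iA0R : Algebra Γ(Y, V) (Y.presheaf.stalk y) := (Y.presheaf.germ V y hyV).hom.toAlgebra
  have hgerm : ∀ a : Γ(Y, V), algebraMap (Y.presheaf.stalk y) Y.functionField (Y.presheaf.germ V y hyV a) = gg hη a := by
    intro a
    exact Y.presheaf.germ_stalkSpecializes_apply _ _ _
  have t2 : IsScalarTower Γ(Y, V) (Y.presheaf.stalk y) X.functionField := by
    refine IsScalarTower.of_algebraMap_eq fun a => ?_
    change ff π (gg hη a) = ff π (algebraMap _ _ (Y.presheaf.germ V y hyV a))
    rw [hgerm]
  have hloc : IsLocalization.AtPrime (Y.presheaf.stalk y) (hV.primeIdealOf ⟨y, hyV⟩).asIdeal :=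
    hV.isLocalization_stalk ⟨y, hyV⟩
  have hgX : ∀ t : Sec (PO π) V, IsIntegral (Y.presheaf.stalk y) (gX π hη t) := by
    intro t
    have h1 : IsIntegral Γ(Y, V) (fn π t) := Algebra.IsIntegral.isIntegral _
    have h2 : IsIntegral Γ(Y, V) (algebraMap _ X.functionField (fn π t)) := h1.algebraMap
    exact h2.tower_top
  constructor
  · intro hz
    obtain ⟨m, hm⟩ := IsIntegral.exists_multiple_integral_of_isLocalization
      (hV.primeIdealOf ⟨y, hyV⟩).asIdeal.primeCompl (Rₘ := Y.presheaf.stalk y) z hz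
    have hm2 : IsIntegral Γ(X, π ⁻¹ᵁ V) (m • z) := hm.tower_top
    obtain ⟨t, ht⟩ := IsIntegrallyClosed.isIntegral_iff.1 hm2
    obtain ⟨a, ha⟩ := (hs V hVU).2 (show Sec (PO π) V from t)
    have h3 : gX π hη (comb s hVU a) = m • z := by
      rw [ha]
      exact ht
    have hm0 : algebraMap Γ(Y, V) X.functionField m ≠ 0 := by
      have hu : IsUnit (algebraMap Γ(Y, V) (Y.presheaf.stalk y) m) := IsLocalization.map_units _ m
      rw [IsScalarTower.algebraMap_apply Γ(Y, V) (Y.presheaf.stalk y) X.functionField]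
      exact (hu.map _).ne_zero
    refine ⟨fun i => IsLocalization.mk' _ (a i) m, ?_⟩
    apply mul_left_cancel₀ hm0
    rw [gX_comb] at h3
    have h4 : algebraMap Γ(Y, V) X.functionField m * z = m • z := by
      rw [Submonoid.smul_def, Algebra.smul_def]
    rw [h4, ← h3, Finset.mul_sum]
    refine Finset.sum_congr rfl fun i _ => ?_
    rw [← mul_assoc]
    congr 1
    have h5 : algebraMap Γ(Y, V) (Y.presheaf.stalk y) m * IsLocalization.mk' (Y.presheaf.stalk y) (a i) m =
        algebraMap Γ(Y, V) (Y.presheaf.stalk y) (a i) := IsLocalization.mk'_spec' _ _ _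
    have h6 := congrArg (algebraMap (Y.presheaf.stalk y) X.functionField) h5
    rw [map_mul, ← IsScalarTower.algebraMap_apply, ← IsScalarTower.algebraMap_apply] at h6
    exact h6.symm
  · rintro ⟨c, rfl⟩
    refine IsIntegral.sum _ fun i _ => ?_
    refine IsIntegral.mul ?_ ?_
    · exact isIntegral_algebraMap (A := X.functionField) (x := c i)
    · have := hgX (res _ hVU (s i))
      rw [gX_res] at this
      exact this

/-- The germs of a local basis form a basis of the function field. -/
theorem exists_basis (hX : Pi1.IsNormalScheme X) {n : ℕ} {U : Y.Opens} (s : Fin n → Sec (PO π) U)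
    (hs : IsLocBasis s) (y : Y) (hy : y ∈ U) :
    letI := alg π
    ∃ b : Basis (Fin n) Y.functionField X.functionField, ∀ i, b i = gX π (mem_of_mem hy) (s i) := by
  let := alg π
  have hfd := finite_functionField π
  let := algY π y
  have : IsScalarTower (Y.presheaf.stalk y) Y.functionField X.functionField := IsScalarTower.of_algebraMap_eq' rfl
  have hspan : ⊤ ≤ Submodule.span Y.functionField (Set.range fun i => gX π (mem_of_mem hy) (s i)) := by
    rintro z -
    have : IsFractionRing (Y.presheaf.stalk y) Y.functionField := inferInstance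
    have : Algebra.IsAlgebraic (Y.presheaf.stalk y) Y.functionField :=
      IsLocalization.isAlgebraic _ (nonZeroDivisors (Y.presheaf.stalk y))
    have : Algebra.IsAlgebraic Y.functionField X.functionField := Algebra.IsAlgebraic.of_finite _ _
    have : Algebra.IsAlgebraic (Y.presheaf.stalk y) X.functionField :=
      Algebra.IsAlgebraic.trans _ Y.functionField _
    obtain ⟨r, hr, hz⟩ := (this.isAlgebraic z).exists_integral_multiple
    obtain ⟨c, hc⟩ := (isIntegral_iff π hX s hs y hy _).1 hz
    have hr0 : algebraMap (Y.presheaf.stalk y) Y.functionField r ≠ 0 :=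
      (map_ne_zero_iff _ (IsFractionRing.injective (Y.presheaf.stalk y) Y.functionField)).2 hr
    have h1 : z = (algebraMap (Y.presheaf.stalk y) Y.functionField r)⁻¹ • (r • z) := by
      rw [← algebraMap_smul Y.functionField r z, smul_smul, inv_mul_cancel₀ hr0, one_smul]
    rw [h1, hc]
    refine Submodule.smul_mem _ _ (Submodule.sum_mem _ fun i _ => ?_)
    exact Submodule.smul_mem _ (algebraMap (Y.presheaf.stalk y) Y.functionField (c i))
      (Submodule.subset_span ⟨i, rfl⟩)
  exact ⟨Basis.mk (linearIndependent π s hs (mem_of_mem hy)) hspan, fun i => Basis.mk_apply _ _ i⟩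

end K321.PushLoc
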