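import Groth.Agent.Curves.K321.Satur
import Groth.Agent.Curves.K321.SmoothPid
import Groth.Agent.Sga2.LefPow644
import Groth.Agent.Models.H55.PtDeg
import Groth.Agent.EtpbcB.Spectral
import Groth.Agent.CurvesB.CurveRR
import Groth.Agent.CurvesB.DimOneTop
import Groth.Agent.CurvesB.InvEmb
import Groth.Agent.VarietyA.CurveFin
import Groth.Agent.S1530
import Groth.Agent.S1557
import Mathlib.AlgebraicGeometry.AlgClosed.Basic

/-!
# Subsheaves of rank one of bundles on a smooth curve

* `exists_degree`: invertible modules of every degree (algebraically closed base field).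
* `mono_of_ne_zero`: a nonzero morphism from a module of rank one to a torsion-free module is a monomorphism.
* `exists_splitting`: an extension of `M` by `L` splits if `H¹(L ⊗ M⁻¹) = 0`.
* `deg_le_of_H1`: `deg L ≤ 2g − 2` if `H¹(L) ≠ 0`.
* `exists_sub`: extension of an invertible subsheaf to an exact sequence with torsion-free quotient.
-/

set_option autoImplicit false
universe u

open CategoryTheory CategoryTheory.Limits AlgebraicGeometry TopologicalSpace Opposite

namespace K321.RankTwo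

open K321.SubLoc Groth.Agent.VarietyA.DegRank Groth.Agent Groth.Agent.Dix.InterNum Groth.Agent.CurvesB.DimOneTop

variable {X : Scheme.{u}}

/-- A nonzero morphism from a torsion-free module of rank one to a torsion-free module is a monomorphism. -/
theorem mono_of_ne_zero [IsIntegral X] [IsLocallyNoetherian X]
    (hpid : ∀ x : X, IsPrincipalIdealRing (X.presheaf.stalk x)) {L E : X.Modules} (φ : L ⟶ E) (hφ : φ ≠ 0)
    (hL : Coh.IsCoh L) (hLt : TorsionFree L) (h1 : rk L = 1) (hE : Coh.IsCoh E) (hEt : TorsionFree E) : Mono φ := by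
  have hK : Coh.IsCoh (kernel φ) := Ega3B.DevQC.isCoh_kernel φ hL hE.1
  have hKt : TorsionFree (kernel φ) := TorsionFree.of_mono (kernel.ι φ) hLt
  have hI : Coh.IsCoh (cokernel (kernel.ι φ)) := Ega3B.DevQC.isCoh_cokernel _ hK.1 hL
  have hmono : Mono (Abelian.factorThruCoimage φ) := inferInstance
  have hIt : TorsionFree (cokernel (kernel.ι φ)) := TorsionFree.of_mono (Abelian.factorThruCoimage φ) hEt
  have hS := VarietyA.StalkCrit.shortExact_cokernel (kernel.ι φ)
  have hrk := rk_add _ hS hL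
  change rk L = rk (kernel φ) + rk (cokernel (kernel.ι φ)) at hrk
  rw [h1] at hrk
  have hI0 : rk (cokernel (kernel.ι φ)) ≠ 0 := by
    intro h0
    have hz := isZero_of_rk hpid hI hIt h0
    apply hφ
    rw [← Abelian.coimage.fac φ]
    exact (show Abelian.coimage.π φ ≫ Abelian.factorThruCoimage φ = 0 from by
      rw [hz.eq_of_tgt (Abelian.coimage.π φ) 0, zero_comp])
  have key : ∀ a b : ℕ, 1 = a + b → b ≠ 0 → a = 0 := by
    intro a b h h'
    omega
  exact Preadditive.mono_of_isZero_kernel φ (isZero_of_rk hpid hK hKt (key _ _ hrk hI0))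

/-- An extension of `M` by `L` splits if `M` has an inverse `A` and `H¹(L ⊗ A) = 0`. -/
theorem exists_section {S : ShortComplex X.Modules} (hS : S.ShortExact) {A : X.Modules}
    (e : CohB1.tensorMod A S.X₃ ≅ Coh.structureModule X)
    (h : Subsingleton (Coh.HH X (CohB1.tensorMod S.X₁ A) 1)) : ∃ φ : S.X₃ ⟶ S.X₂, φ ≫ S.g = 𝟙 _ :=
  Sga2.LefPow644.hom_surjective e hS h (𝟙 _)

theorem nonempty_iso_biprod {S : ShortComplex X.Modules} (hS : S.ShortExact) (φ : S.X₃ ⟶ S.X₂)
    (h : φ ≫ S.g = 𝟙 _) : Nonempty (S.X₂ ≅ S.X₁ ⊞ S.X₃) := by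
  have := hS.mono_f
  have := hS.epi_g
  have s : S.Splitting := ShortComplex.Splitting.ofExactOfSection S hS.exact φ h inferInstance
  exact ⟨s.isoBinaryBiproduct⟩

section curve

variable (k : Type u) [Field k] [X.Over (Spec (CommRingCat.of k))] [IsProper (X ↘ (Spec (CommRingCat.of k)))]
  [IsIntegral X]

theorem deg_le_of_H1 (hdim : topologicalKrullDim X = 1)
    (h0 : Module.finrank k (Coh.HH X (Coh.structureModule X) 0) = 1) {L : X.Modules} (hL : PicF.IsInvertible L)
    (h1 : Nontrivial (Coh.HH X L 1)) : Curv2.deg k X L 1 ≤ 2 * (Curv2.genus k X : ℤ) - 2 := by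
  have := CurvesB.CurveRR.isNoetherian_of_proper k X
  have f1 : Module.Finite k (Coh.HH X (Coh.structureModule X) 1) := VarietyA.CurveFin.finite_HH_structure k X 1
  have f2 : Module.Finite k (Coh.HH X L 1) := VarietyA.CurveFin.finite_HH k X hL 1
  have h2 := CurvesB.CurveRR.finrank_H0_le_genus k hdim.le (CurvesB.InvEmb.locEmb_of_isInvertible hL) h1
  have h3 := CurvesB.CurveRR.deg_eq k X hdim.le L
  have h4 : 0 < Module.finrank k (Coh.HH X L 1) := Module.finrank_pos
  rw [h0] at h3
  rw [h3]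
  have key : ∀ a b g : ℕ, a ≤ g → 0 < b → (a : ℤ) - b - (((1 : ℕ) : ℤ) - g) ≤ 2 * (g : ℤ) - 2 := by
    intro a b g h h'
    omega
  exact key _ _ _ h2 h4

omit [IsIntegral X] in
theorem exists_inverse_left {L : X.Modules} (hL : PicF.IsInvertible L) :
    ∃ A : X.Modules, PicF.IsInvertible A ∧ Nonempty (CohB1.tensorMod A L ≅ Coh.structureModule X) := by
  obtain ⟨A, hA, ⟨e⟩⟩ := Grpsch.PicGrp.exists_inverse hL
  exact ⟨A, hA, ⟨Ega2.Tens.swap A L ≪≫ e⟩⟩

/-- Invertible modules of every degree. -/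
theorem exists_degree [IsAlgClosed k] [Smooth (X ↘ (Spec (CommRingCat.of k)))] (hdim : topologicalKrullDim X = 1) (n : ℤ) :
    ∃ N : X.Modules, PicF.IsInvertible N ∧ Curv2.deg k X N 1 = n := by
  -- a closed point
  obtain ⟨x, hx⟩ : ∃ x : X, IsClosed ({x} : Set X) := by
    have : CompactSpace X := QuasiCompact.compactSpace_of_compactSpace (X ↘ Spec (CommRingCat.of k))
    obtain ⟨z, -, hz⟩ := EtpbcB.Spectral.exists_isClosed_singleton_mem (X := X) isClosed_univ Set.univ_nonempty
    exact ⟨z, hz⟩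
  have hne : x ≠ genericPoint X := by
    rintro rfl
    obtain ⟨⟨a, b, -, hne⟩, -⟩ := topologicalKrullDim_eq_one_iff.1 hdim
    have h1 : ∀ z : X, z = genericPoint X := fun z => (genericPoint_specializes z).mem_closed hx rfl
    exact hne ((h1 b).trans (h1 a).symm)
  have hd := CurvesB.SmoothCurveFacts.isDiscreteValuationRing_stalk (X ↘ (Spec (CommRingCat.of k))) hdim.le hne
  obtain ⟨ϖ, hϖ⟩ := IsDiscreteValuationRing.exists_irreducible (X.presheaf.stalk x)
  obtain ⟨L, hL, h1⟩ := Models.H55.PtDeg.exists_invertible_deg_one k X hdim x hx ϖ hϖ.maximalIdeal_eq hϖ.ne_zero (by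
    have hiso : IsIso (X.fromSpecResidueField x ≫ (X ↘ Spec (CommRingCat.of k))) := by
      rw [← SpecMap_residueFieldIsoBase_inv (X ↘ Spec (CommRingCat.of k)) x hx]
      infer_instance
    have hiso' : IsIso (X.fromSpecResidueField x ≫ (X ↘ Spec (CommRingCat.of k))).appTop :=
      inferInstanceAs (IsIso ((X.fromSpecResidueField x ≫ (X ↘ Spec (CommRingCat.of k))).app ⊤))
    have h2 : Function.Surjective (X.fromSpecResidueField x ≫ (X ↘ Spec (CommRingCat.of k))).appTop.hom :=
      (ConcreteCategory.bijective_of_isIso (X.fromSpecResidueField x ≫ (X ↘ Spec (CommRingCat.of k))).appTop).2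
    exact h2.comp (ConcreteCategory.bijective_of_isIso (Scheme.ΓSpecIso (CommRingCat.of k)).inv).2)
  obtain ⟨A, hA, ⟨e⟩⟩ := exists_inverse_left hL
  have h2 : Curv2.deg k X A 1 = -1 := by
    rw [deg_inverse k X hdim ⟨e⟩, h1]
  obtain ⟨m, rfl | rfl⟩ := n.eq_nat_or_neg
  · exact ⟨CohB1.tensorPow L m, Fdesc.LocGen.isInvertible_tensorPow hL m, by
      rw [S1530.deg_tensorPow k hdim hL m, h1, mul_one]⟩
  · exact ⟨CohB1.tensorPow A m, Fdesc.LocGen.isInvertible_tensorPow hA m, by
      rw [S1530.deg_tensorPow k hdim hA m, h2, mul_neg_one]⟩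

omit [IsIntegral X] in
/-- (Sub)sheaves: a nonzero section of `E ⊗ N` gives a nonzero morphism `N⁻¹ → E`. -/
theorem exists_hom_ne_zero {E N B : X.Modules} (e : CohB1.tensorMod N B ≅ Coh.structureModule X)
    (h : Nontrivial (Coh.HH X (CohB1.tensorMod E N) 0)) : ∃ φ : B ⟶ E, φ ≠ 0 := by
  by_contra hcon
  push Not at hcon
  have := Sga2.LefPow644.isEquivalence_of_inv e
  let e' : (DCoh.tensorRightMod N).obj B ≅ Coh.structureModule X := Ega2.Tens.swap B N ≪≫ e
  obtain ⟨v, hv⟩ := exists_ne (0 : Coh.HH X (CohB1.tensorMod E N) 0)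
  let s := Ega3B.SectExact.secEquiv (CohB1.tensorMod E N) v
  have hs : s ≠ 0 := fun h0 => hv ((Ega3B.SectExact.secEquiv (CohB1.tensorMod E N)).injective (h0.trans (map_zero _).symm))
  obtain ⟨φ, hφ⟩ := (DCoh.tensorRightMod N).map_surjective (X := B) (Y := E) (e'.hom ≫ Dcoh.Restrict.unitHom s)
  rw [hcon φ, Functor.map_zero] at hφ
  apply hs
  have h2 : Dcoh.Restrict.unitHom s = 0 := by
    rw [← cancel_epi e'.hom, comp_zero]
    exact hφ.symm
  rw [← Dcoh.Restrict.unitHom_app_one s, h2]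
  rfl

end curve

end K321.RankTwo
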