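import Mathlib.RingTheory.Ideal.MinimalPrime.Noetherian
import Mathlib.RingTheory.Nilpotent.Lemmas
import Mathlib.RingTheory.Finiteness.Basic
import Mathlib.RingTheory.LocalRing.MaximalIdeal.Basic
import Mathlib.RingTheory.Noetherian.Basic
import Mathlib.RingTheory.Ideal.MinimalPrime.Localization

/-!
# Modules of rank one at the minimal primes of a reduced Noetherian ring

* `RkOne N p`: the localization of `N` at `p` is generated by one element which is not zero (elementary form).
* `exists_gen`: there is an element of `N` which is not zero at all minimal primes.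
-/

set_option autoImplicit false

set_option linter.dupNamespace false

namespace K321.RkOne

variable {A : Type*} [CommRing A] {N : Type*} [AddCommGroup N] [Module A N]

/-- `w` is not zero at `p`. -/
def NZ (p : Ideal A) (w : N) : Prop := ∀ c ∉ p, c • w ≠ 0

/-- The localization of `N` at `p` is nonzero and generated by any of its nonzero elements. -/
def RkOne (N : Type*) [AddCommGroup N] [Module A N] (p : Ideal A) : Prop :=
  (∃ m : N, NZ p m) ∧ ∀ m m' : N, NZ p m → ∃ c ∉ p, ∃ b : A, c • m' = b • m

open Classical in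
theorem exists_gen [IsReduced A] [IsNoetherianRing A] (h : ∀ p ∈ minimalPrimes A, RkOne N p) :
    ∃ w : N, ∀ p ∈ minimalPrimes A, NZ p w := by
  have hfin : (minimalPrimes A).Finite := minimalPrimes.finite_of_isNoetherianRing A
  have : Fintype (minimalPrimes A) := hfin.fintype
  choose m hm using fun p : minimalPrimes A => (h p.1 p.2).1
  -- elements in all minimal primes but one
  have hb : ∀ p q : minimalPrimes A, p ≠ q → ∃ b ∈ q.1, b ∉ p.1 := by
    intro p q hne
    by_contra hc
    push Not at hc
    have h1 : q.1 ≤ p.1 := fun b hb => hc b hb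
    exact hne (Subtype.ext (le_antisymm (p.2.2 ⟨q.2.1.1, bot_le⟩ h1) h1))
  have ha : ∀ p : minimalPrimes A, ∃ a : A, a ∉ p.1 ∧ ∀ q : minimalPrimes A, q ≠ p → a ∈ q.1 := by
    intro p
    choose b hb1 hb2 using fun q : {q : minimalPrimes A // p ≠ q} => hb p q.1 q.2
    have hp : p.1.IsPrime := p.2.1.1
    refine ⟨∏ q, b q, fun hmem => ?_, fun q hq => ?_⟩
    · obtain ⟨q, -, hq⟩ := (Ideal.IsPrime.prod_mem_iff (hp := hp)).1 hmem
      exact hb2 q hq
    · exact Ideal.mem_of_dvd q.1 (Finset.dvd_prod_of_mem b (Finset.mem_univ ⟨q, hq.symm⟩)) (hb1 ⟨q, hq.symm⟩)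
  choose a ha1 ha2 using ha
  have h0 : ∀ p q : minimalPrimes A, p ≠ q → a p * a q = 0 := by
    intro p q hne
    have h1 : a p * a q ∈ nilradical A := by
      rw [nilradical, ← Ideal.sInf_minimalPrimes, Submodule.mem_sInf]
      intro r hr
      by_cases hrp : (⟨r, hr⟩ : minimalPrimes A) = p
      · have : (⟨r, hr⟩ : minimalPrimes A) ≠ q := fun h => hne (hrp.symm.trans h)
        exact Ideal.mul_mem_left r _ (ha2 q ⟨r, hr⟩ this)
      · exact Ideal.mul_mem_right _ r (ha2 p ⟨r, hr⟩ hrp)
    rw [nilradical_eq_zero] at h1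
    exact h1
  refine ⟨∑ p, a p • m p, fun p hp c hc h => ?_⟩
  let P : minimalPrimes A := ⟨p, hp⟩
  have hpp : p.IsPrime := hp.1.1
  have h1 : (a P * c) • ∑ q, a q • m q = (c * (a P * a P)) • m P := by
    rw [Finset.smul_sum, Finset.sum_eq_single P]
    · rw [← mul_smul]
      congr 1
      ring
    · intro q _ hq
      rw [← mul_smul, mul_right_comm, h0 P q hq.symm, zero_mul, zero_smul]
    · intro h
      exact absurd (Finset.mem_univ P) h
  have h2 : (c * (a P * a P)) • m P = 0 := by
    rw [← h1, mul_smul, h, smul_zero]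
  refine hm P _ ?_ h2
  intro hmem
  rcases hpp.mem_or_mem hmem with h3 | h3
  · exact hc h3
  · rcases hpp.mem_or_mem h3 with h4 | h4 <;> exact ha1 P h4

variable {w : N} (hw : ∀ p ∈ minimalPrimes A, NZ p w)

include hw in
theorem eq_zero_of_smul [IsReduced A] (a : A) (h : a • w = 0) : a = 0 := by
  have h1 : a ∈ nilradical A := by
    rw [nilradical, ← Ideal.sInf_minimalPrimes, Submodule.mem_sInf]
    intro p hp
    by_contra hc
    exact hw p hp a hc h
  rw [nilradical_eq_zero] at h1
  exact h1

include hw in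
/-- Elements of `N` are multiples of `w` up to powers of elements of the maximal ideal, in dimension one. -/
theorem exists_pow_smul_mem [IsLocalRing A] (hN : ∀ p ∈ minimalPrimes A, RkOne N p)
    (hdim : ∀ p : Ideal A, p.IsPrime → p ≠ IsLocalRing.maximalIdeal A → p ∈ minimalPrimes A)
    (m : N) (a : A) (ha : a ∈ IsLocalRing.maximalIdeal A) : ∃ n : ℕ, a ^ n • m ∈ Submodule.span A {w} := by
  let J : Ideal A := (Submodule.span A {w}).comap (LinearMap.toSpanSingleton A N m)
  have hJ : ∀ c, c ∈ J ↔ c • m ∈ Submodule.span A {w} := fun c => Iff.rfl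
  suffices h : a ∈ J.radical from h
  rw [Ideal.radical_eq_sInf, Submodule.mem_sInf]
  rintro q ⟨hq, hqp⟩
  by_cases hqm : q = IsLocalRing.maximalIdeal A
  · rw [hqm]; exact ha
  · have hmin := hdim q hqp hqm
    obtain ⟨c, hc, b, hb⟩ := (hN q hmin).2 w m (hw q hmin)
    exfalso
    apply hc
    apply hq
    rw [hJ, hb]
    exact Submodule.smul_mem _ _ (Submodule.mem_span_singleton_self w)

include hw in
/-- A common denominator. -/
theorem exists_regular [IsReduced A] [IsNoetherianRing A] [Module.Finite A N]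
    (hN : ∀ p ∈ minimalPrimes A, RkOne N p) :
    ∃ f ∈ nonZeroDivisors A, ∀ m : N, f • m ∈ Submodule.span A {w} := by
  let J : Ideal A := (Submodule.span A {w}).colon Set.univ
  have hJ : ∀ c, c ∈ J ↔ ∀ m : N, c • m ∈ Submodule.span A {w} := fun c => by
    rw [Submodule.mem_colon]
    exact ⟨fun h m => h m trivial, fun h m _ => h m⟩
  have hfin : (minimalPrimes A).Finite := minimalPrimes.finite_of_isNoetherianRing A
  have key : ¬ ((J : Set A) ⊆ ⋃ P ∈ minimalPrimes A, (P : Set A)) := by
    intro hc
    have h1 := (Ideal.subset_union_prime_finite hfin (f := id) ⊥ ⊥ (fun P hP _ _ => hP.1.1)).1 hc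
    obtain ⟨P, hP, hJP⟩ := h1
    have hPp : P.IsPrime := hP.1.1
    obtain ⟨s, hs⟩ := (inferInstance : Module.Finite A N).fg_top
    classical
    choose c hc b hb using fun m : N => (hN P hP).2 w m (hw P hP)
    have h2 : ∏ m ∈ s, c m ∉ P := fun h => by
      obtain ⟨m, -, hm⟩ := (Ideal.IsPrime.prod_mem_iff (hp := hPp)).1 h
      exact hc m hm
    apply h2
    apply hJP
    change _ ∈ J
    rw [hJ]
    intro m
    have hm : m ∈ Submodule.span A (s : Set N) := hs ▸ trivial
    induction hm using Submodule.span_induction with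
    | mem x hx =>
      obtain ⟨d, hd⟩ := Finset.dvd_prod_of_mem c (Finset.mem_coe.1 hx)
      rw [hd, mul_comm, mul_smul, hb]
      exact Submodule.smul_mem _ _ (Submodule.smul_mem _ _ (Submodule.mem_span_singleton_self w))
    | zero => rw [smul_zero]; exact Submodule.zero_mem _
    | add x y _ _ hx hy => rw [smul_add]; exact Submodule.add_mem _ hx hy
    | smul r x _ hx => rw [smul_comm]; exact Submodule.smul_mem _ _ hx
  obtain ⟨a, haJ, ha⟩ := Set.not_subset.1 key
  refine ⟨a, ?_, (hJ a).1 haJ⟩
  rw [mem_nonZeroDivisors_iff_right]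
  intro y hy
  by_contra hy0
  apply ha
  have h2 : a ∈ ⋃ P ∈ (⊥ : Ideal A).minimalPrimes, (P : Set A) := by
    rw [Ideal.iUnion_minimalPrimes]
    have hr : (⊥ : Ideal A).radical = ⊥ := nilradical_eq_zero _
    refine ⟨y, ?_, ?_⟩
    · rw [hr]; exact hy0
    · rw [hr, mul_comm]; exact hy
  exact h2

end K321.RkOne
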