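import Groth.Agent.TFOne.K77.Quot
import Groth.Agent.CycB.MSky

/-!
# Submodules of coherent modules with prescribed stalks at finitely many closed points
-/

set_option autoImplicit false
universe u

open CategoryTheory CategoryTheory.Limits AlgebraicGeometry TopologicalSpace Opposite

namespace K321.SubStalk

open Groth.Agent Groth.Agent.CycB.StalkExact Groth.Agent.CycB.MSky K77.TF

variable {X : Scheme.{u}}

theorem eq_of_specializes_of_isClosed {t x : X} (ht : IsClosed ({t} : Set X)) (h : t ⤳ x) : x = t := by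
  have := h.mem_closure
  rw [ht.closure_eq] at this
  exact this

theorem exists_sub [IsLocallyNoetherian X] {M : X.Modules} (hM : Coh.IsCoh M) {S : Set X} (hS : S.Finite)
    (hc : ∀ s ∈ S, IsClosed ({s} : Set X)) (P : ∀ s : S, Submodule (X.presheaf.stalk s.1) (M.presheaf.stalk s.1))
    (htors : ∀ (s : S) (m : M.presheaf.stalk s.1), ∀ a ∈ IsLocalRing.maximalIdeal (X.presheaf.stalk s.1),
      ∃ n : ℕ, a ^ n • m ∈ P s) :
    ∃ (N : X.Modules) (i : N ⟶ M), Mono i ∧ Coh.IsCoh N ∧ (∀ s : S, LinearMap.range (stalkLin i s.1) = P s) ∧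
      ∀ x, x ∉ S → Function.Surjective (stalkLin i x) := by
  let Q : S → Type u := fun t => M.presheaf.stalk t.1 ⧸ P t
  let g : ∀ t : S, M.presheaf.stalk t.1 →ₗ[X.presheaf.stalk t.1] Q t := fun t => (P t).mkQ
  let u : M ⟶ msky (fun t : S => t.1) Q := toMSky (pt := fun t : S => t.1) g
  have : Finite S := hS
  have hlf : ∀ x : X, ∃ U : X.Opens, x ∈ U ∧ {t : S | t.1 ∈ U}.Finite := fun x => ⟨⊤, trivial, Set.toFinite _⟩
  have hQ : Coh.IsQCoh (msky (fun t : S => t.1) Q) := by
    refine isQCoh_msky hlf fun t q a ha => ?_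
    obtain ⟨m, rfl⟩ := Submodule.Quotient.mk_surjective _ q
    obtain ⟨n, hn⟩ := htors t m a ha
    refine ⟨n, ?_⟩
    rw [← Submodule.Quotient.mk_smul]
    exact (Submodule.Quotient.mk_eq_zero _).2 hn
  have hK : Coh.IsCoh (kernel u) := Groth.Agent.Sga67.CohBasic.isCoh_kernel u hM hQ
  have hker : ∀ (x : X) (s : M.presheaf.stalk x), (∃ t, stalkLin (kernel.ι u) x t = s) ↔
      ∀ (t : S) (h : t.1 ⤳ x), M.presheaf.stalkSpecializes h s ∈ P t := by
    intro x s
    rw [← mem_ker_iff, stalkLin_toMSky_eq_zero_iff hlf]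
    refine forall_congr' fun t => forall_congr' fun h => ?_
    exact Submodule.Quotient.mk_eq_zero _
  refine ⟨kernel u, kernel.ι u, inferInstance, hK, fun s => ?_, fun x hx m => ?_⟩
  · ext m
    rw [LinearMap.mem_range, hker]
    constructor
    · intro h
      have h1 := h s (specializes_refl s.1)
      rwa [spec_refl] at h1
    · intro h t ht
      have h1 : s.1 = t.1 := eq_of_specializes_of_isClosed (hc t.1 t.2) ht
      obtain rfl : s = t := Subtype.ext h1
      rwa [spec_refl]
  · rw [hker]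
    intro t ht
    exact absurd (eq_of_specializes_of_isClosed (hc t.1 t.2) ht ▸ t.2) hx

end K321.SubStalk
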