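import Groth.Agent.Curves.K321.TrivLoc
import Groth.Agent.Dcoh.FlatSES
import Groth.Agent.Dcoh.TMod
import Groth.Agent.TFOne.K77.Bridge
import Groth.Agent.CycB.DenomSheaf
import Groth.Agent.CycB.CohProp
import Groth.Agent.CycB.DegCurve
import Groth.Agent.S2297
import Groth.Agent.CycB.DegSky
import Groth.Agent.Variety.K420.LenEuler

/-!
# The degree of a tensor product of torsion-free modules of rank one
-/

set_option autoImplicit false
universe u

open CategoryTheory CategoryTheory.Limits AlgebraicGeometry TopologicalSpace Opposite MonoidalCategory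

namespace K321.TFDeg

open Groth.Agent Groth.Agent.Dcoh.Stalk Groth.Agent.Dcoh.FlatSES Groth.Agent.CycB.StalkExact TrivLoc
  Groth.Agent.CurvesB.SubH1

variable {X : Scheme.{u}}

/-- Tensoring a short exact sequence if at each point the quotient or the tensor factor is flat. -/
theorem shortExact_tensor_loc {S : ShortComplex X.Modules} (hS : S.ShortExact) (G : X.Modules)
    (h : ∀ x, Module.Flat (X.presheaf.stalk x) (S.X₃.presheaf.stalk x) ∨
      Module.Flat (X.presheaf.stalk x) (G.presheaf.stalk x)) :
    (S.map (DCoh.tensorBi.obj G)).ShortExact := by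
  rw [(jointlyReflectIsos X).shortExact_iff]
  intro x
  have h1 : (S.map (stalkF x)).ShortExact := by
    have := hS.mono_f
    have := hS.epi_g
    exact hS.map (stalkF x)
  refine (ShortComplex.shortExact_iff_of_iso (mapTensorStalkIso' S G x)).2 ?_
  rcases h x with h3 | h3
  · have h3' : Module.Flat (X.presheaf.stalk x) (S.map (stalkF x)).X₃ := h3
    have h4 := shortExact_tensorRight h1 ((stalkF x).obj G)
    exact (ShortComplex.shortExact_iff_of_iso ((S.map (stalkF x)).mapNatIso
      (BraidedCategory.tensorLeftIsoTensorRight ((stalkF x).obj G)))).2 h4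
  · have : Module.Flat (X.presheaf.stalk x) ((stalkF x).obj G) := h3
    exact
      { exact := (ShortComplex.ShortExact.moduleCat_exact_iff_function_exact _).2
          (lTensor_exact _ (ex h1) (surj h1))
        mono_f := (ModuleCat.mono_iff_injective _).2
          (Module.Flat.lTensor_preserves_injective_linearMap _ (inj h1))
        epi_g := (ModuleCat.epi_iff_surjective _).2 (LinearMap.lTensor_surjective _ (surj h1)) }

theorem isCoh_tensor {F G : X.Modules} (hF : Coh.IsCoh F) (hG : Coh.IsCoh G) : Coh.IsCoh (CohB1.tensorMod F G) := by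
  have := hF.1
  have := hG.1
  exact ⟨(S2297.result F G).1, (S2297.result F G).2 hF.2 hG.2⟩

/-- The stalk of a tensor product. -/
noncomputable def stalkTensor (F G : X.Modules) (x : X) :
    (CohB1.tensorMod F G).presheaf.stalk x ≃ₗ[X.presheaf.stalk x]
      TensorProduct (X.presheaf.stalk x) (F.presheaf.stalk x) (G.presheaf.stalk x) :=
  (tensorStalkIso F G x).toLinearEquiv

theorem subsingleton_stalk_tensor (F : X.Modules) {G : X.Modules} {x : X} (h : Subsingleton (G.presheaf.stalk x)) :
    Subsingleton ((CohB1.tensorMod F G).presheaf.stalk x) := by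
  have h1 : Subsingleton (TensorProduct (X.presheaf.stalk x) (F.presheaf.stalk x) (G.presheaf.stalk x)) := by
    refine ⟨fun a b => ?_⟩
    have h2 : ∀ c : TensorProduct (X.presheaf.stalk x) (F.presheaf.stalk x) (G.presheaf.stalk x), c = 0 := by
      intro c
      induction c with
      | zero => rfl
      | tmul p q => rw [Subsingleton.elim q 0, TensorProduct.tmul_zero]
      | add p q hp hq => rw [hp, hq, add_zero]
    rw [h2 a, h2 b]
  exact (stalkTensor F G x).injective.subsingleton

theorem length_stalk_tensor {F : X.Modules} (G : X.Modules) {x : X} (h : Triv F x) :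
    Module.length (X.presheaf.stalk x) ((CohB1.tensorMod F G).presheaf.stalk x) =
      Module.length (X.presheaf.stalk x) (G.presheaf.stalk x) := by
  obtain ⟨e⟩ := nonempty_equiv h
  exact ((stalkTensor F G x).trans ((TensorProduct.congr e.symm (LinearEquiv.refl _ _)).trans
    (TensorProduct.lid _ _))).length_eq

variable (k : Type u) [Field k] [X.Over (Spec (CommRingCat.of k))] [IsProper (X ↘ Spec (CommRingCat.of k))]

/-- Twisting a module of finite support by a module which is trivial on the support. -/
theorem euler_tensor_of_finite {L T : X.Modules} (hL : Coh.IsCoh L) (hT : Coh.IsCoh T) {S : Set X} (hS : S.Finite)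
    (hc : ∀ x ∈ S, IsClosed ({x} : Set X)) (h0 : ∀ x ∉ S, Subsingleton (T.presheaf.stalk x))
    (htr : ∀ x ∈ S, Triv L x) : Curv2.euler k X (CohB1.tensorMod L T) = Curv2.euler k X T := by
  have hfin : ∀ x ∈ S, ((X ↘ Spec (CommRingCat.of k)).residueFieldMap x).hom.Finite := fun x hx =>
    K420.LenEuler.residueFieldMap_finite _ x (hc x hx)
  rw [CycB.DegSky.euler_eq_sum k X (CohB1.tensorMod L T) (isCoh_tensor hL hT) hS hc
    (fun x hx => subsingleton_stalk_tensor L (h0 x hx)) hfin,
    CycB.DegSky.euler_eq_sum k X T hT hS hc h0 hfin]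
  refine Finset.sum_congr rfl fun x hx => ?_
  rw [length_stalk_tensor T (htr x (hS.mem_toFinset.1 hx))]

/-- Additivity of the degree when one of the two modules is trivial at each point. -/
theorem deg_tensor [IsReduced X] (hdim : topologicalKrullDim X ≤ 1) {L M : X.Modules} (hL : Coh.IsCoh L)
    (hM : Coh.IsCoh M)
    (hLr : ∀ ξ : X, IsGen ξ → Module.finrank (X.presheaf.stalk ξ) (L.presheaf.stalk ξ) = 1)
    (hMr : ∀ ξ : X, IsGen ξ → Module.finrank (X.presheaf.stalk ξ) (M.presheaf.stalk ξ) = 1)
    (hLM : ∀ x, Triv L x ∨ Triv M x) :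
    Curv2.deg k X (CohB1.tensorMod L M) 1 = Curv2.deg k X L 1 + Curv2.deg k X M 1 := by
  have : IsNoetherian X := Fga.SnapperTwist.isNoetherian_of_proper k X
  let S : Set X := {x | ¬ Triv M x}
  have hS : S.Finite := finite_notTriv hdim hM hMr
  have hc : ∀ s ∈ S, IsClosed ({s} : Set X) := fun s hs => isClosed_of_not_isGen hdim (not_isGen hM hMr hs)
  have hw : ∀ s : S, ∃ w : M.presheaf.stalk s.1, ∀ p ∈ minimalPrimes (X.presheaf.stalk s.1), RkOne.NZ p w :=
    fun s => RkOne.exists_gen (NodeHyp.rkOne_of_gen hM.1 hMr s.1)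
  choose w hw using hw
  obtain ⟨M', i, hi, hM', h1, h2⟩ := exists_invertible_sub hdim hM hMr hS hc (fun x hx => not_not.1 hx) w hw
  have hM'c : Coh.IsCoh M' := CycB.DegCurve.isCoh_of_isInvertible hM'
  let T := cokernel i
  let SC : ShortComplex X.Modules := ShortComplex.mk i (cokernel.π i) (cokernel.condition i)
  have hSC : SC.ShortExact := { exact := ShortComplex.exact_cokernel i }
  have hT : Coh.IsCoh T := CycB.CohProp.isCoh_cokernel i hM'c hM
  have hT0 : ∀ x ∉ S, Subsingleton (T.presheaf.stalk x) := fun x hx =>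
    CycB.DenomSheaf.subsingleton_stalk_cokernel i x (h2 x hx)
  have hSC2 := shortExact_tensor_loc hSC L fun x => by
    by_cases hx : x ∈ S
    · right
      obtain ⟨e⟩ := nonempty_equiv ((hLM x).resolve_right hx)
      exact Module.Flat.of_linearEquiv e.symm
    · left
      have := hT0 x hx
      change Module.Flat _ (T.presheaf.stalk x)
      infer_instance
  have e1 := S1524.result k X SC hSC hM'c hM hT
  have e2 := S1524.result k X _ hSC2 (isCoh_tensor hL hM'c) (isCoh_tensor hL hM) (isCoh_tensor hL hT)
  have e3 := euler_tensor_of_finite k hL hT hS hc hT0 fun x hx => (hLM x).resolve_right hx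
  have e4 := K77.TF.Psi_total k (r := 1) (E := M') (Ega2.QCohLocal.isFinLocFreeOfRank_one_iff.2 hM') hdim hL
    fun ξ hξ => (nonempty_equiv (triv_of_isGen hL hξ (hLr ξ hξ))).map LinearEquiv.symm
  have e5 : Curv2.euler k X (CohB1.tensorMod L M') = K77.TF.Psi k M' L :=
    VarietyA.DegRank.euler_iso k ((Dcoh.TMod.braidIso L).app M')
  change Curv2.euler k X (CohB1.tensorMod L M) = Curv2.euler k X (CohB1.tensorMod L M') +
    Curv2.euler k X (CohB1.tensorMod L T) at e2
  change Curv2.euler k X M = Curv2.euler k X M' + Curv2.euler k X T at e1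
  unfold Curv2.deg at e4 ⊢
  rw [e2, e1, e3, e5, e4]
  push_cast
  ring

end K321.TFDeg
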