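import Groth.Agent.Curves.K321.IdealPts
import Groth.Agent.Curves.K321.PtInv
import Groth.Agent.Curves.K321.BranchGenus
import Groth.Agent.TFNodal.K977.NodeNorm
import Groth.Agent.CurvesB.NodeSub
import Groth.Agent.Grpsch.PicGrp

/-!
# Torsion-free modules of rank one on a nodal curve
-/

set_option autoImplicit false
universe u

open CategoryTheory CategoryTheory.Limits AlgebraicGeometry TopologicalSpace Opposite IsLocalRing

namespace K321.TFRank

open Groth.Agent Groth.Agent.CycB.StalkExact TrivLoc Groth.Agent.CurvesB.SubH1 ContrStalk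

/-- A torsion-free module of rank one over a discrete valuation ring is free of rank one. -/
theorem equiv_of_dvr {A : Type u} [CommRing A] [IsDomain A] [IsDiscreteValuationRing A] {N : Type u} [AddCommGroup N]
    [Module A N] [Module.Finite A N] [Module.IsTorsionFree A N]
    (hN : ∀ p ∈ minimalPrimes A, RkOne.RkOne N p) : Nonempty (A ≃ₗ[A] N) := by
  have hbot : (⊥ : Ideal A) ∈ minimalPrimes A := by
    rw [IsDomain.minimalPrimes_eq_singleton_bot]
    rfl
  obtain ⟨⟨m, hm⟩, h2⟩ := hN ⊥ hbot
  have hfree : Module.Free A N := inferInstance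
  let b := Module.finBasis A N
  have h1 : Module.finrank A N = 1 := by
    have h3 : Module.finrank A N ≠ 0 := fun h => by
      have : Subsingleton N := (Module.finrank_eq_zero_iff_of_free A N).1 h
      exact hm 1 (by rw [Ideal.mem_bot]; exact one_ne_zero) (Subsingleton.elim _ _)
    by_contra h4
    have h5 : 1 < Module.finrank A N := by omega
    let i : Fin (Module.finrank A N) := ⟨0, by omega⟩
    let j : Fin (Module.finrank A N) := ⟨1, h5⟩
    have hij : i ≠ j := by simp [i, j, Fin.ext_iff]
    obtain ⟨c, hc, d, hd⟩ := h2 (b i) (b j) (fun c hc h0 => by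
      have h6 := congrArg (fun v => b.repr v i) h0
      simp only [map_smul, Finsupp.smul_apply, Module.Basis.repr_self, Finsupp.single_eq_same, smul_eq_mul, mul_one,
        map_zero, Finsupp.zero_apply] at h6
      exact hc (by rw [Ideal.mem_bot]; exact h6))
    have h6 := congrArg (fun v => b.repr v j) hd
    simp only [map_smul, Finsupp.smul_apply, Module.Basis.repr_self, Finsupp.single_eq_same, smul_eq_mul, mul_one,
      Finsupp.single_eq_of_ne hij.symm, mul_zero] at h6
    exact hc (by rw [Ideal.mem_bot]; exact h6)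
  exact ⟨LinearEquiv.ofFinrankEq _ _ (by rw [h1, Module.finrank_self])⟩

variable (k : Type u) [Field k] [IsAlgClosed k] (X : Scheme.{u}) [X.Over (Spec (CommRingCat.of k))]
  [IsProper (X ↘ (Spec (CommRingCat.of k)))]
  (hequi : ∀ Z ∈ irreducibleComponents (X : Type u), topologicalKrullDim Z = 1) (hX : Curv2.AtWorstNodal k X)

include hequi hX

/-- The local structure at the points where the module is not trivial. -/
theorem exists_local (L : X.Modules) (hLc : Coh.IsCoh L) (hLt : TorSh.IsTorsionFree L)
    (hr : ∀ ξ : X, IsGen ξ → Module.finrank (X.presheaf.stalk ξ) (L.presheaf.stalk ξ) = 1)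
    (s : X) (hs : ¬ Triv L s) : ∃ (w : L.presheaf.stalk s) (t : X.presheaf.stalk s),
      (∀ a : X.presheaf.stalk s, a • w = 0 → a = 0) ∧ t ∈ nonZeroDivisors (X.presheaf.stalk s) ∧
      (∀ n : L.presheaf.stalk s, ∃ a ∈ maximalIdeal (X.presheaf.stalk s), t • n = a • w) ∧
      ∀ a ∈ maximalIdeal (X.presheaf.stalk s), ∃ n : L.presheaf.stalk s, a • w = t • n := by
  have hred := K977.NodeNorm.isReduced k X hX
  have hNX : IsNoetherian X := Fga.SnapperTwist.isNoetherian_of_proper k X
  have hdim : topologicalKrullDim X ≤ 1 := by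
    rw [VarietyB.DimTop.topologicalKrullDim_eq_iSup_irreducibleComponents]
    exact iSup_le fun Z => (hequi Z.1 Z.2).le
  have hsg := not_isGen hLc hr hs
  have hsc := isClosed_of_not_isGen hdim hsg
  have hnf : ¬ IsField (X.presheaf.stalk s) := CurvesB.NodeSub.not_isField_stalk hequi s hsc
  have hle : ringKrullDim (X.presheaf.stalk s) ≤ 1 := (CurvesB.DimPts.ringKrullDim_stalk_le s).trans hdim
  have hfin := CycB.CohStalk.finite_stalk L hLc s
  have htf := hLt s
  have hrk := NodeHyp.rkOne_of_gen hLc.1 hr s
  rcases hX s hsc with ⟨U, hU, hsm⟩ | hnode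
  · exfalso
    have hreg : IsRegularLocalRing (X.presheaf.stalk s) :=
      CurvesB.NodeSch2.isRegularLocalRing_of_smooth_openImmersion k U.ι ⟨s, hU⟩
    have hdom : IsDomain (X.presheaf.stalk s) := CalgA.RegBasic.isDomain _
    have hdvr := PtInv.isDiscreteValuationRing (X.presheaf.stalk s) hnf hle
    obtain ⟨e⟩ := equiv_of_dvr hrk
    exact hs (triv_of_equiv hLc e)
  · have hdim1 : ringKrullDim (X.presheaf.stalk s) = 1 := by
      refine le_antisymm hle (not_lt.1 fun hlt => hnf ?_)
      have h0 : ringKrullDim (X.presheaf.stalk s) ≤ 0 := Order.le_of_lt_succ hlt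
      have : Ring.KrullDimLE 0 (X.presheaf.stalk s) := by
        rw [Ring.krullDimLE_iff]
        exact h0
      exact Ring.KrullDimLE.isField_of_isReduced
    have hsn := Sga7.H598.SNNode.sn_of_isNode k X s hnode
    have hna := BranchGenus.isNagata_stalk k X s
    have hH := NodeHyp.hyp hna hdim1 hsn
    have := K421.NormCl.finite_cl _ hna
    have hnt : Nontrivial (K421.NormCl.Cl (X.presheaf.stalk s)) :=
      (K421.NormCl.injective_cl (X.presheaf.stalk s)).nontrivial
    have hlen := hH.length_quotient (K977.NodeLen.length_eq_two (K977.NodeNorm.nodeLike k X hnode))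
    let := Curv2.stalkAlgebra k X s
    have hreg : ∀ f ∈ nonZeroDivisors (X.presheaf.stalk s), ∀ n : L.presheaf.stalk s, f • n = 0 → n = 0 :=
      fun f hf n hn => (htf.isSMulRegular (isRegular_iff_mem_nonZeroDivisors.2 hf)) (by
        change f • n = f • 0
        rw [hn, smul_zero])
    obtain ⟨w, hw, hw'⟩ := NodeIdeal.exists_generator hH hlen k hreg hrk
    have hE : ∃ E : L.presheaf.stalk s ≃ₗ[X.presheaf.stalk s] K421.NormCl.Cl (X.presheaf.stalk s), E w = 1 := by
      rcases hw' with h | h
      · exfalso
        let g := LinearMap.toSpanSingleton (X.presheaf.stalk s) (L.presheaf.stalk s) w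
        have hg : Function.Bijective g := by
          constructor
          · rw [injective_iff_map_eq_zero]
            exact fun a ha => hw a ha
          · rw [← LinearMap.range_eq_top, LinearMap.range_toSpanSingleton, h]
        exact hs (triv_of_equiv hLc (LinearEquiv.ofBijective g hg))
      · exact h
    obtain ⟨E, hE⟩ := hE
    obtain ⟨t, -, ht, h⟩ := NodeIdeal.exists_comparison hH
    obtain ⟨h1, h2⟩ := h (L.presheaf.stalk s) w E hE
    exact ⟨w, t, hw, ht, h1, h2⟩

/-- A torsion-free module of rank one on a nodal curve is the ideal of its singular points twisted by an invertible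
module. -/
theorem main (L : X.Modules) (hLc : Coh.IsCoh L) (hLt : TorSh.IsTorsionFree L)
    (hr : ∀ ξ : X, IsGen ξ → Module.finrank (X.presheaf.stalk ξ) (L.presheaf.stalk ξ) = 1) :
    ∃ M : X.Modules, PicF.IsInvertible M ∧ Nonempty (L ≅ CohB1.tensorMod (ClSub.idealMod
      (Scheme.IdealSheafData.vanishingIdeal ⟨closure {x : X | ¬ Triv L x}, isClosed_closure⟩)) M) := by
  have hred := K977.NodeNorm.isReduced k X hX
  have hNX : IsNoetherian X := Fga.SnapperTwist.isNoetherian_of_proper k X
  have hdim : topologicalKrullDim X ≤ 1 := by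
    rw [VarietyB.DimTop.topologicalKrullDim_eq_iSup_irreducibleComponents]
    exact iSup_le fun Z => (hequi Z.1 Z.2).le
  let S : Set X := {x | ¬ Triv L x}
  have hS : S.Finite := finite_notTriv hdim hLc hr
  have hScl : IsClosed S := isClosed_notTriv L
  have hc : ∀ s ∈ S, IsClosed ({s} : Set X) := fun s hs => isClosed_of_not_isGen hdim (not_isGen hLc hr hs)
  choose w t hw ht h1 h2 using fun s : S => exists_local k X hequi hX L hLc hLt hr s.1 s.2
  -- an invertible submodule of `L`
  obtain ⟨M', i, hi, hM', hi1, hi2⟩ := exists_invertible_sub hdim hLc hr hS hc (fun x hx => not_not.1 hx) w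
    (fun s p hp c hc h0 => hc (hw s c h0 ▸ p.zero_mem))
  -- an invertible ideal
  have hOc : Coh.IsCoh (Coh.structureModule X) := Fdesc.StructMod.isCoh_structureModule X
  obtain ⟨P, j, hj, hP, hj1, hj2⟩ := exists_invertible_sub hdim hOc (fun ξ _ => by
      rw [← (Fdesc.StructMod.stalkEquiv ξ).finrank_eq, Module.finrank_self]) hS hc
    (fun x _ => K475.Rank1.isInvertible_structureModule X x) (fun s => Fdesc.StructMod.stalkEquiv s.1 (t s))
    (fun s p hp c hc h0 => by
      rw [← map_smul, map_eq_zero_iff _ (Fdesc.StructMod.stalkEquiv s.1).injective, smul_eq_mul] at h0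
      exact hc ((mem_nonZeroDivisors_iff_right.1 (ht s) c h0) ▸ p.zero_mem))
  let J : X.IdealSheafData := Scheme.IdealSheafData.vanishingIdeal ⟨closure S, isClosed_closure⟩
  have hJr : Set.range J.subschemeι = S := IdealPts.range_vanishing hScl
  have hJred : IsReduced J.subscheme := Ega1.ReducedSub.isReduced_subscheme_vanishingIdeal _
  have hJc : ∀ x ∈ Set.range J.subschemeι, IsClosed ({x} : Set X) := fun x hx => hc x (hJr ▸ hx)
  have hιmono : Mono (ClSub.idealModι J) := (VarietyB.DegCartier.idealSeq_shortExact J).mono_f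
  let a : CohB1.tensorMod M' (ClSub.idealMod J) ⟶ L := CurvesC.TwoSecOf968.contr (ClSub.idealModι J) M' ≫ i
  let b : CohB1.tensorMod L P ⟶ L := CurvesC.TwoSecOf968.contr j L
  have ha : Mono a := VarietyA.StalkCrit.mono_of_stalks _ fun x => by
    intro u v huv
    change stalkLin (_ ≫ i) x u = stalkLin (_ ≫ i) x v at huv
    rw [K77.TF.stalkLin_comp_apply, K77.TF.stalkLin_comp_apply] at huv
    exact injective_contr_of_triv _ (hM' x) (stalkLin_injective _ x) (stalkLin_injective i x huv)
  have hb : Mono b := VarietyA.StalkCrit.mono_of_stalks _ fun x =>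
    injective_contr_of_regular j (hP x) (stalkLin_injective _ x) fun f hf n hn =>
      ((hLt x).isSMulRegular (isRegular_iff_mem_nonZeroDivisors.2 hf)) (by
        change f • n = f • 0
        rw [hn, smul_zero])
  have hra : ∀ x, LinearMap.range (stalkLin a x) = LinearMap.range (cst (ClSub.idealModι J) x) •
      LinearMap.range (stalkLin i x) := by
    intro x
    have e1 : stalkLin a x = stalkLin i x ∘ₗ stalkLin (CurvesC.TwoSecOf968.contr (ClSub.idealModι J) M') x :=
      LinearMap.ext fun u => K77.TF.stalkLin_comp_apply _ _ x u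
    have e2 : LinearMap.range (stalkLin (CurvesC.TwoSecOf968.contr (ClSub.idealModι J) M') x) =
        LinearMap.range (cst (ClSub.idealModι J) x) • ⊤ := Submodule.ext fun m => mem_range_contr _ _ x m
    rw [e1, LinearMap.range_comp, e2, Submodule.map_smul'', Submodule.map_top]
  have hrb : ∀ x, LinearMap.range (stalkLin b x) = LinearMap.range (cst j x) • ⊤ := fun x =>
    Submodule.ext fun m => mem_range_contr _ _ x m
  have hrange : ∀ x, LinearMap.range (stalkLin a x) = LinearMap.range (stalkLin b x) := by
    intro x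
    rw [hra, hrb]
    by_cases hx : x ∈ S
    · let s : S := ⟨x, hx⟩
      have e1 : LinearMap.range (cst (ClSub.idealModι J) s.1) = maximalIdeal (X.presheaf.stalk s.1) :=
        IdealPts.range_cst J hJred hJc (hJr.symm ▸ hx)
      have e2 : LinearMap.range (cst j s.1) = Ideal.span {t s} := by
        change LinearMap.range ((Fdesc.StructMod.stalkEquiv s.1).symm.toLinearMap ∘ₗ stalkLin j s.1) = _
        rw [LinearMap.range_comp, hj1 s, Submodule.map_span, Set.image_singleton]
        congr 2
        exact (Fdesc.StructMod.stalkEquiv s.1).symm_apply_apply _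
      change LinearMap.range (cst (ClSub.idealModι J) s.1) • LinearMap.range (stalkLin i s.1) =
        LinearMap.range (cst j s.1) • (⊤ : Submodule _ (L.presheaf.stalk s.1))
      rw [e1, e2, hi1 s]
      ext m
      rw [Submodule.mem_smul_span_singleton, Submodule.ideal_span_singleton_smul,
        Submodule.mem_smul_pointwise_iff_exists]
      constructor
      · rintro ⟨y, hy, rfl⟩
        obtain ⟨n, hn⟩ := h2 s y hy
        exact ⟨n, trivial, hn.symm⟩
      · rintro ⟨n, -, rfl⟩
        obtain ⟨y, hy, hyn⟩ := h1 s n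
        exact ⟨y, hy, hyn.symm⟩
    · rw [IdealPts.range_cst_of_not_mem J (by rw [hJr]; exact hx), LinearMap.range_eq_top.2 (hi2 x hx)]
      have e2 : LinearMap.range (cst j x) = ⊤ := by
        rw [LinearMap.range_eq_top]
        exact (Fdesc.StructMod.stalkEquiv x).symm.surjective.comp (hj2 x hx)
      rw [e2]
  obtain ⟨c, hc1⟩ := K77.TF.exists_lift b a fun x s => by
    have h3 : stalkLin a x s ∈ LinearMap.range (stalkLin b x) := hrange x ▸ ⟨s, rfl⟩
    exact h3
  obtain ⟨d, hd1⟩ := K77.TF.exists_lift a b fun x s => by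
    have h3 : stalkLin b x s ∈ LinearMap.range (stalkLin a x) := (hrange x).symm ▸ ⟨s, rfl⟩
    exact h3
  let e : CohB1.tensorMod M' (ClSub.idealMod J) ≅ CohB1.tensorMod L P :=
    { hom := c
      inv := d
      hom_inv_id := by rw [← cancel_mono a, Category.assoc, hd1, hc1, Category.id_comp]
      inv_hom_id := by rw [← cancel_mono b, Category.assoc, hc1, hd1, Category.id_comp] }
  obtain ⟨Q, hQ, ⟨eQ⟩⟩ := Grpsch.PicGrp.exists_inverse hP
  refine ⟨CohB1.tensorMod M' Q, Fdesc.LocGen.isInvertible_tensorMod hM' hQ, ?_⟩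
  open Fga.PicMon in
  rw [← mc_eq_iff, mc_tensor, mc_tensor]
  have h3 : mc M' * mc (ClSub.idealMod J) = mc L * mc P := mc_eq e
  have h4 : mc P * mc Q = 1 := mc_eq eQ
  change mc L = mc (ClSub.idealMod J) * (mc M' * mc Q)
  rw [← mul_assoc, mul_comm (mc (ClSub.idealMod J)), h3, mul_assoc, h4, mul_one]

end K321.TFRank
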