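import Groth.Agent.Fixpt.H903.TrLin
import Mathlib.RingTheory.Trace.Basic
import Mathlib.RingTheory.Ideal.Quotient.Operations
import Mathlib.RingTheory.Ideal.Norm.AbsNorm
import Mathlib.RingTheory.DedekindDomain.Different

/-!
# The trace of `B / P ^ e` over `A / p`

* `trace_eq_mul`: for a finite algebra `R` over a field `κ` and an ideal `m` with `m ^ e = 0` whose
  successive quotients `m ^ n / m ^ (n + 1)` are all isomorphic to `R / m` through multiplication by one element,
  `Tr_{R/κ}(x) = e * Tr_{(R/m)/κ}(x mod m)`.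
* `pow_dvd_differentIdeal_iff`: for a finite extension `A → B` of Dedekind domains with separable extension of
  fraction fields, and `P` a maximal ideal of `B` over `p ≠ 0` with `p B = P ^ e * Q`, `Q` prime to `P`, the power
  `P ^ e` divides the different iff `e = 0` in `A / p` or `B / P` is inseparable over `A / p`.
-/

set_option autoImplicit false

namespace K321.TameTrace

open Groth.Agent.Fixpt.H903.TrLin

section abstract

variable {κ R : Type*} [Field κ] [CommRing R] [Algebra κ R] [Module.Finite κ R]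

theorem trace_quot_pow (m : Ideal R) (e : ℕ)
    (h : ∀ n < e, ∃ a ∈ m ^ n, (∀ c ∈ m ^ n, ∃ d, c - a * d ∈ m ^ (n + 1)) ∧
      (∀ b, a * b ∈ m ^ (n + 1) ↔ b ∈ m)) (x : R) :
    ∀ n ≤ e, Algebra.trace κ (R ⧸ m ^ n) (Ideal.Quotient.mk _ x) =
      n * Algebra.trace κ (R ⧸ m) (Ideal.Quotient.mk _ x) := by
  intro n
  induction n with
  | zero =>
    intro _
    have : Subsingleton (R ⧸ m ^ 0) := by
      rw [pow_zero]; exact Ideal.Quotient.subsingleton_iff.2 Ideal.one_eq_top
    rw [Subsingleton.elim (Ideal.Quotient.mk (m ^ 0) x) 0]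
    simp
  | succ n ih =>
    intro hn
    obtain ⟨a, ha, h1, h2⟩ := h n hn
    let f₀ : R →ₗ[κ] R ⧸ m ^ (n + 1) :=
      (Ideal.Quotient.mkₐ κ (m ^ (n + 1))).toLinearMap ∘ₗ LinearMap.mulLeft κ a
    have hf₀ : ∀ b, f₀ b = Ideal.Quotient.mk (m ^ (n + 1)) (a * b) := fun b => rfl
    let f : (R ⧸ m) →ₗ[κ] R ⧸ m ^ (n + 1) :=
      { toFun := Quotient.lift f₀ (by
          intro b c hbc
          have hbc' : b - c ∈ m := (Submodule.quotientRel_def _).1 hbc
          rw [hf₀, hf₀, Ideal.Quotient.eq, ← mul_sub]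
          exact (h2 _).2 hbc')
        map_add' := by
          rintro ⟨b⟩ ⟨c⟩
          exact f₀.map_add b c
        map_smul' := by
          rintro r ⟨b⟩
          exact f₀.map_smul r b }
    have hf : ∀ b, f (Ideal.Quotient.mk m b) = Ideal.Quotient.mk (m ^ (n + 1)) (a * b) := fun b => rfl
    let g : (R ⧸ m ^ (n + 1)) →ₗ[κ] R ⧸ m ^ n :=
      (Ideal.Quotient.factorₐ κ (Ideal.pow_le_pow_right n.le_succ)).toLinearMap
    have hg : ∀ b, g (Ideal.Quotient.mk _ b) = Ideal.Quotient.mk _ b := fun b => rfl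
    have inj : Function.Injective f := by
      rw [injective_iff_map_eq_zero]
      intro b hb
      obtain ⟨b, rfl⟩ := Ideal.Quotient.mk_surjective b
      rw [hf, Ideal.Quotient.eq_zero_iff_mem, h2] at hb
      exact Ideal.Quotient.eq_zero_iff_mem.2 hb
    have surj : Function.Surjective g := by
      intro b
      obtain ⟨b, rfl⟩ := Ideal.Quotient.mk_surjective b
      exact ⟨Ideal.Quotient.mk _ b, hg b⟩
    have ex : Function.Exact f g := by
      intro c
      obtain ⟨c, rfl⟩ := Ideal.Quotient.mk_surjective c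
      rw [hg, Ideal.Quotient.eq_zero_iff_mem]
      constructor
      · intro hc
        obtain ⟨d, hd⟩ := h1 c hc
        refine ⟨Ideal.Quotient.mk _ d, ?_⟩
        rw [hf]
        exact (Ideal.Quotient.eq.2 hd).symm
      · rintro ⟨b, hb⟩
        obtain ⟨b, rfl⟩ := Ideal.Quotient.mk_surjective b
        rw [hf, Ideal.Quotient.eq] at hb
        have := Ideal.sub_mem _ (Ideal.mul_mem_right b _ ha) (Ideal.pow_le_pow_right n.le_succ hb)
        simpa using this
    have key := trace_of_exact f g inj surj ex (Algebra.lmul κ _ (Ideal.Quotient.mk _ x))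
      (Algebra.lmul κ _ (Ideal.Quotient.mk _ x)) (Algebra.lmul κ _ (Ideal.Quotient.mk _ x))
      (by
        intro b
        obtain ⟨b, rfl⟩ := Ideal.Quotient.mk_surjective b
        change Ideal.Quotient.mk _ x * f (Ideal.Quotient.mk m b) =
          f (Ideal.Quotient.mk m x * Ideal.Quotient.mk m b)
        rw [hf, ← map_mul, ← map_mul, hf, mul_left_comm])
      (by
        intro b
        obtain ⟨b, rfl⟩ := Ideal.Quotient.mk_surjective b
        change g (Ideal.Quotient.mk _ x * Ideal.Quotient.mk _ b) =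
          Ideal.Quotient.mk _ x * g (Ideal.Quotient.mk _ b)
        rw [← map_mul, hg, hg, ← map_mul])
    rw [Algebra.trace_apply, key, ← Algebra.trace_apply, ← Algebra.trace_apply,
      ih (Nat.le_of_succ_le hn)]
    push_cast
    ring

theorem trace_eq_mul (m : Ideal R) (e : ℕ)
    (h : ∀ n < e, ∃ a ∈ m ^ n, (∀ c ∈ m ^ n, ∃ d, c - a * d ∈ m ^ (n + 1)) ∧
      (∀ b, a * b ∈ m ^ (n + 1) ↔ b ∈ m)) (he : m ^ e = ⊥) (x : R) :
    Algebra.trace κ R x = e * Algebra.trace κ (R ⧸ m) (Ideal.Quotient.mk _ x) := by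
  rw [← trace_quot_pow m e h x e le_rfl]
  let E : R ≃ₐ[κ] (R ⧸ m ^ e) :=
    AlgEquiv.ofBijective (Ideal.Quotient.mkₐ κ (m ^ e)) ⟨by
      rw [injective_iff_map_eq_zero]
      intro b hb
      have : b ∈ m ^ e := Ideal.Quotient.eq_zero_iff_mem.1 hb
      rw [he] at this
      exact this, Ideal.Quotient.mk_surjective⟩
  exact (Algebra.trace_eq_of_algEquiv E x).symm

end abstract

section dedekind

variable {B : Type*} [CommRing B] [IsDedekindDomain B]

/-- The trace of multiplication by `x` on `B / P ^ e` is `e` times its trace on `B / P`. -/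
theorem trace_quotient_prime_pow {κ : Type*} [Field κ] (P : Ideal B) [P.IsPrime] (hP : P ≠ ⊥) (e : ℕ)
    (he : e ≠ 0) [Algebra κ (B ⧸ P ^ e)] [Module.Finite κ (B ⧸ P ^ e)] [Algebra κ (B ⧸ P)]
    (hcomp : ∀ c : κ, Ideal.Quotient.factor (Ideal.pow_le_self he) (algebraMap κ (B ⧸ P ^ e) c) =
      algebraMap κ (B ⧸ P) c) (x : B) :
    Algebra.trace κ (B ⧸ P ^ e) (Ideal.Quotient.mk _ x) = e * Algebra.trace κ (B ⧸ P) (Ideal.Quotient.mk _ x) := by
  let π : B →+* B ⧸ P ^ e := Ideal.Quotient.mk _
  have hπ : Function.Surjective π := Ideal.Quotient.mk_surjective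
  have mem : ∀ n ≤ e, ∀ b, π b ∈ (P.map π) ^ n ↔ b ∈ P ^ n := by
    intro n hn b
    rw [← Ideal.map_pow]
    constructor
    · intro h
      obtain ⟨c, hc, hcb⟩ := (Ideal.mem_map_iff_of_surjective π hπ).1 h
      have : c - b ∈ P ^ e := Ideal.Quotient.eq.1 hcb
      have := Ideal.sub_mem _ hc (Ideal.pow_le_pow_right hn this)
      simpa using this
    · exact fun h => Ideal.mem_map_of_mem _ h
  have key := trace_eq_mul (κ := κ) (P.map π) e (by
    intro n hn
    obtain ⟨a, ha, ha'⟩ := Ideal.exists_mem_pow_notMem_pow_succ P hP (Ideal.IsPrime.ne_top ‹_›) n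
    refine ⟨π a, (mem n hn.le a).2 ha, ?_, ?_⟩
    · intro c hc
      obtain ⟨c, rfl⟩ := hπ c
      obtain ⟨d, r, hr, hd⟩ := Ideal.exists_mul_add_mem_pow_succ hP a c ha ha' ((mem n hn.le c).1 hc)
      refine ⟨π d, ?_⟩
      rw [← map_mul, ← map_sub, mem (n + 1) hn]
      rw [← hd]
      simpa using hr
    · intro b
      obtain ⟨b, rfl⟩ := hπ b
      rw [← map_mul, mem (n + 1) hn, ← pow_one (P.map π), mem 1 (by omega), pow_one]
      constructor
      · exact Ideal.mem_prime_of_mul_mem_pow hP ha'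
      · intro hb
        rw [pow_succ]
        exact Ideal.mul_mem_mul ha hb) (by
    rw [← Ideal.map_pow, Ideal.map_quotient_self]) (π x)
  rw [key]
  congr 1
  -- `(B / P ^ e) / (P / P ^ e) = B / P`
  have hker : RingHom.ker (Ideal.Quotient.factor (Ideal.pow_le_self he) : B ⧸ P ^ e →+* B ⧸ P) = P.map π := by
    ext c
    obtain ⟨c, rfl⟩ := hπ c
    rw [RingHom.mem_ker, ← pow_one (P.map π), mem 1 (by omega), pow_one]
    exact Ideal.Quotient.eq_zero_iff_mem
  let φ : (B ⧸ P ^ e) →ₐ[κ] B ⧸ P :=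
    { Ideal.Quotient.factor (Ideal.pow_le_self he) with commutes' := hcomp }
  let ψ : ((B ⧸ P ^ e) ⧸ P.map π) →ₐ[κ] B ⧸ P := Ideal.Quotient.liftₐ _ φ (by
    intro a ha
    rw [← hker] at ha
    exact ha)
  have hψ : Function.Bijective ψ := by
    constructor
    · rw [injective_iff_map_eq_zero]
      intro a ha
      obtain ⟨a, rfl⟩ := Ideal.Quotient.mk_surjective a
      rw [Ideal.Quotient.eq_zero_iff_mem, ← hker]
      exact ha
    · intro a
      obtain ⟨a, rfl⟩ := Ideal.Quotient.mk_surjective a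
      exact ⟨Ideal.Quotient.mk _ (π a), rfl⟩
  exact (Algebra.trace_eq_of_algEquiv (AlgEquiv.ofBijective ψ hψ) (Ideal.Quotient.mk _ (π x))).symm

end dedekind

section different

variable (A : Type*) {B : Type*} [CommRing A] [CommRing B] [Algebra A B] [IsDedekindDomain A] [IsDedekindDomain B]
  [Module.IsTorsionFree A B] [Module.Finite A B]

open nonZeroDivisors Algebra

attribute [local instance] FractionRing.liftAlgebra FractionRing.isScalarTower_liftAlgebra Ideal.Quotient.field

theorem dvd_differentIdeal_of_intTrace_mem [Algebra.IsSeparable (FractionRing A) (FractionRing B)]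
    {p : Ideal A} (hp : p ≠ ⊥) (P Q : Ideal B) (hP : P * Q = Ideal.map (algebraMap A B) p)
    (h : ∀ x ∈ Q, Algebra.intTrace A B x ∈ p) : P ∣ differentIdeal A B := by
  let K := FractionRing A
  let L := FractionRing B
  have : IsLocalization (Algebra.algebraMapSubmonoid B A⁰) L :=
    IsIntegralClosure.isLocalization _ K _ _
  have : FiniteDimensional K L := .of_isLocalization A B A⁰
  have hp' := (Ideal.map_eq_bot_iff_of_injective
    (FaithfulSMul.algebraMap_injective A B)).not.mpr hp
  have hQbot : Q ≠ ⊥ := by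
    rintro rfl
    exact hp' (by rw [← hP, Ideal.mul_bot])
  have hPbot : P ≠ ⊥ := by
    rintro rfl
    exact hp' (by rw [← hP, Ideal.bot_mul])
  have hPi : ((P :)⁻¹ : FractionalIdeal B⁰ L) = Q / p.map (algebraMap A B) := by
    apply inv_involutive.injective
    simp only [← hP, FractionalIdeal.coeIdeal_mul, inv_div, mul_div_assoc]
    rw [div_self (by simpa), mul_one, inv_inv]
  rw [Ideal.dvd_iff_le, differentialIdeal_le_iff (K := K) (L := L) hPbot, hPi,
    Submodule.map_le_iff_le_comap]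
  intro x hx
  rw [Submodule.restrictScalars_mem, FractionalIdeal.mem_coe,
    FractionalIdeal.mem_div_iff_of_ne_zero (by simpa using hp')] at hx
  rw [Submodule.mem_comap, LinearMap.coe_restrictScalars, ← FractionalIdeal.coe_one,
    ← div_self (G₀ := FractionalIdeal A⁰ K) (a := p) (by simpa using hp),
    FractionalIdeal.mem_coe, FractionalIdeal.mem_div_iff_of_ne_zero (by simpa using hp)]
  simp only [FractionalIdeal.mem_coeIdeal, forall_exists_index, and_imp,
    forall_apply_eq_imp_iff₂] at hx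
  intro y hy'
  obtain ⟨y, hy, rfl : algebraMap A K _ = _⟩ := (FractionalIdeal.mem_coeIdeal _).mp hy'
  obtain ⟨z, hz, hz'⟩ := hx _ (Ideal.mem_map_of_mem _ hy)
  have : Algebra.trace K L (algebraMap B L z) ∈ (p : FractionalIdeal A⁰ K) := by
    rw [← Algebra.algebraMap_intTrace (A := A)]
    exact ⟨intTrace A B z, h z hz, rfl⟩
  rwa [mul_comm, ← smul_eq_mul, ← map_smul, Algebra.smul_def, mul_comm,
    ← IsScalarTower.algebraMap_apply, IsScalarTower.algebraMap_apply A B L, ← hz']

/-- For `p B = P Q` with `P`, `Q` coprime, `P` divides the different iff the trace of `B / P` over `A / p`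
vanishes. Here `P` need not be prime. -/
theorem dvd_differentIdeal_iff_trace_eq_zero [Algebra.IsSeparable (FractionRing A) (FractionRing B)]
    {p : Ideal A} [p.IsMaximal] (hp : p ≠ ⊥) (P Q : Ideal B) (hPQ : IsCoprime P Q)
    (hP : P * Q = Ideal.map (algebraMap A B) p) [Algebra (A ⧸ p) (B ⧸ P)] [IsScalarTower A (A ⧸ p) (B ⧸ P)] :
    P ∣ differentIdeal A B ↔ Algebra.trace (A ⧸ p) (B ⧸ P) = 0 := by
  let : Algebra (A ⧸ p) (B ⧸ Q) := Ideal.Quotient.algebraQuotientOfLEComap (by
      rw [← Ideal.map_le_iff_le_comap, ← hP]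
      exact Ideal.mul_le_right)
  have : IsScalarTower A (A ⧸ p) (B ⧸ Q) := .of_algebraMap_eq' rfl
  have : Module.Finite (A ⧸ p) (B ⧸ Q) :=
    Module.Finite.of_restrictScalars_finite A (A ⧸ p) (B ⧸ Q)
  have : Module.Finite (A ⧸ p) (B ⧸ P) :=
    Module.Finite.of_restrictScalars_finite A (A ⧸ p) (B ⧸ P)
  let e : (B ⧸ p.map (algebraMap A B)) ≃ₐ[A ⧸ p] ((B ⧸ P) × B ⧸ Q) :=
    { __ := (Ideal.quotEquivOfEq hP.symm).trans (Ideal.quotientMulEquivQuotientProd P Q hPQ),
      commutes' := Quotient.ind fun a ↦ by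
        refine Prod.ext ?_ rfl
        change Ideal.Quotient.mk P (algebraMap A B a) = algebraMap (A ⧸ p) (B ⧸ P) (algebraMap A (A ⧸ p) a)
        rw [← IsScalarTower.algebraMap_apply]
        rfl }
  constructor
  · intro hdvd
    by_contra hne
    obtain ⟨x, hx⟩ : ∃ x, Algebra.trace (A ⧸ p) (B ⧸ P) x ≠ 0 := by
      by_contra hcon
      push Not at hcon
      exact hne (LinearMap.ext hcon)
    obtain ⟨y, hy⟩ := Ideal.Quotient.mk_surjective (e.symm (x, 0))
    refine not_dvd_differentIdeal_of_intTrace_not_mem A P Q hP y ?_ ?_ hdvd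
    · have := congr((e $hy).2)
      simp at this
      simpa [e, Ideal.Quotient.eq_zero_iff_mem] using this
    · rw [← Ideal.Quotient.eq_zero_iff_mem, ← Algebra.trace_quotient_eq_of_isDedekindDomain,
        hy, Algebra.trace_eq_of_algEquiv, Algebra.trace_prod_apply]
      simpa
  · intro htr
    refine dvd_differentIdeal_of_intTrace_mem A hp P Q hP ?_
    intro x hx
    rw [← Ideal.Quotient.eq_zero_iff_mem, ← Algebra.trace_quotient_eq_of_isDedekindDomain]
    have hx' : (e (Ideal.Quotient.mk _ x)).2 = 0 := by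
      simpa [e, Ideal.Quotient.eq_zero_iff_mem]
    rw [← Algebra.trace_eq_of_algEquiv e, Algebra.trace_prod_apply, htr, LinearMap.zero_apply, zero_add,
      hx', map_zero]

/-- The exponent of a maximal ideal `P` over `p ≠ 0` in the different is at least `e` iff `P` is wildly ramified:
`e = 0` in `A / p` or `B / P` is inseparable over `A / p`. -/
theorem pow_dvd_differentIdeal_iff [Algebra.IsSeparable (FractionRing A) (FractionRing B)]
    {p : Ideal A} [p.IsMaximal] (hp : p ≠ ⊥) (P Q : Ideal B) [P.IsMaximal] [P.LiesOver p] (e : ℕ)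
    (hPQ : IsCoprime P Q) (hP : P ^ e * Q = Ideal.map (algebraMap A B) p) :
    P ^ e ∣ differentIdeal A B ↔ ((e : A ⧸ p) = 0 ∨ ¬ Algebra.IsSeparable (A ⧸ p) (B ⧸ P)) := by
  have hp' := (Ideal.map_eq_bot_iff_of_injective
    (FaithfulSMul.algebraMap_injective A B)).not.mpr hp
  have he : e ≠ 0 := by
    rintro rfl
    have h1 : Ideal.map (algebraMap A B) p ≤ P :=
      Ideal.map_le_iff_le_comap.2 (Ideal.LiesOver.over (P := P) (p := p)).le
    rw [pow_zero, one_mul] at hP
    rw [← hP] at h1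
    have := Ideal.isCoprime_iff_sup_eq.1 hPQ
    rw [sup_eq_left.2 h1] at this
    exact Ideal.IsPrime.ne_top inferInstance this
  have hPbot : P ≠ ⊥ := by
    rintro rfl
    rw [← Ideal.zero_eq_bot, zero_pow he, zero_mul] at hP
    exact hp' hP.symm
  have hle : p ≤ Ideal.comap (algebraMap A B) (P ^ e) := by
    rw [← Ideal.map_le_iff_le_comap, ← hP]
    exact Ideal.mul_le_left
  let : Algebra (A ⧸ p) (B ⧸ P ^ e) := Ideal.Quotient.algebraQuotientOfLEComap hle
  have : IsScalarTower A (A ⧸ p) (B ⧸ P ^ e) := .of_algebraMap_eq' rfl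
  have : Module.Finite (A ⧸ p) (B ⧸ P ^ e) :=
    Module.Finite.of_restrictScalars_finite A (A ⧸ p) (B ⧸ P ^ e)
  rw [dvd_differentIdeal_iff_trace_eq_zero A hp (P ^ e) Q (hPQ.pow_left) hP]
  let : Field (A ⧸ p) := Ideal.Quotient.field p
  have key := trace_quotient_prime_pow (κ := A ⧸ p) P hPbot e he (by
    intro c
    obtain ⟨c, rfl⟩ := Ideal.Quotient.mk_surjective c
    rfl)
  constructor
  · intro h
    by_contra hcon
    push Not at hcon
    obtain ⟨h1, h2⟩ := hcon
    let : Field (B ⧸ P) := Ideal.Quotient.field P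
    have h3 := Algebra.trace_ne_zero (A ⧸ p) (B ⧸ P)
    apply h3
    ext x
    obtain ⟨x, rfl⟩ := Ideal.Quotient.mk_surjective x
    have := key x
    rw [h, LinearMap.zero_apply] at this
    rw [LinearMap.zero_apply]
    exact (mul_eq_zero.1 this.symm).resolve_left h1
  · rintro (h | h)
    · ext x
      obtain ⟨x, rfl⟩ := Ideal.Quotient.mk_surjective x
      rw [key, h, zero_mul, LinearMap.zero_apply]
    · ext x
      obtain ⟨x, rfl⟩ := Ideal.Quotient.mk_surjective x
      let : Field (B ⧸ P) := Ideal.Quotient.field P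
      rw [key, Algebra.trace_eq_zero_of_not_isSeparable h, LinearMap.zero_apply, mul_zero, LinearMap.zero_apply]

end different

end K321.TameTrace
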