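import Groth.Agent.SDiv.K475.Rank1
import Groth.Agent.Curves.K321.NodeHyp
import Groth.Agent.Curves.K321.SubStalk
import Groth.Agent.CurvesB.OmegaInv
import Groth.Agent.CycB.DegIntegral

/-!
# The locus where a module of rank one is trivial; invertible submodules
-/

set_option autoImplicit false
universe u

open CategoryTheory CategoryTheory.Limits AlgebraicGeometry TopologicalSpace Opposite

namespace K321.TrivLoc

open Groth.Agent Groth.Agent.Dcoh.StalkRestrict Groth.Agent.CycB.StalkExact

variable {X : Scheme.{u}}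

/-- `M` is isomorphic to the structure sheaf near `x`. -/
def Triv (M : X.Modules) (x : X) : Prop :=
  ∃ U : X.Opens, x ∈ U ∧ Nonempty (M.restrict U.ι ≅ Coh.structureModule (↑U : Scheme.{u}))

theorem isOpen_triv (M : X.Modules) : IsOpen {x | Triv M x} := by
  rw [isOpen_iff_forall_mem_open]
  rintro x ⟨U, hx, h⟩
  exact ⟨U, fun y hy => ⟨U, hy, h⟩, U.2, hx⟩

theorem isClosed_notTriv (M : X.Modules) : IsClosed {x | ¬ Triv M x} :=
  ⟨by
    have h1 : {x : X | ¬ Triv M x}ᶜ = {x | Triv M x} := by
      ext x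
      simp
    rw [h1]
    exact isOpen_triv M⟩

theorem triv_of_isInvertible {M : X.Modules} (hM : PicF.IsInvertible M) (x : X) : Triv M x := hM x

theorem exists_isGen {M : X.Modules} {x : X} (h : Triv M x) : ∃ t : M.presheaf.stalk x, CycB.ModStalk.IsGen M x t := by
  obtain ⟨U, hx, ⟨e⟩⟩ := h
  let e₁ := Fdesc.StructMod.stalkEquiv (X := (U : Scheme.{u})) (pt U hx)
  have h1 : CycB.ModStalk.IsGen (Coh.structureModule (U : Scheme.{u})) (pt U hx) (e₁ 1) := by
    change Function.Bijective (fun a => a • e₁ 1)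
    have h2 : (fun a : (U : Scheme.{u}).presheaf.stalk (pt U hx) => a • e₁ 1) = e₁ := by
      funext a
      rw [← map_smul, smul_eq_mul, mul_one]
    rw [h2]
    exact e₁.bijective
  have h2 := K475.Rank1.isGen_map (pt U hx) (RefHull.stalkMapₗ e.inv (pt U hx))
    (K476.HomSh4.bijective_stalkMapₗ_of_isIso e.inv _) h1
  exact ⟨_, K475.Rank1.isGen_ρo hx h2⟩

theorem nonempty_equiv {M : X.Modules} {x : X} (h : Triv M x) :
    Nonempty (X.presheaf.stalk x ≃ₗ[X.presheaf.stalk x] M.presheaf.stalk x) := by
  obtain ⟨t, ht⟩ := exists_isGen h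
  exact ⟨K475.Rank1.genEquiv ht⟩

theorem triv_of_equiv [IsLocallyNoetherian X] {M : X.Modules} (hM : Coh.IsCoh M) {x : X}
    (e : X.presheaf.stalk x ≃ₗ[X.presheaf.stalk x] M.presheaf.stalk x) : Triv M x := by
  refine K475.Rank1.exists_isInvertible_nhd hM (t := e 1) ?_
  change Function.Bijective (fun a => a • e 1)
  have h2 : (fun a : X.presheaf.stalk x => a • e 1) = e := by
    funext a
    rw [← map_smul, smul_eq_mul, mul_one]
  rw [h2]
  exact e.bijective

open Groth.Agent.CurvesB.SubH1

/-- A coherent module of rank one on a reduced scheme is trivial at the generic points. -/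
theorem triv_of_isGen [IsReduced X] [IsLocallyNoetherian X] {M : X.Modules} (hM : Coh.IsCoh M) {ξ : X} (h : IsGen ξ)
    (hr : Module.finrank (X.presheaf.stalk ξ) (M.presheaf.stalk ξ) = 1) : Triv M ξ := by
  have hF := CurvesB.GenStalk.isField_stalk ξ h
  let := hF.toField
  have := CycB.CohStalk.finite_stalk M hM ξ
  exact triv_of_equiv hM (LinearEquiv.ofFinrankEq _ _ (by rw [hr, Module.finrank_self]))

section Dim

variable [IsReduced X] [IsNoetherian X] (hdim : topologicalKrullDim X ≤ 1) {M : X.Modules} (hM : Coh.IsCoh M)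
  (hr : ∀ ξ : X, IsGen ξ → Module.finrank (X.presheaf.stalk ξ) (M.presheaf.stalk ξ) = 1)

include hM hr in
theorem not_isGen {x : X} (hx : ¬ Triv M x) : ¬ IsGen x := fun h => hx (triv_of_isGen hM h (hr x h))

omit [IsReduced X] [AlgebraicGeometry.IsNoetherian X] in
include hdim in
theorem isClosed_of_not_isGen {x : X} (hx : ¬ IsGen x) : IsClosed ({x} : Set X) := by
  rcases dim_le_one_iff.1 hdim x with h | h
  · rw [← closure_subset_iff_isClosed]
    intro y hy
    exact h y (specializes_iff_mem_closure.2 hy)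
  · exact absurd h hx

include hdim hM hr in
theorem finite_notTriv : {x | ¬ Triv M x}.Finite :=
  CycB.DegIntegral.finite_of_isClosed_points (isClosed_notTriv M)
    (fun _ hx => isClosed_of_not_isGen hdim (not_isGen hM hr hx))

include hdim hM hr in
/-- Invertible submodules of rank one modules with prescribed generators at finitely many closed points. -/
theorem exists_invertible_sub {S : Set X} (hS : S.Finite) (hc : ∀ s ∈ S, IsClosed ({s} : Set X))
    (htriv : ∀ x ∉ S, Triv M x) (w : ∀ s : S, M.presheaf.stalk s.1)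
    (hw : ∀ s : S, ∀ p ∈ minimalPrimes (X.presheaf.stalk s.1), RkOne.NZ p (w s)) :
    ∃ (N : X.Modules) (i : N ⟶ M), Mono i ∧ PicF.IsInvertible N ∧
      (∀ s : S, LinearMap.range (stalkLin i s.1) = Submodule.span _ {w s}) ∧
      ∀ x, x ∉ S → Function.Surjective (stalkLin i x) := by
  obtain ⟨N, i, hi, hN, h1, h2⟩ := SubStalk.exists_sub hM hS hc (fun s => Submodule.span _ {w s}) (fun s m a ha =>
    RkOne.exists_pow_smul_mem (hw s) (NodeHyp.rkOne_of_gen hM.1 hr s.1)
      (fun p hp hne => NodeHyp.minimal_of_ne hdim p hp hne) m a ha)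
  refine ⟨N, i, hi, ?_, h1, h2⟩
  have key : ∀ x : X, Nonempty (X.presheaf.stalk x ≃ₗ[X.presheaf.stalk x] N.presheaf.stalk x) := by
    intro x
    by_cases hx : x ∈ S
    · let s : S := ⟨x, hx⟩
      have hinj : Function.Injective (stalkLin i s.1) := stalkLin_injective i s.1
      have hinj2 : Function.Injective (LinearMap.toSpanSingleton (X.presheaf.stalk s.1) _ (w s)) := by
        rw [injective_iff_map_eq_zero]
        exact fun a ha => RkOne.eq_zero_of_smul (hw s) a ha
      let e₁ := LinearEquiv.ofInjective _ hinj2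
      let e₂ := LinearEquiv.ofInjective _ hinj
      let e₃ : LinearMap.range (LinearMap.toSpanSingleton (X.presheaf.stalk s.1) _ (w s)) ≃ₗ[X.presheaf.stalk s.1]
          LinearMap.range (stalkLin i s.1) :=
        LinearEquiv.ofEq _ _ (by rw [h1 s, LinearMap.range_toSpanSingleton])
      exact ⟨(e₁.trans e₃).trans e₂.symm⟩
    · obtain ⟨e⟩ := nonempty_equiv (htriv x hx)
      exact ⟨e.trans (LinearEquiv.ofBijective _ ⟨stalkLin_injective i x, h2 x hx⟩).symm⟩
  refine CurvesB.OmegaInv.isInvertible_of_stalks hN (fun x => ?_) (fun x => ?_)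
  · obtain ⟨e⟩ := key x
    exact Module.Free.of_equiv e
  · obtain ⟨e⟩ := key x
    rw [← e.finrank_eq, Module.finrank_self]

end Dim

end K321.TrivLoc
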